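import Mathlib

/-!
An odd automorphism `g` of an elementary abelian `2`-group, of order prime to `6`, inverted by an
involutory automorphism `a`: the fixed points of `a` meet their image under `g` trivially and have
order at least `4` on a fixed point free part.
-/

set_option autoImplicit false

namespace Cfsg.Agent.H9.SFree

open Subgroup

variable {G : Type*} [Group G]

/-- Elementary abelian of exponent dividing two, elementwise. -/
structure Elem (X : Subgroup G) : Prop where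
  comm : ∀ x ∈ X, ∀ y ∈ X, x * y = y * x
  sq : ∀ x ∈ X, x * x = 1

theorem Elem.inv_eq {X : Subgroup G} (h : Elem X) {x : G} (hx : x ∈ X) : x⁻¹ = x :=
  inv_eq_of_mul_eq_one_right (h.sq x hx)

theorem Elem.mono {X Y : Subgroup G} (h : Elem X) (hle : Y ≤ X) : Elem Y :=
  ⟨fun x hx y hy => h.comm x (hle hx) y (hle hy), fun x hx => h.sq x (hle hx)⟩

theorem conj_mem {X : Subgroup G} {g x : G} (hg : g ∈ normalizer (X : Set G)) (hx : x ∈ X) :
    g * x * g⁻¹ ∈ X := (mem_normalizer_iff.mp hg x).mp hx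

theorem conj_mem' {X : Subgroup G} {g x : G} (hg : g ∈ normalizer (X : Set G)) (hx : x ∈ X) :
    g⁻¹ * x * g ∈ X := by
  have := conj_mem (inv_mem hg) hx
  rwa [inv_inv] at this

theorem mem_centralizer_singleton' {g x : G} :
    x ∈ centralizer ({g} : Set G) ↔ g * x * g⁻¹ = x := by
  rw [mem_centralizer_singleton_iff, mul_inv_eq_iff_eq_mul]
  exact eq_comm

/-- `x ↦ [g, x]` on an abelian subgroup normalized by `g`. -/
def dispHom {X : Subgroup G} (hX : Elem X) {g : G} (hg : g ∈ normalizer (X : Set G)) : X →* G where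
  toFun x := g * x * g⁻¹ * (x : G)⁻¹
  map_one' := by simp
  map_mul' s t := by
    have h1 : g * (t : G) * g⁻¹ * (t : G)⁻¹ ∈ X := mul_mem (conj_mem hg t.2) (inv_mem t.2)
    simp only [Subgroup.coe_mul, mul_inv_rev]
    calc g * ((s : G) * t) * g⁻¹ * ((t : G)⁻¹ * (s : G)⁻¹)
        = (g * s * g⁻¹) * ((g * t * g⁻¹ * (t : G)⁻¹) * (s : G)⁻¹) := by group
      _ = (g * s * g⁻¹) * ((s : G)⁻¹ * (g * t * g⁻¹ * (t : G)⁻¹)) := by
          rw [hX.comm _ h1 _ (inv_mem s.2)]
      _ = _ := by group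

theorem dispHom_range_le {X : Subgroup G} (hX : Elem X) {g : G} (hg : g ∈ normalizer (X : Set G)) :
    (dispHom hX hg).range ≤ X := by
  rintro _ ⟨s, rfl⟩
  exact mul_mem (conj_mem hg s.2) (inv_mem s.2)

theorem dispHom_ker {X : Subgroup G} (hX : Elem X) {g : G} (hg : g ∈ normalizer (X : Set G)) :
    (dispHom hX hg).ker = (X ⊓ centralizer ({g} : Set G)).subgroupOf X := by
  ext x
  rw [MonoidHom.mem_ker, mem_subgroupOf, mem_inf, mem_centralizer_singleton']
  show g * (x : G) * g⁻¹ * (x : G)⁻¹ = 1 ↔ _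
  rw [mul_inv_eq_one]
  exact ⟨fun h => ⟨x.2, h⟩, fun h => h.2⟩

theorem card_dispHom_range {X : Subgroup G} (hX : Elem X) {g : G}
    (hg : g ∈ normalizer (X : Set G)) :
    Nat.card (dispHom hX hg).range = (X ⊓ centralizer ({g} : Set G)).relIndex X := by
  rw [← Subgroup.index_ker, dispHom_ker]
  rfl

theorem commute_of_sq {g x : G} (hodd : Nat.Coprime (orderOf g) 6) (h : Commute (g ^ 2) x) :
    Commute g x := by
  obtain ⟨m, hm⟩ := exists_pow_eq_self_of_coprime (x := g) (n := 2)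
    (hodd.symm.coprime_dvd_left (by norm_num))
  rw [← hm]
  exact h.pow_left m

/-- A set of at most four elements invariant under an element of order prime to six is fixed
pointwise. -/
theorem commute_of_small {g : G} (hodd : Nat.Coprime (orderOf g) 6) {S : Set G} (hfin : S.Finite)
    (hS : ∀ x ∈ S, g * x * g⁻¹ ∈ S) (hcard : S.ncard ≤ 4) {x : G} (hx : x ∈ S) :
    Commute g x := by
  have hit : ∀ i : ℕ, g ^ i * x * (g ^ i)⁻¹ ∈ S := by
    intro i
    induction i with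
    | zero => simpa using hx
    | succ i ih =>
      have h1 := hS _ ih
      have e : g * (g ^ i * x * (g ^ i)⁻¹) * g⁻¹ = g ^ (i + 1) * x * (g ^ (i + 1))⁻¹ := by
        rw [pow_succ', mul_inv_rev]; group
      rwa [e] at h1
  haveI := hfin.to_subtype
  obtain ⟨i, j, hne, he⟩ : ∃ i j : Fin 5, i ≠ j ∧
      g ^ (i : ℕ) * x * (g ^ (i : ℕ))⁻¹ = g ^ (j : ℕ) * x * (g ^ (j : ℕ))⁻¹ := by
    by_contra hcon
    push Not at hcon
    have h5 := Nat.card_le_card_of_injective (fun i : Fin 5 => (⟨_, hit i⟩ : S)) (fun i j hij => by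
      by_contra hne
      exact hcon i j hne (congrArg Subtype.val hij))
    rw [Nat.card_fin, Nat.card_coe_set_eq] at h5
    omega
  obtain ⟨d, hd1, hd4, hd⟩ : ∃ d : ℕ, 1 ≤ d ∧ d ≤ 4 ∧ Commute (g ^ d) x := by
    have key : ∀ i j : ℕ, i ≤ j → g ^ i * x * (g ^ i)⁻¹ = g ^ j * x * (g ^ j)⁻¹ →
        Commute (g ^ (j - i)) x := by
      intro i j hij h
      obtain ⟨d, rfl⟩ := Nat.exists_eq_add_of_le hij
      rw [Nat.add_sub_cancel_left]
      rw [pow_add, mul_inv_rev] at h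
      have h2 : x = g ^ d * x * (g ^ d)⁻¹ := by
        apply mul_left_cancel (a := g ^ i)
        apply mul_right_cancel (b := (g ^ i)⁻¹)
        rw [h]; group
      exact (eq_mul_inv_iff_mul_eq.mp h2).symm
    have hi := i.2
    have hj := j.2
    rcases le_total (i : ℕ) (j : ℕ) with hij | hij
    · exact ⟨j - i, by have := Fin.val_ne_of_ne hne; omega, by omega, key _ _ hij he⟩
    · exact ⟨i - j, by have := Fin.val_ne_of_ne hne; omega, by omega, key _ _ hij he.symm⟩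
  have hco : Nat.Coprime (orderOf g) d := by
    have h6 : Nat.Coprime (orderOf g) (6 * 6) := Nat.Coprime.mul_right hodd hodd
    refine h6.coprime_dvd_right ?_
    interval_cases d <;> norm_num
  obtain ⟨m, hm⟩ := exists_pow_eq_self_of_coprime (x := g) (n := d) hco.symm
  rw [← hm]
  exact hd.pow_left m

/-- The commutation rule of an inverting element. -/
theorem conj_eq_of_inverted {X : Subgroup G} {g a x : G} (hg : g ∈ normalizer (X : Set G))
    (hd : a * g * a⁻¹ * g ∈ centralizer (X : Set G)) (hx : x ∈ X) (hax : a * x * a⁻¹ = x)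
    (hagx : a * (g * x * g⁻¹) * a⁻¹ = g * x * g⁻¹) : g * x * g⁻¹ = g⁻¹ * x * g := by
  have h1 := mem_centralizer_iff.mp hd (g⁻¹ * x * g) (conj_mem' hg hx)
  rw [← hagx]
  calc a * (g * x * g⁻¹) * a⁻¹ = (a * g * a⁻¹) * (a * x * a⁻¹) * (a * g * a⁻¹)⁻¹ := by group
    _ = (a * g * a⁻¹ * g) * (g⁻¹ * x * g) * (a * g * a⁻¹ * g)⁻¹ := by rw [hax]; group
    _ = _ := by rw [← h1, mul_inv_cancel_right]

/-- The structure of a fixed point free part. -/
theorem fpf_structure {X : Subgroup G} [Finite X] (hX : Elem X) {g a : G}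
    (hg : g ∈ normalizer (X : Set G)) (ha : a ∈ normalizer (X : Set G))
    (hodd : Nat.Coprime (orderOf g) 6) (hd : a * g * a⁻¹ * g ∈ centralizer (X : Set G))
    (ha2 : a * a ∈ centralizer (X : Set G)) (hfix : ∀ x ∈ X, g * x * g⁻¹ = x → x = 1) :
    (∀ x ∈ X, a * x * a⁻¹ = x → a * (g * x * g⁻¹) * a⁻¹ = g * x * g⁻¹ → x = 1) ∧
      (dispHom hX ha).range = X ⊓ centralizer ({a} : Set G) ∧
      Nat.card X = Nat.card ↥(X ⊓ centralizer ({a} : Set G)) ^ 2 ∧
      (X ≠ ⊥ → 4 ≤ Nat.card ↥(X ⊓ centralizer ({a} : Set G))) := by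
  set C := X ⊓ centralizer ({a} : Set G) with hC
  have hdis : ∀ x ∈ X, a * x * a⁻¹ = x → a * (g * x * g⁻¹) * a⁻¹ = g * x * g⁻¹ → x = 1 := by
    intro x hx hax hagx
    have e := conj_eq_of_inverted hg hd hx hax hagx
    refine hfix x hx ?_
    have h2 : Commute (g ^ 2) x := by
      show g ^ 2 * x = x * g ^ 2
      calc g ^ 2 * x = g * (g * x * g⁻¹) * g := by rw [pow_two]; group
        _ = g * (g⁻¹ * x * g) * g := by rw [e]
        _ = x * g ^ 2 := by rw [pow_two]; group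
    exact mul_inv_eq_iff_eq_mul.mpr (commute_of_sq hodd h2).eq
  haveI : Finite C := Finite.of_injective (Subgroup.inclusion (inf_le_left : C ≤ X))
    (Subgroup.inclusion_injective _)
  have hinj : Nat.card C * Nat.card C ≤ Nat.card X := by
    rw [← Nat.card_prod]
    refine Nat.card_le_card_of_injective (fun p : C × C =>
      (⟨(p.1 : G) * (g * p.2 * g⁻¹), mul_mem p.1.2.1 (conj_mem hg p.2.2.1)⟩ : X)) ?_
    rintro ⟨u, v⟩ ⟨u', v'⟩ h
    have h1 : (u : G) * (g * v * g⁻¹) = u' * (g * v' * g⁻¹) := congrArg Subtype.val h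
    have h2 : (u' : G)⁻¹ * u = g * ((v' : G) * (v : G)⁻¹) * g⁻¹ := by
      calc (u' : G)⁻¹ * u = (u' : G)⁻¹ * ((u : G) * (g * v * g⁻¹)) * (g * v * g⁻¹)⁻¹ := by group
        _ = _ := by rw [h1]; group
    have hv : (v' : G) * (v : G)⁻¹ ∈ C := mul_mem v'.2 (inv_mem v.2)
    have hu : (u' : G)⁻¹ * u ∈ C := mul_mem (inv_mem u'.2) u.2
    have h3 := hdis _ hv.1 (mem_centralizer_singleton'.mp hv.2)
      (mem_centralizer_singleton'.mp (h2 ▸ hu.2))
    have e : v' = v := Subtype.ext (mul_inv_eq_one.mp h3)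
    subst e
    have e2 : u = u' := Subtype.ext (mul_right_cancel h1)
    rw [e2]
  have hTC : (dispHom hX ha).range ≤ C := by
    rintro _ ⟨s, rfl⟩
    have ht : a * (s : G) * a⁻¹ * (s : G)⁻¹ ∈ X := mul_mem (conj_mem ha s.2) (inv_mem s.2)
    refine ⟨ht, mem_centralizer_singleton'.mpr ?_⟩
    show a * (a * (s : G) * a⁻¹ * (s : G)⁻¹) * a⁻¹ = a * (s : G) * a⁻¹ * (s : G)⁻¹
    have h2 := mem_centralizer_iff.mp ha2 s s.2
    calc a * (a * (s : G) * a⁻¹ * (s : G)⁻¹) * a⁻¹
        = ((a * a) * (s : G) * (a * a)⁻¹) * (a * (s : G)⁻¹ * a⁻¹) := by group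
      _ = (s : G) * (a * (s : G)⁻¹ * a⁻¹) := by rw [← h2, mul_inv_cancel_right]
      _ = (a * (s : G) * a⁻¹ * (s : G)⁻¹)⁻¹ := by group
      _ = _ := hX.inv_eq ht
  have hmul : Nat.card (dispHom hX ha).range * Nat.card C = Nat.card X := by
    rw [card_dispHom_range, mul_comm, ← relIndex_bot_left C,
      relIndex_mul_relIndex ⊥ C X bot_le inf_le_left, relIndex_bot_left]
  have hCpos : 0 < Nat.card C := Nat.card_pos
  have hTle : Nat.card (dispHom hX ha).range ≤ Nat.card C := Subgroup.card_le_of_le hTC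
  have hCle : Nat.card C ≤ Nat.card (dispHom hX ha).range :=
    Nat.le_of_mul_le_mul_right (by rw [hmul]; exact hinj) hCpos
  have hT : (dispHom hX ha).range = C := Subgroup.eq_of_le_of_card_ge hTC hCle
  have hsq : Nat.card X = Nat.card C ^ 2 := by rw [← hmul, hT, pow_two]
  refine ⟨hdis, hT, hsq, fun hne => ?_⟩
  by_contra hlt
  have hX4 : Nat.card X ≤ 4 := by
    rw [hsq]
    have hp : Nat.card C ∣ 2 ^ 2 ∨ Nat.card C ≤ 2 ∨ Nat.card C = 3 := by omega
    rcases hp with h | h | h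
    · have := Nat.le_of_dvd (by norm_num) h
      have h2 : (Nat.card C) ≤ 2 := by
        rcases (show Nat.card C = 1 ∨ Nat.card C = 2 ∨ Nat.card C = 3 by omega) with h' | h' | h'
        · omega
        · omega
        · rw [h'] at h; norm_num at h
      exact le_trans (Nat.pow_le_pow_left h2 2) le_rfl
    · exact le_trans (Nat.pow_le_pow_left h 2) le_rfl
    · -- a group of exponent two has no subgroup of order three
      exfalso
      haveI : Fact (Nat.Prime 3) := ⟨Nat.prime_three⟩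
      obtain ⟨c, hc⟩ := exists_prime_orderOf_dvd_card' (G := C) 3 (by rw [h])
      have h2 : c ^ 2 = 1 := Subtype.ext (by rw [pow_two]; exact hX.sq _ c.2.1)
      have h3 := orderOf_dvd_of_pow_eq_one h2
      rw [hc] at h3
      norm_num at h3
  apply hne
  rw [eq_bot_iff]
  intro x hx
  refine mem_bot.mpr (hfix x hx ?_)
  have := commute_of_small hodd (S := (X : Set G)) (Set.toFinite _) (fun y hy => conj_mem hg hy)
    (by rwa [← Nat.card_coe_set_eq]) hx
  exact mul_inv_eq_iff_eq_mul.mpr this.eq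

/-- The range of `dispHom g` is a fixed point free part, invariant under `g` and `a`. -/
theorem disp_fpf {X : Subgroup G} [Finite X] (hX : Elem X) {g a : G}
    (hg : g ∈ normalizer (X : Set G)) (ha : a ∈ normalizer (X : Set G))
    (hodd : Nat.Coprime (orderOf g) 6) (hd : a * g * a⁻¹ * g ∈ centralizer (X : Set G)) :
    g ∈ normalizer ((dispHom hX hg).range : Set G) ∧ a ∈ normalizer ((dispHom hX hg).range : Set G) ∧
      ∀ x ∈ (dispHom hX hg).range, g * x * g⁻¹ = x → x = 1 := by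
  set K := (dispHom hX hg).range with hK
  have hKX : K ≤ X := dispHom_range_le hX hg
  have hgK : g ∈ normalizer (K : Set G) := by
    haveI : Finite K := Finite.of_injective (Subgroup.inclusion hKX) (Subgroup.inclusion_injective _)
    apply mem_normalizer_fintype
    rintro _ ⟨s, rfl⟩
    refine ⟨⟨g * s * g⁻¹, conj_mem hg s.2⟩, ?_⟩
    show g * (g * (s : G) * g⁻¹) * g⁻¹ * (g * (s : G) * g⁻¹)⁻¹ =
      g * (g * (s : G) * g⁻¹ * (s : G)⁻¹) * g⁻¹
    group
  have haK : a ∈ normalizer (K : Set G) := by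
    haveI : Finite K := Finite.of_injective (Subgroup.inclusion hKX) (Subgroup.inclusion_injective _)
    apply mem_normalizer_fintype
    rintro _ ⟨s, rfl⟩
    have hy : a * (s : G) * a⁻¹ ∈ X := conj_mem ha s.2
    have hgy : g⁻¹ * (a * (s : G) * a⁻¹) * g ∈ X := conj_mem' hg hy
    have hgys : g⁻¹ * (a * (s : G)⁻¹ * a⁻¹) * g ∈ X := by
      have := inv_mem hgy
      convert this using 1
      group
    refine ⟨⟨_, hgys⟩, ?_⟩
    show g * (g⁻¹ * (a * (s : G)⁻¹ * a⁻¹) * g) * g⁻¹ * (g⁻¹ * (a * (s : G)⁻¹ * a⁻¹) * g)⁻¹ =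
      a * (g * (s : G) * g⁻¹ * (s : G)⁻¹) * a⁻¹
    have h1 := mem_centralizer_iff.mp hd _ hgy
    calc g * (g⁻¹ * (a * (s : G)⁻¹ * a⁻¹) * g) * g⁻¹ * (g⁻¹ * (a * (s : G)⁻¹ * a⁻¹) * g)⁻¹
        = (a * (s : G) * a⁻¹)⁻¹ * (g⁻¹ * (a * (s : G) * a⁻¹) * g) := by group
      _ = (g⁻¹ * (a * (s : G) * a⁻¹) * g) * (a * (s : G) * a⁻¹)⁻¹ :=
          hX.comm _ (inv_mem hy) _ hgy
      _ = ((a * g * a⁻¹ * g) * (g⁻¹ * (a * (s : G) * a⁻¹) * g) * (a * g * a⁻¹ * g)⁻¹) *
          (a * (s : G) * a⁻¹)⁻¹ := by rw [← h1, mul_inv_cancel_right]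
      _ = _ := by group
  have hfix : ∀ x ∈ K, g * x * g⁻¹ = x → x = 1 := by
    rintro k hkK hk
    obtain ⟨s, hs⟩ := hkK
    change g * (s : G) * g⁻¹ * (s : G)⁻¹ = k at hs
    have h1 : g * (s : G) * g⁻¹ = k * s := mul_inv_eq_iff_eq_mul.mp hs
    have h : ∀ i : ℕ, g ^ i * (s : G) * (g ^ i)⁻¹ = k ^ i * s := by
      intro i
      induction i with
      | zero => simp
      | succ i ih =>
        calc g ^ (i + 1) * (s : G) * (g ^ (i + 1))⁻¹
            = g * (g ^ i * (s : G) * (g ^ i)⁻¹) * g⁻¹ := by rw [pow_succ']; group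
          _ = (g * k * g⁻¹) ^ i * (g * (s : G) * g⁻¹) := by rw [ih, conj_pow]; group
          _ = _ := by rw [hk, h1, ← mul_assoc, ← pow_succ]
    have h2 := h (orderOf g)
    rw [pow_orderOf_eq_one, one_mul, inv_one, mul_one, right_eq_mul] at h2
    have h4 : orderOf k ∣ Nat.gcd (orderOf g) 2 :=
      Nat.dvd_gcd (orderOf_dvd_of_pow_eq_one h2) (orderOf_dvd_of_pow_eq_one (by
        rw [pow_two]; exact hX.sq k (hKX ⟨s, hs⟩)))
    rw [(hodd.coprime_dvd_right (by norm_num : 2 ∣ 6)).gcd_eq_one, Nat.dvd_one] at h4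
    exact orderOf_eq_one_iff.mp h4
  exact ⟨hgK, haK, hfix⟩

/-- If `a` fixes a subgroup of index at most two, `g` acts trivially. -/
theorem centralizes_of_small {X : Subgroup G} [Finite X] (hX : Elem X) {g a : G}
    (hg : g ∈ normalizer (X : Set G)) (ha : a ∈ normalizer (X : Set G))
    (hodd : Nat.Coprime (orderOf g) 6) (hd : a * g * a⁻¹ * g ∈ centralizer (X : Set G))
    (ha2 : a * a ∈ centralizer (X : Set G))
    (hsmall : (X ⊓ centralizer ({a} : Set G)).relIndex X ≤ 2) :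
    ∀ x ∈ X, g * x * g⁻¹ = x := by
  set K := (dispHom hX hg).range with hK
  have hKX : K ≤ X := dispHom_range_le hX hg
  obtain ⟨hgK, haK, hfix⟩ := disp_fpf hX hg ha hodd hd
  haveI : Finite K := Finite.of_injective (Subgroup.inclusion hKX) (Subgroup.inclusion_injective _)
  obtain ⟨-, hT, -, h4⟩ := fpf_structure (hX.mono hKX) hgK haK hodd
    (centralizer_le (SetLike.coe_subset_coe.mpr hKX) hd)
    (centralizer_le (SetLike.coe_subset_coe.mpr hKX) ha2) hfix
  have hK0 : K = ⊥ := by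
    by_contra hne
    have h5 := h4 hne
    rw [← hT] at h5
    have hle : (dispHom (hX.mono hKX) haK).range ≤ (dispHom hX ha).range := by
      rintro _ ⟨s, rfl⟩
      exact ⟨⟨s, hKX s.2⟩, rfl⟩
    haveI : Finite (dispHom hX ha).range :=
      Finite.of_surjective _ (dispHom hX ha).rangeRestrict_surjective
    have h6 := Subgroup.card_le_of_le hle
    rw [card_dispHom_range hX ha] at h6
    omega
  intro x hx
  have : g * x * g⁻¹ * x⁻¹ ∈ K := ⟨⟨x, hx⟩, rfl⟩
  rw [hK0, mem_bot] at this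
  exact mul_inv_eq_one.mp this

/-- Both facts, through a homomorphism with kernel `M`. -/
theorem hom_facts {K H : Type*} [Group K] [Group H] [Finite K] [Finite H] (f : K →* H)
    {X : Subgroup K} (hker : f.ker ≤ X) (hE : Elem (X.map f)) {g a : K}
    (hgX : f g ∈ normalizer ((X.map f : Subgroup H) : Set H))
    (haX : f a ∈ normalizer ((X.map f : Subgroup H) : Set H))
    (hodd : Nat.Coprime (orderOf (f g)) 6)
    (hd : f a * f g * (f a)⁻¹ * f g ∈ centralizer ((X.map f : Subgroup H) : Set H))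
    (ha2 : f a * f a ∈ centralizer ((X.map f : Subgroup H) : Set H)) :
    (∀ C ≤ X, (∀ x ∈ C, f a * f x * (f a)⁻¹ = f x) → C.relIndex X ≤ 2 →
        ∀ x ∈ X, f g * f x * (f g)⁻¹ = f x) ∧
      ((∀ x ∈ X, f g * f x * (f g)⁻¹ = f x → f x = 1) →
        (∀ x ∈ X, f a * f x * (f a)⁻¹ = f x →
          f a * (f g * f x * (f g)⁻¹) * (f a)⁻¹ = f g * f x * (f g)⁻¹ → f x = 1) ∧
        (∀ C ≤ X, f.ker ≤ C → (∀ x ∈ C, f a * f x * (f a)⁻¹ = f x) →
          f.ker.relIndex C ≤ (X ⊓ centralizer ({a} : Set K)).relIndex X) ∧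
        f.ker.relIndex X ≤ (X ⊓ centralizer ({a} : Set K)).relIndex X ^ 2) := by
  set Cq := X.map f ⊓ centralizer ({f a} : Set H) with hCq
  have hcmp : ∀ C ≤ X, (∀ x ∈ C, f a * f x * (f a)⁻¹ = f x) → C.map f ≤ Cq := by
    intro C hCX hC
    rintro _ ⟨x, hx, rfl⟩
    exact ⟨⟨x, hCX hx, rfl⟩, mem_centralizer_singleton'.mpr (hC x hx)⟩
  have hidx : ∀ C ≤ X, (∀ x ∈ C, f a * f x * (f a)⁻¹ = f x) →
      Cq.relIndex (X.map f) ≤ C.relIndex X := by
    intro C hCX hC
    refine le_trans (relIndex_le_of_le_left (hcmp C hCX hC) index_ne_zero_of_finite) ?_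
    rw [relIndex_map_map, sup_eq_left.mpr hker]
    exact relIndex_le_of_le_left le_sup_left index_ne_zero_of_finite
  constructor
  · intro C hCX hC hsmall x hx
    exact centralizes_of_small hE hgX haX hodd hd ha2 ((hidx C hCX hC).trans hsmall)
      (f x) ⟨x, hx, rfl⟩
  · intro hfix
    obtain ⟨hdis, -, hsqc, -⟩ := fpf_structure hE hgX haX hodd hd ha2
      (by rintro _ ⟨x, hx, rfl⟩ h; exact hfix x hx h)
    have hb : Cq.relIndex (X.map f) ≤ (X ⊓ centralizer ({a} : Set K)).relIndex X :=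
      hidx _ inf_le_left fun x hx => by
        rw [← map_inv, ← map_mul, ← map_mul, mem_centralizer_singleton'.mp hx.2]
    have hcard : Nat.card Cq * Cq.relIndex (X.map f) = Nat.card ↥(X.map f) := by
      rw [← relIndex_bot_left Cq, relIndex_mul_relIndex ⊥ Cq (X.map f) bot_le inf_le_left,
        relIndex_bot_left]
    have hCeq : Cq.relIndex (X.map f) = Nat.card Cq := by
      rw [hsqc, pow_two] at hcard
      exact Nat.eq_of_mul_eq_mul_left Nat.card_pos hcard
    rw [hCeq] at hb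
    refine ⟨fun x hx h1 h2 => hdis _ ⟨x, hx, rfl⟩ h1 h2, fun C hCX _ hC => ?_, ?_⟩
    · rw [relIndex_ker]
      exact (Subgroup.card_le_of_le (hcmp C hCX hC)).trans hb
    · rw [relIndex_ker, hsqc]
      exact Nat.pow_le_pow_left hb 2

/-- Both facts for a section `X / M`. -/
theorem section_facts [Finite G] {X M : Subgroup G} (hMX : M ≤ X)
    (hXM : X ≤ normalizer (M : Set G)) (hsq : ∀ x ∈ X, x * x ∈ M)
    (hcm : ∀ x ∈ X, ∀ y ∈ X, x * y * x⁻¹ * y⁻¹ ∈ M) {g a : G}
    (hgX : g ∈ normalizer (X : Set G)) (hgM : g ∈ normalizer (M : Set G))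
    (haX : a ∈ normalizer (X : Set G)) (haM : a ∈ normalizer (M : Set G))
    (hodd : Nat.Coprime (orderOf g) 6)
    (hd : ∀ x ∈ X, (a * g * a⁻¹ * g) * x * (a * g * a⁻¹ * g)⁻¹ * x⁻¹ ∈ M)
    (ha2 : ∀ x ∈ X, (a * a) * x * (a * a)⁻¹ * x⁻¹ ∈ M) :
    (∀ C ≤ X, (∀ x ∈ C, a * x * a⁻¹ * x⁻¹ ∈ M) → C.relIndex X ≤ 2 →
        ∀ x ∈ X, g * x * g⁻¹ * x⁻¹ ∈ M) ∧
      ((∀ x ∈ X, g * x * g⁻¹ * x⁻¹ ∈ M → x ∈ M) →
        (∀ x ∈ X, a * x * a⁻¹ * x⁻¹ ∈ M → a * (g * x * g⁻¹) * a⁻¹ * (g * x * g⁻¹)⁻¹ ∈ M → x ∈ M) ∧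
        (∀ C ≤ X, M ≤ C → (∀ x ∈ C, a * x * a⁻¹ * x⁻¹ ∈ M) →
          M.relIndex C ≤ (X ⊓ centralizer ({a} : Set G)).relIndex X) ∧
        M.relIndex X ≤ (X ⊓ centralizer ({a} : Set G)).relIndex X ^ 2) := by
  haveI : (M.subgroupOf (normalizer (M : Set G))).Normal := normal_in_normalizer
  obtain ⟨H, _, _, f, hfk⟩ : ∃ (H : Type _) (_ : Group H) (_ : Finite H)
      (f : ↥(normalizer (M : Set G)) →* H), f.ker = M.subgroupOf (normalizer (M : Set G)) :=
    ⟨_, inferInstance, inferInstance, QuotientGroup.mk' (M.subgroupOf (normalizer (M : Set G))),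
      QuotientGroup.ker_mk' _⟩
  have hk : ∀ z : ↥(normalizer (M : Set G)), f z = 1 ↔ (z : G) ∈ M := fun z => by
    rw [← MonoidHom.mem_ker, hfk, mem_subgroupOf]
  have hfix : ∀ h x : ↥(normalizer (M : Set G)),
      f h * f x * (f h)⁻¹ = f x ↔ (h : G) * x * (h : G)⁻¹ * (x : G)⁻¹ ∈ M := by
    intro h x
    rw [← mul_inv_eq_one, ← map_inv, ← map_inv, ← map_mul, ← map_mul, ← map_mul, hk]
    simp only [Subgroup.coe_mul, Subgroup.coe_inv]
  have hnorm : ∀ h : ↥(normalizer (M : Set G)), (h : G) ∈ normalizer (X : Set G) →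
      f h ∈ normalizer (((X.subgroupOf (normalizer (M : Set G))).map f : Subgroup H) : Set H) := by
    intro h hh
    apply mem_normalizer_fintype
    rintro _ ⟨x, hx, rfl⟩
    refine ⟨h * x * h⁻¹, conj_mem (X := X) hh hx, ?_⟩
    rw [map_mul, map_mul, map_inv]
  have hcent : ∀ h : ↥(normalizer (M : Set G)), (∀ x ∈ X, (h : G) * x * (h : G)⁻¹ * x⁻¹ ∈ M) →
      f h ∈ centralizer (((X.subgroupOf (normalizer (M : Set G))).map f : Subgroup H) : Set H) := by
    intro h hh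
    rw [mem_centralizer_iff]
    rintro _ ⟨x, hx, rfl⟩
    exact (mul_inv_eq_iff_eq_mul.mp ((hfix h x).mpr (hh x hx))).symm
  have hE : Elem ((X.subgroupOf (normalizer (M : Set G))).map f) := by
    constructor
    · rintro _ ⟨x, hx, rfl⟩ _ ⟨y, hy, rfl⟩
      exact mul_inv_eq_iff_eq_mul.mp ((hfix x y).mpr (hcm x hx y hy))
    · rintro _ ⟨x, hx, rfl⟩
      rw [← map_mul]; exact (hk _).mpr (hsq x hx)
  have hker : f.ker ≤ X.subgroupOf (normalizer (M : Set G)) := by
    rw [hfk]; exact fun z hz => hMX hz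
  obtain ⟨h1, h2⟩ := hom_facts f hker hE (g := ⟨g, hgM⟩) (a := ⟨a, haM⟩) (hnorm _ hgX) (hnorm _ haX)
    (Nat.Coprime.coprime_dvd_left ((orderOf_map_dvd f _).trans (by
      rw [← Subgroup.orderOf_coe])) hodd)
    (by rw [← map_inv, ← map_mul, ← map_mul, ← map_mul]; exact hcent _ hd)
    (by rw [← map_mul]; exact hcent _ ha2)
  have hrel : ∀ C : Subgroup G, (C.subgroupOf (normalizer (M : Set G))).relIndex
      (X.subgroupOf (normalizer (M : Set G))) = C.relIndex X := fun C =>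
    relIndex_subgroupOf hXM
  constructor
  · intro C hCX hC hsmall x hx
    refine (hfix ⟨g, hgM⟩ ⟨x, hXM hx⟩).mp (h1 (C.subgroupOf (normalizer (M : Set G)))
      (fun z hz => hCX hz) (fun z hz => (hfix _ _).mpr (hC z hz)) ?_ ⟨x, hXM hx⟩ hx)
    rw [hrel]; exact hsmall
  · intro hfp
    obtain ⟨hdis, hle, hsz⟩ := h2 fun x hx h => (hk x).mpr (hfp x hx ((hfix _ x).mp h))
    have hC : (X.subgroupOf (normalizer (M : Set G)) ⊓
        centralizer ({(⟨a, haM⟩ : ↥(normalizer (M : Set G)))} : Set ↥(normalizer (M : Set G)))).relIndex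
          (X.subgroupOf (normalizer (M : Set G))) =
        (X ⊓ centralizer ({a} : Set G)).relIndex X := by
      rw [← hrel (X ⊓ centralizer ({a} : Set G))]
      congr 1
      ext z
      simp only [mem_inf, mem_subgroupOf, mem_centralizer_singleton_iff, Subtype.ext_iff,
        Subgroup.coe_mul]
    rw [hC] at hsz
    refine ⟨fun x hx e1 e2 => (hk ⟨x, hXM hx⟩).mp (hdis _ hx ((hfix _ _).mpr e1) ?_),
      fun C hCX hMC hCa => ?_, ?_⟩
    · rw [← map_inv, ← map_mul, ← map_mul]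
      exact (hfix _ _).mpr e2
    · have := hle (C.subgroupOf (normalizer (M : Set G))) (fun z hz => hCX hz)
        (by rw [hfk]; exact fun z hz => hMC hz) (fun z hz => (hfix _ _).mpr (hCa z hz))
      rw [hC, hfk, relIndex_subgroupOf (hCX.trans hXM)] at this
      exact this
    · rw [hfk, relIndex_subgroupOf hXM] at hsz
      exact hsz

end Cfsg.Agent.H9.SFree
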