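import Mathlib
import Cfsg.Agent.H9.SFreeAct
import Cfsg.Agent.H1.CoprimeAction
import Cfsg.Agent.H83.TrivAction
import Cfsg.Agent.H87.Stability
import Cfsg.Agent.H10.OffenderBasics
import Cfsg.Agent.H6.Basic

/-!
Margin property of a `2`-group acting on an elementary abelian group and its two consequences for an
element inverting an element of order prime to `6` modulo a `2`-group.
-/

set_option autoImplicit false

namespace Cfsg.Agent.H9.SFree

open Subgroup
open scoped commutatorElement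

variable {G : Type*} [Group G] [Finite G]

/-- Every subgroup of `S` inducing an elementary abelian group on `W` centralizes at most the square
root of the index. -/
def Margin (W S : Subgroup G) : Prop :=
  ∀ B ≤ S, (∀ x ∈ B, x * x ∈ centralizer (W : Set G)) →
    (∀ x ∈ B, ∀ y ∈ B, x * y * x⁻¹ * y⁻¹ ∈ centralizer (W : Set G)) →
    (B ⊓ centralizer (W : Set G)).relIndex B ^ 2 ≤ (W ⊓ centralizer (B : Set G)).relIndex W

theorem Margin.mono {W S T : Subgroup G} (h : Margin W S) (hT : T ≤ S) : Margin W T :=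
  fun B hB => h B (hB.trans hT)

/-- Conjugation as a map of subgroups. -/
abbrev cj (g : G) (W : Subgroup G) : Subgroup G := W.map (MulAut.conj g).toMonoidHom

omit [Finite G] in
theorem cj_mul (g h : G) (W : Subgroup G) : cj (g * h) W = cj g (cj h W) := by
  rw [cj, cj, cj, map_map]
  congr 1
  ext x
  simp [mul_assoc]

omit [Finite G] in
theorem cj_one (W : Subgroup G) : cj (1 : G) W = W := by
  rw [cj, map_one]
  exact map_id W

omit [Finite G] in
theorem mem_cj {g x : G} {W : Subgroup G} : x ∈ cj g W ↔ g⁻¹ * x * g ∈ W := by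
  constructor
  · rintro ⟨y, hy, rfl⟩
    simpa [mul_assoc] using hy
  · intro h
    exact ⟨_, h, by simp [mul_assoc]⟩

omit [Finite G] in
theorem conj_mem_cj {g x : G} {W : Subgroup G} (hx : x ∈ W) : g * x * g⁻¹ ∈ cj g W := ⟨x, hx, rfl⟩

omit [Finite G] in
theorem cj_centralizer (g : G) (W : Subgroup G) :
    cj g (centralizer (W : Set G)) = centralizer (cj g W : Set G) := by
  ext x
  rw [mem_cj, mem_centralizer_iff, mem_centralizer_iff]
  constructor
  · rintro h _ ⟨w, hw, rfl⟩
    show g * w * g⁻¹ * x = x * (g * w * g⁻¹)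
    have := h w hw
    calc g * w * g⁻¹ * x = g * (w * (g⁻¹ * x * g)) * g⁻¹ := by group
      _ = g * ((g⁻¹ * x * g) * w) * g⁻¹ := by rw [this]
      _ = _ := by group
  · intro h w hw
    have := h _ (conj_mem_cj (g := g) hw)
    calc w * (g⁻¹ * x * g) = g⁻¹ * ((g * w * g⁻¹) * x) * g := by group
      _ = g⁻¹ * (x * (g * w * g⁻¹)) * g := by rw [this]
      _ = _ := by group

omit [Finite G] in
theorem relIndex_cj (g : G) (A B : Subgroup G) : (cj g A).relIndex (cj g B) = A.relIndex B :=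
  relIndex_map_map_of_injective A B (MulAut.conj g).injective

theorem Margin.conj {W S : Subgroup G} (h : Margin W S) (g : G) : Margin (cj g W) (cj g S) := by
  intro B hB hsq hcm
  have hBg : cj g (cj g⁻¹ B) = B := by rw [← cj_mul, mul_inv_cancel, cj_one]
  have hback : ∀ x, x ∈ centralizer (cj g W : Set G) → g⁻¹ * x * g ∈ centralizer (W : Set G) :=
    fun x hx => mem_cj.mp ((cj_centralizer g W).ge hx)
  have h1 := h (cj g⁻¹ B)
    (fun x hx => by
      rw [mem_cj, inv_inv] at hx
      have := mem_cj.mp (hB hx)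
      simpa [mul_assoc] using this)
    (fun x hx => by
      rw [mem_cj, inv_inv] at hx
      have := hback _ (hsq _ hx)
      convert this using 1
      group)
    (fun x hx y hy => by
      rw [mem_cj, inv_inv] at hx hy
      have := hback _ (hcm _ hx _ hy)
      convert this using 1
      group)
  have hinj : Function.Injective (MulAut.conj g).toMonoidHom := (MulAut.conj g).injective
  rw [← relIndex_cj g, ← relIndex_cj g (W ⊓ _)] at h1
  unfold cj at h1
  rw [Subgroup.map_inf _ _ _ hinj, Subgroup.map_inf _ _ _ hinj] at h1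
  change (cj g (cj g⁻¹ B) ⊓ cj g (centralizer (W : Set G))).relIndex (cj g (cj g⁻¹ B)) ^ 2 ≤
    (cj g W ⊓ cj g (centralizer (cj g⁻¹ B : Set G))).relIndex (cj g W) at h1
  rwa [cj_centralizer, cj_centralizer, hBg] at h1

omit [Finite G] in
theorem cj_eq_of_mem {Q : Subgroup G} {g : G} (hg : g ∈ normalizer (Q : Set G)) : cj g Q = Q :=
  mem_normalizer_iff_map_conj_eq.mp hg

/-- The subgroup generated by the conjugates of `W` under powers of `g`. -/
def span (g : G) (W : Subgroup G) : Subgroup G := ⨆ i : ℕ, cj (g ^ i) W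

omit [Finite G] in
theorem le_span (g : G) (W : Subgroup G) : W ≤ span g W := by
  refine le_trans ?_ (le_iSup (fun i : ℕ => cj (g ^ i) W) 0)
  rw [pow_zero, cj_one]

omit [Finite G] in
theorem span_le {g : G} {W U : Subgroup G} (hWU : W ≤ U) (hg : g ∈ normalizer (U : Set G)) :
    span g W ≤ U :=
  iSup_le fun i => (map_mono hWU).trans (cj_eq_of_mem (pow_mem hg i)).le

theorem mem_normalizer_span (g : G) (W : Subgroup G) : g ∈ normalizer (span g W : Set G) := by
  apply mem_normalizer_fintype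
  intro x hx
  have h : cj g (span g W) ≤ span g W := by
    rw [cj, span, Subgroup.map_iSup]
    refine iSup_le fun i => le_trans ?_ (le_iSup (fun i : ℕ => cj (g ^ i) W) (i + 1))
    rw [pow_succ', cj_mul]
  exact h (conj_mem_cj hx)

theorem le_normalizer_span {Q W : Subgroup G} {g : G} (hWQ : Q ≤ normalizer (W : Set G))
    (hgQ : g ∈ normalizer (Q : Set G)) : Q ≤ normalizer (span g W : Set G) := by
  intro q hq
  apply mem_normalizer_fintype
  intro x hx
  have h : cj q (span g W) ≤ span g W := by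
    rw [cj, span, Subgroup.map_iSup]
    refine iSup_le fun i => le_trans ?_ (le_iSup (fun i : ℕ => cj (g ^ i) W) i)
    change cj q (cj (g ^ i) W) ≤ cj (g ^ i) W
    have hq' : (g ^ i)⁻¹ * q * g ^ i ∈ Q := conj_mem' (pow_mem hgQ i) hq
    rw [← cj_mul, show q * g ^ i = g ^ i * ((g ^ i)⁻¹ * q * g ^ i) by group, cj_mul,
      cj_eq_of_mem (hWQ hq')]
  exact h (conj_mem_cj hx)

/-- The margin passes to the join of a family. -/
theorem margin_iSup {ι : Type*} {Q V : Subgroup G} (Ws : ι → Subgroup G) (hV : V = ⨆ i, Ws i)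
    (hM : ∀ i, Margin (Ws i) Q) : Margin V Q := by
  intro B
  induction hn : Nat.card B using Nat.strong_induction_on generalizing B with
  | _ n ih =>
    intro hBQ hsq hcm
    subst hn
    have hiV : ∀ i, Ws i ≤ V := fun i => hV ▸ le_iSup Ws i
    by_cases hB : B ≤ centralizer (V : Set G)
    · rw [inf_eq_left.mpr hB, relIndex_self, one_pow]
      exact Nat.one_le_iff_ne_zero.mpr index_ne_zero_of_finite
    obtain ⟨i, hi⟩ : ∃ i, ¬ B ≤ centralizer (Ws i : Set G) := by
      by_contra hcon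
      push Not at hcon
      apply hB
      rw [le_centralizer_iff, hV]
      exact iSup_le fun i => le_centralizer_iff.mp (hcon i)
    set B' := B ⊓ centralizer (Ws i : Set G) with hB'
    have hlt : Nat.card B' < Nat.card B := by
      refine lt_of_le_of_ne (card_le_of_le inf_le_left) fun he => hi ?_
      rw [← eq_of_le_of_card_ge (inf_le_left : B' ≤ B) he.ge]
      exact inf_le_right
    have hCV : centralizer (V : Set G) ≤ centralizer (Ws i : Set G) :=
      centralizer_le (SetLike.coe_subset_coe.mpr (hiV i))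
    have h1 := hM i B hBQ (fun x hx => hCV (hsq x hx)) (fun x hx y hy => hCV (hcm x hx y hy))
    have h2 := ih _ hlt B' rfl (inf_le_left.trans hBQ) (fun x hx => hsq x hx.1)
      (fun x hx y hy => hcm x hx.1 y hy.1)
    have h3 : (B ⊓ centralizer (V : Set G)).relIndex B =
        (B' ⊓ centralizer (V : Set G)).relIndex B' * B'.relIndex B := by
      rw [relIndex_mul_relIndex _ _ _ inf_le_left inf_le_left]
      congr 1
      rw [inf_assoc, inf_eq_right.mpr hCV]
    set U := V ⊓ centralizer (B' : Set G) with hU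
    have hle : V ⊓ centralizer (B : Set G) ≤ U :=
      inf_le_inf_left _ (centralizer_le (SetLike.coe_subset_coe.mpr inf_le_left))
    have h4 : (V ⊓ centralizer (B : Set G)).relIndex V =
        (V ⊓ centralizer (B : Set G)).relIndex U * U.relIndex V :=
      (relIndex_mul_relIndex _ U V hle inf_le_left).symm
    have h5 : (Ws i ⊓ centralizer (B : Set G)).relIndex (Ws i) ≤
        (V ⊓ centralizer (B : Set G)).relIndex U := by
      have hWU : Ws i ≤ U := le_inf (hiV i) (le_centralizer_iff.mp inf_le_right)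
      refine le_trans (le_of_eq ?_) (relIndex_le_of_le_right hWU index_ne_zero_of_finite)
      rw [← inf_relIndex_right (V ⊓ centralizer (B : Set G)) (Ws i)]
      congr 1
      rw [inf_right_comm, inf_eq_right.mpr (hiV i)]
    rw [h3, h4, mul_pow]
    calc _ ≤ U.relIndex V * (V ⊓ centralizer (B : Set G)).relIndex U :=
          Nat.mul_le_mul h2 (h1.trans h5)
      _ = _ := mul_comm _ _

theorem relIndex_inf_eq {H K : Subgroup G} : (K ⊓ H).relIndex K = H.relIndex K :=
  inf_relIndex_left K H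

/-- A `2`-element and an element of odd order inducing the same map. -/
theorem centralizes_of_eq_mod {X Q : Subgroup G} {g q : G} (hQ : IsPGroup 2 Q) (hq : q ∈ Q)
    (hgX : g ∈ normalizer (X : Set G)) (hqX : q ∈ normalizer (X : Set G))
    (hodd : Nat.Coprime (orderOf g) 6) (h : g * q ∈ centralizer (X : Set G)) :
    g ∈ centralizer (X : Set G) := by
  set N := normalizer (X : Set G) with hN
  haveI : ((centralizer (X : Set G)).subgroupOf N).Normal := by
    refine ⟨fun c hc n => ?_⟩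
    rw [mem_subgroupOf] at hc ⊢
    rw [mem_centralizer_iff] at hc ⊢
    intro x hx
    have := hc _ (conj_mem' n.2 hx)
    simp only [Subgroup.coe_mul, Subgroup.coe_inv]
    calc x * ((n : G) * c * (n : G)⁻¹) = (n : G) * (((n : G)⁻¹ * x * n) * c) * (n : G)⁻¹ := by group
      _ = (n : G) * (c * ((n : G)⁻¹ * x * n)) * (n : G)⁻¹ := by rw [this]
      _ = _ := by group
  set f := QuotientGroup.mk' ((centralizer (X : Set G)).subgroupOf N) with hf
  have h1 : f ⟨g, hgX⟩ = (f ⟨q, hqX⟩)⁻¹ := by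
    rw [eq_inv_iff_mul_eq_one, ← map_mul]
    exact (QuotientGroup.eq_one_iff _).mpr h
  obtain ⟨k, hk⟩ := IsPGroup.iff_orderOf.mp hQ ⟨q, hq⟩
  have hd2 : orderOf (f ⟨g, hgX⟩) ∣ 2 ^ k := by
    rw [h1, orderOf_inv, ← hk, ← Subgroup.orderOf_coe]
    exact (orderOf_map_dvd f _).trans (by rw [← Subgroup.orderOf_coe])
  have hd1 : orderOf (f ⟨g, hgX⟩) ∣ orderOf g :=
    (orderOf_map_dvd f _).trans (by rw [← Subgroup.orderOf_coe])
  have hco : Nat.Coprime (orderOf g) (2 ^ k) :=
    Nat.Coprime.pow_right k (hodd.coprime_dvd_right (by norm_num))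
  have : orderOf (f ⟨g, hgX⟩) = 1 := Nat.eq_one_of_dvd_coprimes hco hd1 hd2
  have h2 := orderOf_eq_one_iff.mp this
  exact (QuotientGroup.eq_one_iff (N := (centralizer (X : Set G)).subgroupOf N) ⟨g, hgX⟩).mp h2

/-- A `2`-group `Q` cannot generate `V` over an invariant subgroup by commutators. -/
theorem le_of_le_sup_commutator {Q V W : Subgroup G} (hQ : IsPGroup 2 Q) (hV : Elem V)
    (hQV : Q ≤ normalizer (V : Set G)) (hWV : W ≤ V) (hQW : Q ≤ normalizer (W : Set G))
    (h : V ≤ W ⊔ ⁅V, Q⁆) : V ≤ W := by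
  haveI : Fact (Nat.Prime 2) := ⟨Nat.prime_two⟩
  have hV2 : IsPGroup 2 V := fun x => ⟨1, Subtype.ext (by
    rw [pow_one, pow_two]; exact hV.sq x x.2)⟩
  have hP : IsPGroup 2 ↥(Q ⊔ V) := IsPGroup.to_sup_of_normal_right' hQ hV2 hQV
  haveI : Group.IsNilpotent ↥(Q ⊔ V) := hP.isNilpotent
  set L : ℕ → Subgroup G := fun i => (((⊤ : Subgroup ↥(Q ⊔ V)).lowerCentralSeries i).map (Q ⊔ V).subtype) with hL
  have key : ∀ i, V ≤ W ⊔ (L i ⊓ V) := by
    intro i
    induction i with
    | zero =>
      refine le_trans (le_of_eq ?_) le_sup_right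
      rw [hL]
      simp only [Subgroup.lowerCentralSeries_zero]
      rw [← MonoidHom.range_eq_map, range_subtype, inf_eq_right.mpr le_sup_right]
    | succ i ih =>
      refine h.trans (sup_le le_sup_left ?_)
      rw [commutator_le]
      intro v hv q hq
      obtain ⟨w, hw, x, hx, rfl⟩ : ∃ w ∈ W, ∃ x ∈ L i ⊓ V, v = w * x := by
        have hn : (L i ⊓ V : Subgroup G) ≤ normalizer (W : Set G) := fun x hx => by
          apply mem_normalizer_fintype
          intro w hw
          rw [hV.comm x hx.2 w (hWV hw), mul_inv_cancel_right]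
          exact hw
        exact H1.exists_mul_of_mem_sup hn (ih hv)
      have h1 : ⁅w, q⁆ ∈ W := by
        rw [commutatorElement_def, mul_assoc, mul_assoc, ← mul_assoc q]
        exact mul_mem hw (conj_mem (hQW hq) (inv_mem hw))
      have hxq : ⁅x, q⁆ ∈ V := by
        rw [commutatorElement_def, mul_assoc, mul_assoc, ← mul_assoc q]
        exact mul_mem hx.2 (conj_mem (hQV hq) (inv_mem hx.2))
      have h2 : ⁅x, q⁆ ∈ L (i + 1) := by
        obtain ⟨x', hx', rfl⟩ := hx.1
        refine ⟨⁅x', ⟨q, mem_sup_left hq⟩⁆, ?_, map_commutatorElement _ _ _⟩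
        exact commutator_mem_commutator hx' (mem_top _)
      have e : ⁅w * x, q⁆ = ⁅x, q⁆ * ⁅w, q⁆ := by
        have hc := hV.comm w (hWV hw) _ hxq
        calc ⁅w * x, q⁆ = w * ⁅x, q⁆ * w⁻¹ * ⁅w, q⁆ := by simp only [commutatorElement_def]; group
          _ = _ := by rw [hc, mul_inv_cancel_right]
      rw [e]
      exact mul_mem (mem_sup_right ⟨h2, hxq⟩) (mem_sup_left h1)
  obtain ⟨n, hn⟩ := Subgroup.nilpotent_iff_lowerCentralSeries.mp (inferInstance : Group.IsNilpotent ↥(Q ⊔ V))
  have h0 := key n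
  rw [show L n = ⊥ by rw [hL]; simp only [hn, Subgroup.map_bot], bot_inf_eq, sup_bot_eq] at h0
  exact h0

/-- An offender centralizing `W` forces the inverted element to normalize `W`. -/
theorem step_offender {W Q A : Subgroup G} {g a : G} (hQ : IsPGroup 2 Q)
    (hWQ : Q ≤ normalizer (W : Set G)) (hgQ : g ∈ normalizer (Q : Set G))
    (haQ : a ∈ normalizer (Q : Set G)) (hodd : Nat.Coprime (orderOf g) 6)
    (hinv : a * g * a⁻¹ * g ∈ Q) (hA : Elem A) (haA : a ∈ A) (hA1 : (A ⊓ Q).relIndex A ≤ 2)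
    (hAW : A ≤ centralizer (W : Set G)) (hM : Margin W Q) (hV : Elem (span g W))
    (hoff : (span g W ⊓ centralizer (A : Set G)).relIndex (span g W) ≤
      (A ⊓ centralizer (span g W : Set G)).relIndex A) :
    g ∈ normalizer (W : Set G) := by
  set V := span g W with hVdef
  have hWV : W ≤ V := le_span g W
  have hgV : g ∈ normalizer (V : Set G) := mem_normalizer_span g W
  have hQV : Q ≤ normalizer (V : Set G) := le_normalizer_span hWQ hgQ
  have hag : a * g * a⁻¹ ∈ normalizer (V : Set G) := by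
    have := mul_mem (hQV hinv) (inv_mem hgV)
    rwa [mul_inv_cancel_right] at this
  have haV : a ∈ normalizer (V : Set G) := by
    apply mem_normalizer_fintype
    intro x hx
    have h : cj a V ≤ V := by
      rw [hVdef, span, cj, Subgroup.map_iSup]
      refine iSup_le fun i => ?_
      rw [← span, ← hVdef]
      rintro _ ⟨_, ⟨w, hw, rfl⟩, rfl⟩
      show a * (g ^ i * w * (g ^ i)⁻¹) * a⁻¹ ∈ V
      have hwa : a * w * a⁻¹ = w := by
        have := mem_centralizer_iff.mp (hAW haA) w hw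
        rw [← this, mul_inv_cancel_right]
      have e : a * (g ^ i * w * (g ^ i)⁻¹) * a⁻¹ =
          (a * g * a⁻¹) ^ i * (a * w * a⁻¹) * ((a * g * a⁻¹) ^ i)⁻¹ := by rw [conj_pow]; group
      rw [e, hwa]
      exact conj_mem (pow_mem hag i) (hWV hw)
    exact h (conj_mem_cj hx)
  -- numerical bounds
  set c0 := ((A ⊓ Q) ⊓ centralizer (V : Set G)).relIndex (A ⊓ Q) with hc0
  set ea := (V ⊓ centralizer ({a} : Set G)).relIndex V with hea
  have hchain : Margin V Q := margin_iSup (fun i : ℕ => cj (g ^ i) W) rfl fun i => by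
    have := hM.conj (g ^ i)
    rwa [cj_eq_of_mem (pow_mem hgQ i)] at this
  have hb1 : c0 ^ 2 ≤ (V ⊓ centralizer ((A ⊓ Q : Subgroup G) : Set G)).relIndex V :=
    hchain _ inf_le_right (fun x hx => by rw [hA.sq x hx.1]; exact one_mem _)
      (fun x hx y hy => by
        rw [hA.comm x hx.1 y hy.1, mul_inv_cancel_right, mul_inv_cancel]; exact one_mem _)
  have hb2 : (V ⊓ centralizer ((A ⊓ Q : Subgroup G) : Set G)).relIndex V ≤
      (V ⊓ centralizer (A : Set G)).relIndex V :=
    relIndex_le_of_le_left (inf_le_inf_left _ (centralizer_le (SetLike.coe_subset_coe.mpr inf_le_left)))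
      index_ne_zero_of_finite
  have hb3 : (A ⊓ centralizer (V : Set G)).relIndex A ≤ c0 * 2 := by
    calc (A ⊓ centralizer (V : Set G)).relIndex A
        ≤ ((A ⊓ Q) ⊓ centralizer (V : Set G)).relIndex A :=
          relIndex_le_of_le_left (inf_le_inf_right _ inf_le_left) index_ne_zero_of_finite
      _ = c0 * (A ⊓ Q).relIndex A :=
          (relIndex_mul_relIndex _ _ _ inf_le_left inf_le_left).symm
      _ ≤ c0 * 2 := Nat.mul_le_mul_left _ hA1
  have hc2 : c0 ≤ 2 := by
    have h := hb1.trans (hb2.trans (hoff.trans hb3))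
    have hpos : 0 < c0 := Nat.pos_of_ne_zero index_ne_zero_of_finite
    rw [pow_two] at h
    exact Nat.le_of_mul_le_mul_left h hpos
  have hea1 : ea ≤ c0 * 2 := by
    refine le_trans (relIndex_le_of_le_left (inf_le_inf_left _ (centralizer_le ?_))
      index_ne_zero_of_finite) (hoff.trans hb3)
    exact Set.singleton_subset_iff.mpr haA
  have hea4 : ea ≤ 4 := by omega
  -- the quotient by `[V, Q]`
  set V' := ⁅V, Q⁆ with hV'
  have hV'V : V' ≤ V := H1.commutator_le_left_of_le_normalizer hQV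
  have hgV' : g ∈ normalizer (V' : Set G) := by
    have := H83.le_normalizer_commutator (zpowers_le.mpr hgV) (zpowers_le.mpr hgQ)
    exact this (mem_zpowers g)
  have haV' : a ∈ normalizer (V' : Set G) := by
    have := H83.le_normalizer_commutator (zpowers_le.mpr haV) (zpowers_le.mpr haQ)
    exact this (mem_zpowers a)
  have hqV' : ∀ q ∈ Q, ∀ x ∈ V, q * x * q⁻¹ * x⁻¹ ∈ V' := fun q hq x hx => by
    rw [hV', commutator_comm]
    exact commutator_mem_commutator hq hx
  have hVN : ∀ M : Subgroup G, M ≤ V → V ≤ normalizer (M : Set G) := fun M hM x hx => by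
    apply mem_normalizer_fintype
    intro m hm
    rw [hV.comm x hx m (hM hm), mul_inv_cancel_right]
    exact hm
  have ha2 : ∀ M : Subgroup G, ∀ x ∈ V, (a * a) * x * (a * a)⁻¹ * x⁻¹ ∈ M := fun M x _ => by
    rw [hA.sq a haA]; simp
  obtain ⟨hsmall, -⟩ := section_facts hV'V (hVN V' hV'V)
    (fun x hx => by rw [hV.sq x hx]; exact one_mem _)
    (fun x hx y hy => by rw [hV.comm x hx y hy, mul_inv_cancel_right, mul_inv_cancel]; exact one_mem _)
    hgV hgV' haV haV' hodd (fun x hx => hqV' _ hinv x hx) (ha2 V')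
  set C := (V ⊓ centralizer ({a} : Set G)) ⊔ V' with hC
  have hCV : C ≤ V := sup_le inf_le_left hV'V
  have hCa : ∀ x ∈ C, a * x * a⁻¹ * x⁻¹ ∈ V' := by
    set U := (V'.comap (dispHom hV haV)).map V.subtype with hU
    have hle : C ≤ U := sup_le
      (fun x hx => ⟨⟨x, hx.1⟩, (by
        show a * x * a⁻¹ * x⁻¹ ∈ V'
        rw [mem_centralizer_singleton'.mp hx.2, mul_inv_cancel]
        exact one_mem _), rfl⟩)
      (fun x hx => ⟨⟨x, hV'V hx⟩, mul_mem (conj_mem haV' hx) (inv_mem hx), rfl⟩)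
    intro x hx
    obtain ⟨y, hy, rfl⟩ := hle hx
    exact hy
  by_cases hC2 : C.relIndex V ≤ 2
  · -- `g` is trivial on `V / [V, Q]`
    have htop := hsmall C hCV hCa hC2
    have hWVn : V ≤ normalizer (W : Set G) := hVN W hWV
    have hle : V ≤ W ⊔ V' := by
      refine span_le le_sup_left ?_
      apply mem_normalizer_fintype
      intro u hu
      obtain ⟨w, hw, x, hx, rfl⟩ := H1.exists_mul_of_mem_sup ((hV'V).trans hWVn) hu
      have e : g * (w * x) * g⁻¹ = (g * w * g⁻¹ * w⁻¹) * w * (g * x * g⁻¹) := by group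
      rw [e]
      exact mul_mem (mul_mem (mem_sup_right (htop w (hWV hw))) (mem_sup_left hw))
        (mem_sup_right (conj_mem hgV' hx))
    have hVW := le_of_le_sup_commutator hQ hV hQV hWV hWQ hle
    have : V = W := le_antisymm hVW hWV
    rw [← this]
    exact hgV
  exfalso
  have hsplit : (V ⊓ centralizer ({a} : Set G)).relIndex C * C.relIndex V = ea :=
    relIndex_mul_relIndex _ _ _ le_sup_left hCV
  have hone : (V ⊓ centralizer ({a} : Set G)).relIndex C = 1 := by
    have hpos : 0 < (V ⊓ centralizer ({a} : Set G)).relIndex C :=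
      Nat.pos_of_ne_zero index_ne_zero_of_finite
    by_contra hne
    have h2 : 2 * C.relIndex V ≤ ea := hsplit ▸ Nat.mul_le_mul_right _ (by omega)
    omega
  have hV'a : V' ≤ centralizer ({a} : Set G) :=
    ((le_sup_right.trans (relIndex_eq_one.mp hone))).trans inf_le_right
  have hc0two : c0 ≠ 1 := by
    intro h1
    rw [hone, one_mul] at hsplit
    omega
  -- `g` centralizes `[V, Q]`
  have hgV'c : g ∈ centralizer (V' : Set G) := by
    set q0 := g⁻¹ * (a * g * a⁻¹ * g) * g with hq0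
    have hq0Q : q0 ∈ Q := conj_mem' hgQ hinv
    have hq0n : q0⁻¹ ∈ normalizer (V' : Set G) := by
      have := H83.le_normalizer_commutator hQV (le_normalizer (H := Q))
      exact inv_mem (this hq0Q)
    have h : g ^ 2 * q0⁻¹ ∈ centralizer (V' : Set G) := by
      rw [mem_centralizer_iff]
      intro x hx
      have hax := mem_centralizer_singleton'.mp (hV'a hx)
      have hagx := mem_centralizer_singleton'.mp (hV'a (conj_mem hgV' hx))
      have e2 : q0 * (g ^ 2)⁻¹ * x * (q0 * (g ^ 2)⁻¹)⁻¹ = x := by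
        calc q0 * (g ^ 2)⁻¹ * x * (q0 * (g ^ 2)⁻¹)⁻¹
            = g⁻¹ * (a * (g * (a⁻¹ * x * a) * g⁻¹) * a⁻¹) * g := by rw [hq0, pow_two]; group
          _ = g⁻¹ * (a * (g * x * g⁻¹) * a⁻¹) * g := by
              congr 5
              conv_lhs => rw [← hax]
              group
          _ = x := by rw [hagx]; group
      have e3 : (q0 * (g ^ 2)⁻¹)⁻¹ = g ^ 2 * q0⁻¹ := by group
      rw [← e3]
      have e4 := mul_inv_eq_iff_eq_mul.mp e2
      calc x * (q0 * (g ^ 2)⁻¹)⁻¹
          = (q0 * (g ^ 2)⁻¹)⁻¹ * ((q0 * (g ^ 2)⁻¹) * x) * (q0 * (g ^ 2)⁻¹)⁻¹ := by group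
        _ = _ := by rw [e4]; group
    have h2 := centralizes_of_eq_mod hQ (inv_mem hq0Q) (pow_mem hgV' 2) hq0n
      (Nat.Coprime.coprime_dvd_left (orderOf_pow_dvd 2) hodd) h
    rw [mem_centralizer_iff] at h2 ⊢
    intro x hx
    exact (commute_of_sq hodd (h2 x hx).symm).eq.symm
  -- the fixed points of `g`
  set M := V ⊓ centralizer ({g} : Set G) with hMdef
  have hMV : M ≤ V := inf_le_left
  have hV'M : V' ≤ M := le_inf hV'V fun x hx => mem_centralizer_singleton_iff.mpr
    (mem_centralizer_iff.mp hgV'c x hx)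
  have hgM : g ∈ normalizer (M : Set G) := by
    apply mem_normalizer_fintype
    intro x hx
    rw [show g * x * g⁻¹ = x from mem_centralizer_singleton'.mp hx.2]
    exact hx
  have hfixM : ∀ x ∈ V, g * x * g⁻¹ * x⁻¹ ∈ M → x ∈ M := by
    intro x hx hk
    set k := g * x * g⁻¹ * x⁻¹ with hkdef
    have hk' : g * k * g⁻¹ = k := mem_centralizer_singleton'.mp hk.2
    have h1 : g * x * g⁻¹ = k * x := by rw [hkdef, inv_mul_cancel_right]
    have h : ∀ i : ℕ, g ^ i * x * (g ^ i)⁻¹ = k ^ i * x := by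
      intro i
      induction i with
      | zero => simp
      | succ i ih =>
        calc g ^ (i + 1) * x * (g ^ (i + 1))⁻¹ = g * (g ^ i * x * (g ^ i)⁻¹) * g⁻¹ := by
              rw [pow_succ']; group
          _ = (g * k * g⁻¹) ^ i * (g * x * g⁻¹) := by rw [ih, conj_pow]; group
          _ = _ := by rw [hk', h1, ← mul_assoc, ← pow_succ]
    have h2 := h (orderOf g)
    rw [pow_orderOf_eq_one, one_mul, inv_one, mul_one, right_eq_mul] at h2
    have h4 : orderOf k ∣ Nat.gcd (orderOf g) 2 :=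
      Nat.dvd_gcd (orderOf_dvd_of_pow_eq_one h2)
        (orderOf_dvd_of_pow_eq_one (by rw [pow_two]; exact hV.sq k (hMV hk)))
    rw [(hodd.coprime_dvd_right (by norm_num : 2 ∣ 6)).gcd_eq_one, Nat.dvd_one,
      orderOf_eq_one_iff] at h4
    exact ⟨hx, mem_centralizer_singleton'.mpr (by rw [h1, h4, one_mul])⟩
  have haM : a ∈ normalizer (M : Set G) := by
    apply mem_normalizer_fintype
    intro x hx
    have hax : a * x * a⁻¹ ∈ V := conj_mem haV hx.1
    refine hfixM _ hax ?_
    have ha' : a⁻¹ = a := inv_eq_of_mul_eq_one_right (hA.sq a haA)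
    have hgx : g⁻¹ * x * g = x := by
      have := mem_centralizer_singleton'.mp hx.2
      calc g⁻¹ * x * g = g⁻¹ * (g * x * g⁻¹) * g := by rw [this]
        _ = x := by group
    have hgx' : g * x * g⁻¹ = x := mem_centralizer_singleton'.mp hx.2
    have e : g * (a * x * a⁻¹) * g⁻¹ =
        a * ((a * g * a⁻¹ * g) * x * (a * g * a⁻¹ * g)⁻¹) * a⁻¹ := by
      calc g * (a * x * a⁻¹) * g⁻¹ = g * (a⁻¹ * (g * x * g⁻¹) * a) * g⁻¹ := by rw [hgx', ha']
        _ = (a * a) * (g * (a⁻¹ * (g * x * g⁻¹) * a) * g⁻¹) * (a * a)⁻¹ := by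
            rw [hA.sq a haA]; group
        _ = _ := by group
    rw [e]
    have hm : a * ((a * g * a⁻¹ * g) * x * (a * g * a⁻¹ * g)⁻¹ * x⁻¹) * a⁻¹ ∈ V' :=
      conj_mem haV' (hqV' _ hinv x hx.1)
    have e2 : a * ((a * g * a⁻¹ * g) * x * (a * g * a⁻¹ * g)⁻¹) * a⁻¹ * (a * x * a⁻¹)⁻¹ =
        a * ((a * g * a⁻¹ * g) * x * (a * g * a⁻¹ * g)⁻¹ * x⁻¹) * a⁻¹ := by group
    rw [e2]
    exact hV'M hm
  obtain ⟨-, hfpf⟩ := section_facts hMV (hVN M hMV)
    (fun x hx => by rw [hV.sq x hx]; exact one_mem _)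
    (fun x hx y hy => by rw [hV.comm x hx y hy, mul_inv_cancel_right, mul_inv_cancel]; exact one_mem _)
    hgV hgM haV haM hodd (fun x hx => hV'M (hqV' _ hinv x hx)) (ha2 M)
  obtain ⟨hdis, hle, hsz⟩ := hfpf hfixM
  -- `[g, Q]`
  set R := ⁅zpowers g, Q⁆ with hR
  have hRQ : R ≤ Q := by
    rw [hR, commutator_comm]
    exact H1.commutator_le_left_of_le_normalizer (zpowers_le.mpr hgQ)
  have hgR : g ∈ normalizer (R : Set G) := by
    have : zpowers g ≤ normalizer (R : Set G) := H1.left_le_normalizer_commutator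
    exact this (mem_zpowers g)
  have hMR : M ≤ centralizer (R : Set G) := by
    rw [le_centralizer_iff, hR, commutator_le]
    intro h hh q hq
    obtain ⟨i, rfl⟩ := mem_zpowers_iff.mp hh
    rw [mem_centralizer_iff]
    intro v hv
    have hgi : ∀ y ∈ M, g ^ i * y = y * g ^ i := fun y hy =>
      ((show Commute g y from (mem_centralizer_singleton_iff.mp hy.2).symm).zpow_left i).eq
    have hm : q⁻¹ * v * q ∈ M := by
      have h1 := hV'M (hqV' _ (inv_mem hq) v hv.1)
      rw [inv_inv] at h1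
      have := mul_mem h1 hv
      rwa [inv_mul_cancel_right] at this
    have h2 := hgi _ hm
    have h3 := hgi _ hv
    rw [commutatorElement_def]
    calc v * (g ^ i * q * (g ^ i)⁻¹ * q⁻¹)
        = (v * g ^ i) * q * (g ^ i)⁻¹ * q⁻¹ := by group
      _ = (g ^ i * v) * q * (g ^ i)⁻¹ * q⁻¹ := by rw [h3]
      _ = g ^ i * q * ((q⁻¹ * v * q) * (g ^ i)⁻¹) * q⁻¹ := by group
      _ = g ^ i * q * ((g ^ i)⁻¹ * (g ^ i * (q⁻¹ * v * q)) * (g ^ i)⁻¹) * q⁻¹ := by group
      _ = g ^ i * q * ((g ^ i)⁻¹ * (q⁻¹ * v * q)) * q⁻¹ := by rw [h2]; group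
      _ = _ := by group
  -- `[g, Q]` induces an elementary abelian group
  have hRV : ∀ r ∈ R, ∀ v ∈ V, ∃ m ∈ M, r * v * r⁻¹ = m * v := fun r hr v hv =>
    ⟨_, hV'M (hqV' r (hRQ hr) v hv), by group⟩
  have hRfix : ∀ r ∈ R, ∀ m ∈ M, r * m * r⁻¹ = m := fun r hr m hm => by
    rw [mem_centralizer_iff.mp (hMR hm) r hr, mul_inv_cancel_right]
  have hW' : W ⊓ M ≤ W ⊓ centralizer (R : Set G) := inf_le_inf_left _ hMR
  set C' := W ⊔ M with hC'
  have hC'V : C' ≤ V := sup_le hWV hMV
  have hC'a : ∀ x ∈ C', a * x * a⁻¹ * x⁻¹ ∈ M := by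
    intro x hx
    obtain ⟨w, hw, m, hm, rfl⟩ := H1.exists_mul_of_mem_sup (hMV.trans (hVN W hWV)) hx
    have hwa : a * w = w * a := (mem_centralizer_iff.mp (hAW haA) w hw).symm
    have e : a * (w * m) * a⁻¹ * (w * m)⁻¹ = w * (a * m * a⁻¹ * m⁻¹) * w⁻¹ := by
      calc a * (w * m) * a⁻¹ * (w * m)⁻¹ = (a * w) * m * a⁻¹ * m⁻¹ * w⁻¹ := by group
        _ = _ := by rw [hwa]; group
    rw [e]
    exact conj_mem (hVN M hMV (hWV hw)) (mul_mem (conj_mem haM hm) (inv_mem hm))
  have hx4 : M.relIndex C' ≤ ea := hle C' hC'V le_sup_right hC'a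
  set b := (R ⊓ centralizer (W : Set G)).relIndex R with hb
  have hbsq : b ^ 2 ≤ M.relIndex C' := by
    refine le_trans (hM R hRQ ?_ ?_) ?_
    · intro r hr
      rw [mem_centralizer_iff]
      intro v hv
      obtain ⟨m, hm, e⟩ := hRV r hr v (hWV hv)
      have e2 : r * r * v * (r * r)⁻¹ = v := by
        calc r * r * v * (r * r)⁻¹ = r * (r * v * r⁻¹) * r⁻¹ := by group
          _ = r * (m * v) * r⁻¹ := by rw [e]
          _ = (r * m * r⁻¹) * (r * v * r⁻¹) := by group
          _ = v := by rw [hRfix r hr m hm, e, ← mul_assoc, hV.sq m (hMV hm), one_mul]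
      exact (mul_inv_eq_iff_eq_mul.mp e2).symm
    · intro r hr s hs
      rw [mem_centralizer_iff]
      intro v hv
      obtain ⟨m, hm, e⟩ := hRV r hr v (hWV hv)
      obtain ⟨n, hn, e'⟩ := hRV s hs v (hWV hv)
      have h1 : r * s * v * (r * s)⁻¹ = n * m * v := by
        calc r * s * v * (r * s)⁻¹ = r * (s * v * s⁻¹) * r⁻¹ := by group
          _ = r * (n * v) * r⁻¹ := by rw [e']
          _ = (r * n * r⁻¹) * (r * v * r⁻¹) := by group
          _ = _ := by rw [hRfix r hr n hn, e, mul_assoc]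
      have h2 : s * r * v * (s * r)⁻¹ = n * m * v := by
        calc s * r * v * (s * r)⁻¹ = s * (r * v * r⁻¹) * s⁻¹ := by group
          _ = s * (m * v) * s⁻¹ := by rw [e]
          _ = (s * m * s⁻¹) * (s * v * s⁻¹) := by group
          _ = _ := by rw [hRfix s hs m hm, e', ← mul_assoc, hV.comm m (hMV hm) n (hMV hn)]
      have e2 : (r * s * r⁻¹ * s⁻¹) * v * (r * s * r⁻¹ * s⁻¹)⁻¹ = v := by
        have h3 : (s * r)⁻¹ * (n * m * v) * (s * r) = v := by rw [← h2]; group
        calc (r * s * r⁻¹ * s⁻¹) * v * (r * s * r⁻¹ * s⁻¹)⁻¹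
            = (r * s) * ((s * r)⁻¹ * v * (s * r)) * (r * s)⁻¹ := by group
          _ = (r * s) * ((s * r)⁻¹ * ((n * m)⁻¹ * (n * m * v)) * (s * r)) * (r * s)⁻¹ := by group
          _ = ((r * s) * ((s * r)⁻¹ * (n * m)⁻¹ * (s * r)) * (r * s)⁻¹) *
              ((r * s) * ((s * r)⁻¹ * (n * m * v) * (s * r)) * (r * s)⁻¹) := by group
          _ = (n * m)⁻¹ * (n * m * v) := by
              rw [h3, h1]
              congr 1
              have hnm : (n * m)⁻¹ ∈ M := inv_mem (mul_mem hn hm)
              have f1 := mem_centralizer_iff.mp (hMR hnm) _ (mul_mem hs hr)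
              have f2 := mem_centralizer_iff.mp (hMR hnm) _ (mul_mem hr hs)
              calc r * s * ((s * r)⁻¹ * (n * m)⁻¹ * (s * r)) * (r * s)⁻¹
                  = r * s * ((s * r)⁻¹ * ((n * m)⁻¹ * (s * r))) * (r * s)⁻¹ := by group
                _ = r * s * ((s * r)⁻¹ * ((s * r) * (n * m)⁻¹)) * (r * s)⁻¹ := by rw [f1]
                _ = (r * s) * (n * m)⁻¹ * (r * s)⁻¹ := by group
                _ = _ := by rw [f2]; group
          _ = v := by group
      exact (mul_inv_eq_iff_eq_mul.mp e2).symm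
    · calc (W ⊓ centralizer (R : Set G)).relIndex W ≤ (W ⊓ M).relIndex W :=
            relIndex_le_of_le_left hW' index_ne_zero_of_finite
        _ = M.relIndex W := relIndex_inf_eq
        _ ≤ M.relIndex C' := relIndex_le_of_le_right le_sup_left index_ne_zero_of_finite
  have hb2' : b ≤ 2 := by
    by_contra hcon
    have : 3 ^ 2 ≤ b ^ 2 := Nat.pow_le_pow_left (by omega) 2
    omega
  have hRV' : ¬ (R ≤ centralizer (V : Set G)) := by
    intro hRc
    apply hc0two
    rw [hc0, inf_eq_left.mpr, relIndex_self]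
    rw [le_centralizer_iff]
    refine (span_le (U := V ⊓ centralizer ((A ⊓ Q : Subgroup G) : Set G))
      (le_inf hWV (le_centralizer_iff.mp (inf_le_left.trans hAW))) ?_).trans inf_le_right
    apply mem_normalizer_fintype
    intro u hu
    refine ⟨conj_mem hgV hu.1, mem_centralizer_iff.mpr fun x hx => ?_⟩
    have hr : g⁻¹ * x * g * x⁻¹ ∈ R := by
      rw [hR]
      have := commutator_mem_commutator (inv_mem (mem_zpowers g)) (Subgroup.mem_inf.mp hx).2
      rwa [commutatorElement_def, inv_inv] at this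
    have h2 := mem_centralizer_iff.mp (hRc hr) u hu.1
    have h3 := mem_centralizer_iff.mp hu.2 x hx
    have h4 : (g⁻¹ * x * g) * u = u * (g⁻¹ * x * g) := by
      calc (g⁻¹ * x * g) * u = (g⁻¹ * x * g * x⁻¹) * (x * u) := by group
        _ = ((g⁻¹ * x * g * x⁻¹) * u) * x := by rw [h3]; group
        _ = (u * (g⁻¹ * x * g * x⁻¹)) * x := by rw [← h2]
        _ = _ := by group
    calc x * (g * u * g⁻¹) = g * ((g⁻¹ * x * g) * u) * g⁻¹ := by group
      _ = g * (u * (g⁻¹ * x * g)) * g⁻¹ := by rw [h4]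
      _ = _ := by group
  by_cases hb1' : b = 1
  · -- `[g, Q]` centralizes `W`, hence `V`
    apply hRV'
    rw [le_centralizer_iff]
    refine (span_le (U := V ⊓ centralizer (R : Set G))
      (le_inf hWV (le_centralizer_iff.mp ((relIndex_eq_one.mp hb1').trans inf_le_right))) ?_).trans inf_le_right
    apply mem_normalizer_fintype
    intro u hu
    refine ⟨conj_mem hgV hu.1, mem_centralizer_iff.mpr fun x hx => ?_⟩
    have h2 := mem_centralizer_iff.mp hu.2 _ (conj_mem' hgR hx)
    calc x * (g * u * g⁻¹) = g * ((g⁻¹ * x * g) * u) * g⁻¹ := by group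
      _ = g * (u * (g⁻¹ * x * g)) * g⁻¹ := by rw [h2]
      _ = _ := by group
  have hbtwo : b = 2 := by
    have : 0 < b := Nat.pos_of_ne_zero index_ne_zero_of_finite
    omega
  rw [hbtwo] at hbsq
  -- `V` is generated by `C'` and its conjugate
  set D := C' ⊔ cj g C' with hD
  have hgC' : cj g C' ≤ V := by
    rintro _ ⟨x, hx, rfl⟩
    exact conj_mem hgV (hC'V hx)
  have hDV : D = V := by
    refine eq_of_le_of_card_ge (sup_le hC'V hgC') ?_
    have hmeet : C' ⊓ cj g C' ≤ M := by
      intro x hx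
      obtain ⟨hx1, y, hy, rfl⟩ := hx
      have hyM : y ∈ M := hdis y (hC'V hy) (hC'a y hy) (hC'a _ hx1)
      exact conj_mem hgM hyM
    have hcard := H10.card_mul_card_inf (H := C') (K := cj g C') (hC'V.trans (hVN _ hgC'))
    rw [cj, card_map_of_injective (MulAut.conj g).injective, ← cj, ← hD] at hcard
    have hCM : Nat.card C' = Nat.card M * M.relIndex C' := by
      rw [← relIndex_bot_left M, relIndex_mul_relIndex ⊥ M C' bot_le le_sup_right, relIndex_bot_left]
    have hVM : Nat.card V = Nat.card M * M.relIndex V := by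
      rw [← relIndex_bot_left M, relIndex_mul_relIndex ⊥ M V bot_le hMV, relIndex_bot_left]
    have h16 : M.relIndex V ≤ 16 := hsz.trans (by
      calc ea ^ 2 ≤ 4 ^ 2 := Nat.pow_le_pow_left hea4 2
        _ = 16 := by norm_num)
    have hm1 := card_le_of_le hmeet
    have key : Nat.card V * Nat.card M ≤ Nat.card D * Nat.card M := by
      calc Nat.card V * Nat.card M ≤ (Nat.card M * 16) * Nat.card M := by
            rw [hVM]; exact Nat.mul_le_mul_right _ (Nat.mul_le_mul_left _ h16)
        _ ≤ Nat.card C' * Nat.card C' := by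
            rw [hCM]
            have h4 : 4 ≤ M.relIndex C' := by simpa using hbsq
            calc Nat.card M * 16 * Nat.card M = (Nat.card M * 4) * (Nat.card M * 4) := by ring
              _ ≤ _ := Nat.mul_le_mul (Nat.mul_le_mul_left _ h4) (Nat.mul_le_mul_left _ h4)
        _ = Nat.card D * Nat.card ↥(C' ⊓ cj g C') := hcard.symm
        _ ≤ _ := Nat.mul_le_mul_left _ hm1
    exact Nat.le_of_mul_le_mul_right key Nat.card_pos
  set RW := R ⊓ centralizer (W : Set G) with hRW
  have hfour : (R ⊓ centralizer (V : Set G)).relIndex R ≤ 4 := by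
    have hcjR : cj g RW = R ⊓ centralizer (cj g W : Set G) := by
      rw [cj, hRW, map_inf _ _ _ (show Function.Injective (MulAut.conj g).toMonoidHom from (MulAut.conj g).injective)]
      change cj g R ⊓ cj g _ = _
      rw [cj_centralizer, cj_eq_of_mem hgR]
    have hsub : RW ⊓ cj g RW ≤ R ⊓ centralizer (V : Set G) := by
      rw [hcjR]
      rintro x ⟨⟨hxR, hxW⟩, -, hxgW⟩
      refine ⟨hxR, ?_⟩
      rw [← hDV, hD, hC']
      have hM' : ∀ m ∈ M, m * x = x * m := fun m hm => (mem_centralizer_iff.mp (hMR hm) x hxR).symm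
      have : W ⊔ M ⊔ cj g (W ⊔ M) ≤ centralizer ({x} : Set G) := by
        rw [cj, Subgroup.map_sup]
        refine sup_le (sup_le ?_ ?_) (sup_le ?_ ?_)
        · exact fun w hw => mem_centralizer_singleton_iff.mpr (mem_centralizer_iff.mp hxW w hw)
        · exact fun m hm => mem_centralizer_singleton_iff.mpr (hM' m hm)
        · exact fun w hw => mem_centralizer_singleton_iff.mpr (mem_centralizer_iff.mp hxgW w hw)
        · change cj g M ≤ _
          rw [cj_eq_of_mem hgM]
          exact fun m hm => mem_centralizer_singleton_iff.mpr (hM' m hm)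
      exact fun v hv => mem_centralizer_singleton_iff.mp (this hv)
    calc (R ⊓ centralizer (V : Set G)).relIndex R ≤ (RW ⊓ cj g RW).relIndex R :=
          relIndex_le_of_le_left hsub index_ne_zero_of_finite
      _ ≤ RW.relIndex R * (cj g RW).relIndex R := relIndex_inf_le
      _ = b * b := by
          conv_lhs => arg 2; rw [show R = cj g R from (cj_eq_of_mem hgR).symm]
          rw [relIndex_cj]
      _ ≤ 4 := by rw [hbtwo]
  apply hRV'
  -- a group of order at most four is fixed by `g`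
  set N := normalizer (V : Set G) with hN
  haveI : ((centralizer (V : Set G)).subgroupOf N).Normal := by
    refine ⟨fun c hc n => ?_⟩
    rw [mem_subgroupOf, mem_centralizer_iff] at hc ⊢
    intro x hx
    have := hc _ (conj_mem' n.2 hx)
    simp only [Subgroup.coe_mul, Subgroup.coe_inv]
    calc x * ((n : G) * c * (n : G)⁻¹) = (n : G) * (((n : G)⁻¹ * x * n) * c) * (n : G)⁻¹ := by group
      _ = (n : G) * (c * ((n : G)⁻¹ * x * n)) * (n : G)⁻¹ := by rw [this]
      _ = _ := by group
  set f := QuotientGroup.mk' ((centralizer (V : Set G)).subgroupOf N) with hf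
  set Rf := (R.subgroupOf N).map f with hRf
  have hcardR : Nat.card Rf ≤ 4 := by
    rw [hRf, ← relIndex_ker, hf, QuotientGroup.ker_mk', relIndex_subgroupOf (hRQ.trans hQV)]
    rwa [← relIndex_inf_eq]
  rw [hR, commutator_le]
  intro h hh q hq
  have hhodd : Nat.Coprime (orderOf h) 6 := by
    obtain ⟨i, rfl⟩ := mem_zpowers_iff.mp hh
    exact hodd.coprime_dvd_left (orderOf_dvd_of_pow_eq_one (by
      rw [← zpow_natCast, ← zpow_mul, mul_comm, zpow_mul, zpow_natCast, pow_orderOf_eq_one, one_zpow]))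
  have hhN : h ∈ N := (zpowers_le.mpr hgV) hh
  have hhR : h ∈ normalizer (R : Set G) := (zpowers_le.mpr hgR) hh
  have hqN : q ∈ N := hQV hq
  set r := ⁅h, q⁆ with hr
  have hrR : r ∈ R := by rw [hR]; exact commutator_mem_commutator hh hq
  have hrN : r ∈ N := hQV (hRQ hrR)
  let h' : N := ⟨h, hhN⟩
  let r' : N := ⟨r, hrN⟩
  let q' : N := ⟨q, hqN⟩
  have hcom : Commute (f h') (f r') := by
    refine commute_of_small ((Nat.Coprime.coprime_dvd_left ((orderOf_map_dvd f h').trans
      (by rw [← Subgroup.orderOf_coe])) hhodd)) (S := (Rf : Set (↥N ⧸ (centralizer (V : Set G)).subgroupOf N))) (Set.toFinite _) ?_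
      (by rwa [← Nat.card_coe_set_eq]) (by exact ⟨r', hrR, rfl⟩)
    rintro _ ⟨x, hx, rfl⟩
    refine ⟨h' * x * h'⁻¹, conj_mem (X := R) hhR hx, ?_⟩
    rw [map_mul, map_mul, map_inv]
  have hconj : ∀ i : ℕ, f h' ^ i * f q' * (f h' ^ i)⁻¹ = f r' ^ i * f q' := by
    intro i
    induction i with
    | zero => simp
    | succ i ih =>
      have e1 : f h' * f q' * (f h')⁻¹ = f r' * f q' := by
        rw [← map_inv, ← map_mul, ← map_mul, ← map_mul]
        congr 1
        refine Subtype.ext ?_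
        show h * q * h⁻¹ = r * q
        rw [hr, commutatorElement_def, inv_mul_cancel_right]
      calc f h' ^ (i + 1) * f q' * (f h' ^ (i + 1))⁻¹
          = f h' * (f h' ^ i * f q' * (f h' ^ i)⁻¹) * (f h')⁻¹ := by rw [pow_succ']; group
        _ = (f h' * f r' ^ i * (f h')⁻¹) * (f h' * f q' * (f h')⁻¹) := by rw [ih]; group
        _ = _ := by rw [(hcom.pow_right i).eq, mul_inv_cancel_right, e1, ← mul_assoc, ← pow_succ]
  have hn1 := hconj (orderOf h)
  have hh1 : f h' ^ orderOf h = 1 := by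
    rw [← map_pow, show h' ^ orderOf h = 1 from Subtype.ext (pow_orderOf_eq_one h), map_one]
  rw [hh1, one_mul, inv_one, mul_one, right_eq_mul] at hn1
  obtain ⟨k, hk⟩ := IsPGroup.iff_orderOf.mp hQ ⟨r, hRQ hrR⟩
  rw [Subgroup.orderOf_mk] at hk
  have hd1 : orderOf (f r') ∣ orderOf h := orderOf_dvd_of_pow_eq_one hn1
  have hd2 : orderOf (f r') ∣ 2 ^ k := (orderOf_map_dvd f r').trans (by
    rw [← Subgroup.orderOf_coe]; exact hk.dvd)
  have hone' : f r' = 1 := orderOf_eq_one_iff.mp (Nat.eq_one_of_dvd_coprimes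
    (Nat.Coprime.pow_right k (hhodd.coprime_dvd_right (by norm_num))) hd1 hd2)
  exact (QuotientGroup.eq_one_iff r').mp hone'

/-- `W` lies in the normal `2`-subgroup `Q`. -/
theorem step_inside {W Q : Subgroup G} {g w : G} (hQ : IsPGroup 2 Q) (hW : Elem W)
    (hWQ : Q ≤ normalizer (W : Set G)) (hgQ : g ∈ normalizer (Q : Set G))
    (hwQ : w ∈ normalizer (Q : Set G)) (hodd : Nat.Coprime (orderOf g) 6)
    (hgc : g ∉ centralizer (Q : Set G))
    (hinv : w * g * w⁻¹ * g ∈ Q) (hwW : w ∈ W) (hW1 : (W ⊓ Q).relIndex W ≤ 2)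
    (hM : Margin W Q) : False := by
  haveI : Fact (Nat.Prime 2) := ⟨Nat.prime_two⟩
  set D := W ⊓ Q with hD
  set W' := cj g W with hW'
  set D' := cj g D with hD'
  have hgeq : cj g Q = Q := cj_eq_of_mem hgQ
  have hD'Q : D' ≤ Q := (map_mono inf_le_right).trans hgeq.le
  have hW'e : Elem W' := by
    constructor
    · rintro _ ⟨x, hx, rfl⟩ _ ⟨y, hy, rfl⟩
      rw [← map_mul, ← map_mul, hW.comm x hx y hy]
    · rintro _ ⟨x, hx, rfl⟩
      rw [← map_mul, hW.sq x hx, map_one]
  have hMW' : Margin W' Q := by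
    have := hM.conj g
    rwa [hgeq] at this
  have hinj : Function.Injective (MulAut.conj g).toMonoidHom := (MulAut.conj g).injective
  have hW1' : D'.relIndex W' ≤ 2 := by rw [hD', hW', relIndex_cj]; exact hW1
  have hDW' : D' ≤ W' := map_mono inf_le_left
  set n' := (D' ⊓ centralizer (W : Set G)).relIndex D' with hn'
  set n := (D ⊓ centralizer (W' : Set G)).relIndex D with hn
  have bound : ∀ (W₁ W₂ D₁ D₂ : Subgroup G), D₁ ≤ Q → Elem W₂ → D₁ ≤ W₂ → Margin W₁ Q → D₂ ≤ W₁ →
      D₂.relIndex W₁ ≤ 2 → (D₁ ⊓ centralizer (W₁ : Set G)).relIndex D₁ ^ 2 ≤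
        (D₂ ⊓ centralizer (W₂ : Set G)).relIndex D₂ * 2 := by
    intro W₁ W₂ D₁ D₂ hD₁ hE₂ hD₁W hM₁ hD₂ h2
    refine le_trans (hM₁ D₁ hD₁ (fun x hx => by rw [hE₂.sq x (hD₁W hx)]; exact one_mem _)
      (fun x hx y hy => by
        rw [hE₂.comm x (hD₁W hx) y (hD₁W hy), mul_inv_cancel_right, mul_inv_cancel]; exact one_mem _)) ?_
    calc (W₁ ⊓ centralizer (D₁ : Set G)).relIndex W₁
        ≤ (D₂ ⊓ centralizer (W₂ : Set G)).relIndex W₁ :=
          relIndex_le_of_le_left (inf_le_inf hD₂ (centralizer_le (SetLike.coe_subset_coe.mpr hD₁W)))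
            index_ne_zero_of_finite
      _ = (D₂ ⊓ centralizer (W₂ : Set G)).relIndex D₂ * D₂.relIndex W₁ :=
          (relIndex_mul_relIndex _ _ _ inf_le_left hD₂).symm
      _ ≤ _ := Nat.mul_le_mul_left _ h2
  have h1 : n' ^ 2 ≤ n * 2 := bound W W' D' D hD'Q hW'e hDW' hM inf_le_left hW1
  have h2 : n ^ 2 ≤ n' * 2 := bound W' W D D' inf_le_right hW inf_le_left hMW' hDW' hW1'
  have hn'2 : n' ≤ 2 := by nlinarith [sq_nonneg (n : ℤ), sq_nonneg ((n : ℤ) - 2), sq_nonneg ((n' : ℤ) - 2)]
  -- the Frattini quotient of `Q`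
  set Φ := (frattini ↥Q).map Q.subtype with hΦ
  have hΦQ : Φ ≤ Q := map_subtype_le _
  have hnΦ : normalizer (Q : Set G) ≤ normalizer (Φ : Set G) :=
    H83.le_normalizer_map_of_characteristic le_rfl _
  have hQΦ : Q ≤ normalizer (Φ : Set G) := le_normalizer.trans hnΦ
  haveI : (Φ.subgroupOf (normalizer (Φ : Set G))).Normal := normal_in_normalizer
  set f := QuotientGroup.mk' (Φ.subgroupOf (normalizer (Φ : Set G))) with hf
  have hfk : ∀ z, f z = 1 ↔ (z : G) ∈ Φ := fun z => QuotientGroup.eq_one_iff z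
  let g' : ↥(normalizer (Φ : Set G)) := ⟨g, hnΦ hgQ⟩
  let w' : ↥(normalizer (Φ : Set G)) := ⟨w, hnΦ hwQ⟩
  set X := (Q.subgroupOf (normalizer (Φ : Set G))).map f with hX
  have hE : Elem X := by
    constructor
    · rintro _ ⟨x, hx, rfl⟩ _ ⟨y, hy, rfl⟩
      have h : f (x * y * x⁻¹ * y⁻¹) = 1 := (hfk _).mpr
        ⟨⟨x, hx⟩ * ⟨y, hy⟩ * (⟨x, hx⟩ : Q)⁻¹ * (⟨y, hy⟩ : Q)⁻¹,
          H6.commutator_le_frattini hQ (by
            rw [commutator_def, ← commutatorElement_def]
            exact commutator_mem_commutator (mem_top _) (mem_top _)), rfl⟩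
      rw [map_mul, map_mul, map_mul, map_inv, map_inv, mul_inv_eq_one, mul_inv_eq_iff_eq_mul] at h
      exact h
    · rintro _ ⟨x, hx, rfl⟩
      rw [← map_mul]
      refine (hfk _).mpr ⟨(⟨x, hx⟩ : Q) ^ 2, H6.pow_prime_mem_frattini hQ _, ?_⟩
      rw [pow_two]; rfl
  have hnorm : ∀ h : ↥(normalizer (Φ : Set G)), (h : G) ∈ normalizer (Q : Set G) →
      f h ∈ normalizer (X : Set _) := by
    intro h hh
    apply mem_normalizer_fintype
    rintro _ ⟨x, hx, rfl⟩
    refine ⟨h * x * h⁻¹, conj_mem (X := Q) hh hx, ?_⟩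
    rw [map_mul, map_mul, map_inv]
  have hgX := hnorm g' hgQ
  have hwX := hnorm w' hwQ
  have hoq : Nat.Coprime (orderOf (f g')) 6 :=
    hodd.coprime_dvd_left ((orderOf_map_dvd f g').trans (by rw [← Subgroup.orderOf_coe]))
  have hdq : f w' * f g' * (f w')⁻¹ * f g' ∈ centralizer (X : Set _) := by
    rw [← map_inv, ← map_mul, ← map_mul, ← map_mul, mem_centralizer_iff]
    intro x hx
    exact hE.comm x hx _ ⟨_, hinv, rfl⟩
  have hw2 : f w' * f w' ∈ centralizer (X : Set _) := by
    rw [← map_mul, show w' * w' = 1 from Subtype.ext (hW.sq w hwW), map_one]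
    exact one_mem _
  set K := (dispHom hE hgX).range with hK
  obtain ⟨hgK, hwK, hfix⟩ := disp_fpf hE hgX hwX hoq hdq
  have hKX : K ≤ X := dispHom_range_le hE hgX
  have hK0 : K ≠ ⊥ := by
    intro hK0
    apply hgc
    have hmap : cj g Q = Q := hgeq
    let α : MulAut Q := (Q.equivMapOfInjective (MulAut.conj g).toMonoidHom hinj).trans
      (MulEquiv.subgroupCongr hmap)
    have hα : ∀ x : Q, (α x : G) = g * x * g⁻¹ := fun x => rfl
    have hαx : ∀ x : Q, x⁻¹ * α x ∈ frattini ↥Q := by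
      intro x
      have hxN : (x : G) ∈ normalizer (Φ : Set G) := hQΦ x.2
      have hin : f g' * f ⟨x, hxN⟩ * (f g')⁻¹ * (f ⟨x, hxN⟩)⁻¹ ∈ K :=
        ⟨⟨f ⟨x, hxN⟩, ⟨_, x.2, rfl⟩⟩, rfl⟩
      rw [hK0, mem_bot, ← map_inv, ← map_inv, ← map_mul, ← map_mul, ← map_mul, hfk] at hin
      obtain ⟨y, hy, hy'⟩ := hin
      have e : y = α x * x⁻¹ := Subtype.ext (by
        rw [Subgroup.coe_mul, hα, Subgroup.coe_inv]; exact hy')
      rw [e] at hy
      haveI := frattini_characteristic (G := ↥Q)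
      have := (Subgroup.normal_of_characteristic (frattini ↥Q)).conj_mem _ hy x⁻¹
      convert this using 1
      group
    have hp := H87.isPGroup_of_trivial_mod_frattini hQ (zpowers α) (fun β hβ x => by
      let U : Subgroup (MulAut Q) :=
        { carrier := {β | ∀ x : Q, x⁻¹ * β x ∈ frattini ↥Q}
          one_mem' := fun x => by simp
          mul_mem' := fun {β γ} hb hc x => by
            have e : x⁻¹ * (β * γ) x = (x⁻¹ * γ x) * ((γ x)⁻¹ * β (γ x)) := by
              rw [MulAut.mul_apply]; group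
            rw [e]; exact mul_mem (hc x) (hb _)
          inv_mem' := fun {β} hb x => by
            have := inv_mem (hb (β⁻¹ x))
            rw [MulAut.apply_inv_self, mul_inv_rev, inv_inv] at this
            exact this }
      exact (zpowers_le.mpr (show α ∈ U from hαx) hβ) x)
    have hαn : α ^ orderOf g = 1 := by
      have hp' : ∀ i : ℕ, ∀ x : Q, ((α ^ i) x : G) = g ^ i * x * (g ^ i)⁻¹ := by
        intro i
        induction i with
        | zero => intro x; simp
        | succ i ih => intro x; rw [pow_succ', MulAut.mul_apply, hα, ih, pow_succ']; group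
      refine MulEquiv.ext fun x => Subtype.ext ?_
      rw [hp', pow_orderOf_eq_one, MulAut.one_apply]
      simp
    obtain ⟨k, hk⟩ := IsPGroup.iff_orderOf.mp hp ⟨α, mem_zpowers α⟩
    rw [Subgroup.orderOf_mk] at hk
    have hα1 : α = 1 := orderOf_eq_one_iff.mp (Nat.eq_one_of_dvd_coprimes
      (Nat.Coprime.pow_right k (hodd.coprime_dvd_right (by norm_num)))
      (orderOf_dvd_of_pow_eq_one hαn) hk.dvd)
    rw [mem_centralizer_iff]
    intro x hx
    have := congrArg (fun β : MulAut Q => ((β ⟨x, hx⟩ : Q) : G)) hα1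
    simp only [MulAut.one_apply] at this
    rw [hα] at this
    exact (mul_inv_eq_iff_eq_mul.mp this).symm
  obtain ⟨hdis, hT, -, h4⟩ := fpf_structure (hE.mono hKX) hgK hwK hoq
    (centralizer_le (SetLike.coe_subset_coe.mpr hKX) hdq)
    (centralizer_le (SetLike.coe_subset_coe.mpr hKX) hw2) hfix
  set T := (dispHom (hE.mono hKX) hwK).range with hTdef
  set T' := cj (f g') T with hT'
  have hT'card : 4 ≤ Nat.card T' := by
    rw [hT', cj, card_map_of_injective (MulAut.conj (f g')).injective, hT]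
    exact h4 hK0
  have hTD : T ≤ (D.subgroupOf (normalizer (Φ : Set G))).map f := by
    rintro _ ⟨⟨_, hs⟩, rfl⟩
    obtain ⟨q, hq, rfl⟩ := hKX hs
    have hq' : (q : G) ∈ Q := hq
    refine ⟨w' * q * w'⁻¹ * q⁻¹, mem_inf.mpr (show _ ∧ _ from
      ⟨?_, (show w * (q : G) * w⁻¹ * (q : G)⁻¹ ∈ Q from mul_mem (conj_mem hwQ hq') (inv_mem hq'))⟩), ?_⟩
    · show w * (q : G) * w⁻¹ * (q : G)⁻¹ ∈ W
      rw [show w * (q : G) * w⁻¹ * (q : G)⁻¹ = w * ((q : G) * w⁻¹ * (q : G)⁻¹) by group]
      exact mul_mem hwW (conj_mem (hWQ hq') (inv_mem hwW))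
    · rw [map_mul, map_mul, map_mul, map_inv, map_inv]; rfl
  have hT'D : T' ≤ (D'.subgroupOf (normalizer (Φ : Set G))).map f := by
    rintro _ ⟨t, ht, rfl⟩
    obtain ⟨d, hd, rfl⟩ := hTD ht
    refine ⟨g' * d * g'⁻¹, conj_mem_cj hd, ?_⟩
    rw [map_mul, map_mul, map_inv]; rfl
  set Cw := centralizer ({f w'} : Set _) with hCw
  have hT'C : Cw.relIndex T' = Nat.card T' := by
    rw [← inf_relIndex_right, show Cw ⊓ T' = ⊥ from ?_, relIndex_bot_left]
    rw [eq_bot_iff]
    rintro _ ⟨hxC, t, ht, rfl⟩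
    have htC : t ∈ K ⊓ centralizer ({f w'} : Set _) := hT ▸ ht
    have := hdis t htC.1 (mem_centralizer_singleton'.mp htC.2) (mem_centralizer_singleton'.mp hxC)
    rw [this, map_one]; exact one_mem _
  have hle : Cw.relIndex T' ≤ n' := by
    refine le_trans (relIndex_le_of_le_right hT'D index_ne_zero_of_finite) ?_
    rw [← relIndex_comap, hn']
    have h3 : D' ≤ normalizer (Φ : Set G) := hD'Q.trans hQΦ
    rw [← relIndex_subgroupOf (H := D' ⊓ centralizer (W : Set G)) h3]
    refine relIndex_le_of_le_left ?_ index_ne_zero_of_finite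
    intro x hx
    rw [mem_comap, hCw, mem_centralizer_singleton_iff, ← map_mul, ← map_mul]
    congr 1
    exact Subtype.ext (mem_centralizer_iff.mp hx.2 w hwW).symm
  omega

end Cfsg.Agent.H9.SFree
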