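import Mathlib
import Cfsg.Prelude.Def_CaseTheorems
import Cfsg.Prelude.Def_LocalEven
import Cfsg.Agent.H9.SFreeCore
import Cfsg.Agent.H30.SThreeSection
import Cfsg.Agent.H74.S4Iff
import Cfsg.Agent.H74.SylIn
import Cfsg.Agent.H74.ThompsonA
import Cfsg.Agent.H69.Char2
import Cfsg.Agent.H11.MaxFam
import Cfsg.Agent.H10.PSolvableDual
import Cfsg.Agent.H1.ThompsonTools
import Cfsg.Agent.H30.Basic
import Cfsg.Agent.H75.Basic

/-!
In a solvable group of characteristic two without `S₄` section, a subgroup `W` of a Sylow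
`2`-subgroup with the margin property, centralized by the elementary abelian subgroups of largest
order, is normalized by everything once it is normalized by `N(J(S))`.
-/

set_option autoImplicit false

namespace Cfsg.Agent.H9.SFree

open Subgroup
open scoped commutatorElement

variable {G : Type*} [Group G] [Finite G]

/-- `D` has index at most two in `A` when two cosets cover `A`. -/
theorem relIndex_le_two {D A : Subgroup G} {a : G} (ha : a ∈ A)
    (h : ∀ x ∈ A, x ∈ D ∨ a⁻¹ * x ∈ D) : D.relIndex A ≤ 2 := by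
  classical
  let a' : A := ⟨a, ha⟩
  have hs : Function.Surjective
      (fun b : Fin 2 => (QuotientGroup.mk (a' ^ (b : ℕ)) : A ⧸ D.subgroupOf A)) := by
    intro q
    induction q using QuotientGroup.induction_on with | H z =>
    rcases h z z.2 with hz | hz
    · exact ⟨0, QuotientGroup.eq.2 (by simpa [mem_subgroupOf] using hz)⟩
    · exact ⟨1, QuotientGroup.eq.2 (by simpa [mem_subgroupOf, a'] using hz)⟩
  have := Nat.card_le_card_of_surjective _ hs
  rw [Nat.card_fin] at this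
  exact this

theorem Elem.of_isElem {A : Subgroup G} (h : Cfsg.IsElementaryAbelian 2 A) : Elem A :=
  ⟨fun x hx y hy => (H11.comm_of_mulCommutative h.1 hx hy).eq,
    fun x hx => by rw [← pow_two]; exact h.2 x hx⟩

theorem Elem.isElem {A : Subgroup G} (h : Elem A) : Cfsg.IsElementaryAbelian 2 A :=
  ⟨H11.isMulCommutative_of_commute h.comm, fun x hx => by rw [pow_two]; exact h.sq x hx⟩

/-- The join of pairwise commuting elementary abelian subgroups. -/
theorem elem_iSup {ι : Type*} (f : ι → Subgroup G) (hf : ∀ i, Elem (f i))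
    (hc : ∀ i j, f i ≤ centralizer (f j : Set G)) : Elem (⨆ i, f i) := by
  have h1 : ∀ i, f i ≤ centralizer ((⨆ j, f j : Subgroup G) : Set G) := by
    intro i
    rw [le_centralizer_iff]
    exact iSup_le fun j => hc j i
  have h2 : (⨆ j, f j : Subgroup G) ≤ centralizer ((⨆ j, f j : Subgroup G) : Set G) := iSup_le h1
  have hcomm : ∀ x ∈ ⨆ j, f j, ∀ y ∈ ⨆ j, f j, x * y = y * x :=
    fun x hx y hy => mem_centralizer_iff.mp (h2 hy) x hx
  refine ⟨hcomm, fun x hx => ?_⟩
  let U : Subgroup G :=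
    { carrier := {x | x ∈ (⨆ j, f j : Subgroup G) ∧ x * x = 1}
      one_mem' := ⟨one_mem _, one_mul 1⟩
      mul_mem' := by
        rintro x y ⟨hx, hx2⟩ ⟨hy, hy2⟩
        refine ⟨mul_mem hx hy, ?_⟩
        calc x * y * (x * y) = x * (y * x) * y := by group
          _ = x * (x * y) * y := by rw [hcomm y hy x hx]
          _ = (x * x) * (y * y) := by group
          _ = 1 := by rw [hx2, hy2, one_mul]
      inv_mem' := by
        rintro x ⟨hx, hx2⟩
        refine ⟨inv_mem hx, ?_⟩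
        rw [← mul_inv_rev, hx2, inv_one] }
  have hle : (⨆ j, f j : Subgroup G) ≤ U :=
    iSup_le fun i y hy => ⟨le_iSup f i hy, (hf i).sq y hy⟩
  exact (hle hx).2

/-- Two conjugates of `W` inside each other's groups commute. -/
theorem centralizes_conj {W S : Subgroup G} {x : G} (hW : Elem W) (hM : Margin W S)
    (hW1 : cj x W ≤ S) (hW2 : W ≤ cj x S) : cj x W ≤ centralizer (W : Set G) := by
  have hE : Elem (cj x W) := by
    constructor
    · rintro _ ⟨a, ha, rfl⟩ _ ⟨b, hb, rfl⟩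
      rw [← map_mul, ← map_mul, hW.comm a ha b hb]
    · rintro _ ⟨a, ha, rfl⟩
      rw [← map_mul, hW.sq a ha, map_one]
  have bound : ∀ A B T : Subgroup G, Margin A T → Elem B → B ≤ T →
      (B ⊓ centralizer (A : Set G)).relIndex B ^ 2 ≤ (A ⊓ centralizer (B : Set G)).relIndex A :=
    fun A B T hA hB hBT => hA B hBT (fun y hy => by rw [hB.sq y hy]; exact one_mem _)
      (fun y hy z hz => by
        rw [hB.comm y hy z hz, mul_inv_cancel_right, mul_inv_cancel]; exact one_mem _)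
  have h1 := bound W (cj x W) S hM hE hW1
  have h2 := bound (cj x W) W (cj x S) (hM.conj x) hW hW2
  set n := (cj x W ⊓ centralizer (W : Set G)).relIndex (cj x W)
  set m := (W ⊓ centralizer (cj x W : Set G)).relIndex W
  have hn : 0 < n := Nat.pos_of_ne_zero index_ne_zero_of_finite
  have hn1 : n = 1 := by
    have h3 : n ^ 4 ≤ n := by
      calc n ^ 4 = (n ^ 2) ^ 2 := by ring
        _ ≤ m ^ 2 := Nat.pow_le_pow_left h1 2
        _ ≤ n := h2
    by_contra hne
    have : 2 ^ 3 ≤ n ^ 3 := Nat.pow_le_pow_left (by omega) 3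
    have : n * 8 ≤ n ^ 4 := by rw [pow_succ' n 3]; exact Nat.mul_le_mul_left n this
    omega
  exact (relIndex_eq_one.mp hn1).trans inf_le_right

/-- The weight of an elementary abelian subgroup of largest order on an elementary abelian group. -/
theorem offender_bound {A V S : Subgroup G} (hV : Elem V) (hVS : V ≤ S)
    (hA : A ∈ H11.maxFam (fun A : Subgroup G => Cfsg.IsElementaryAbelian 2 A) S) :
    (V ⊓ centralizer (A : Set G)).relIndex V ≤ (A ⊓ centralizer (V : Set G)).relIndex A := by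
  have hAe := Elem.of_isElem hA.2.1
  set A0 := A ⊓ centralizer (V : Set G) with hA0
  have hcom : ∀ x ∈ A0, ∀ y ∈ V, x * y = y * x :=
    fun x hx y hy => (mem_centralizer_iff.mp hx.2 y hy).symm
  have he : Cfsg.IsElementaryAbelian 2 (A0 ⊔ V : Subgroup G) :=
    H10.elementaryAbelian_sup (hAe.mono inf_le_left).isElem hV.isElem hcom
  have h1 := hA.2.2 _ (sup_le (inf_le_left.trans hA.1) hVS) he
  have hn : A0 ≤ normalizer (V : Set G) := inf_le_right.trans (centralizer_le_normalizer _)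
  have h2 := H10.card_mul_card_inf hn
  have h3 : Nat.card ↥(A0 ⊓ V) ≤ Nat.card ↥(V ⊓ centralizer (A : Set G)) := by
    refine card_le_of_le fun x hx => ⟨hx.2, ?_⟩
    exact mem_centralizer_iff.mpr fun y hy => hAe.comm y hy x hx.1.1
  have hA' : Nat.card A0 * A0.relIndex A = Nat.card A := by
    rw [← relIndex_bot_left A0, relIndex_mul_relIndex ⊥ A0 A bot_le inf_le_left, relIndex_bot_left]
  set C := V ⊓ centralizer (A : Set G) with hC
  have hV' : Nat.card C * C.relIndex V = Nat.card V := by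
    rw [← relIndex_bot_left C, relIndex_mul_relIndex ⊥ C V bot_le inf_le_left, relIndex_bot_left]
  have key : Nat.card A0 * Nat.card C * C.relIndex V ≤ Nat.card A0 * Nat.card C * A0.relIndex A := by
    calc Nat.card A0 * Nat.card C * C.relIndex V = Nat.card A0 * Nat.card V := by rw [← hV']; ring
      _ = Nat.card ↥(A0 ⊔ V) * Nat.card ↥(A0 ⊓ V) := h2.symm
      _ ≤ Nat.card A * Nat.card C := Nat.mul_le_mul h1 h3
      _ = _ := by rw [← hA']; ring
  exact Nat.le_of_mul_le_mul_left key (Nat.mul_pos Nat.card_pos Nat.card_pos)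

/-- `S₃` is not involved above `O₂` in an `S₄`-free group of characteristic two. -/
theorem orderOf_coprime_three {Γ : Type*} [Group Γ] [Finite Γ]
    (hfree : ¬ Cfsg.Involves (Equiv.Perm (Fin 4)) Γ) (N : Subgroup Γ) [N.Normal] (hN : IsPGroup 2 N)
    (hC : centralizer (N : Set Γ) ≤ N) {y t : Γ ⧸ N} (ht : t * t = 1)
    (hinv : t * y * t⁻¹ = y⁻¹) : ¬ 3 ∣ orderOf y := by
  intro h3
  set y' := y ^ (orderOf y / 3) with hy'
  have hy'o : orderOf y' = 3 ^ (0 + 1) := by
    rw [zero_add, pow_one, hy', orderOf_pow_orderOf_div (orderOf_pos y).ne' h3]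
  have hinv' : t * y' * t⁻¹ = y'⁻¹ := by rw [hy', ← conj_pow, hinv, inv_pow]
  obtain ⟨k, hk⟩ : ∃ k, orderOf t = 2 ^ k := by
    rcases (Nat.dvd_prime Nat.prime_two).mp (orderOf_dvd_of_pow_eq_one (x := t) (n := 2) (by rw [pow_two]; exact ht)) with h | h
    · exact ⟨0, by rw [h, pow_zero]⟩
    · exact ⟨1, by rw [h, pow_one]⟩
  have hS3 : Cfsg.Involves (Equiv.Perm (Fin 3)) (Γ ⧸ N) :=
    H74.S4Section.involves_symm_three hk hy'o hinv'
  apply hfree
  refine H74.S4Section.symm_four_of_automizer hN ?_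
  set U := normalizer (N : Set Γ) with hU
  have hle : (centralizer (N : Set Γ)).subgroupOf U ≤
      ((QuotientGroup.mk' N).comp U.subtype).ker := by
    intro x hx
    rw [MonoidHom.mem_ker]
    exact (QuotientGroup.eq_one_iff _).mpr (hC hx)
  haveI hn : ((centralizer (N : Set Γ)).subgroupOf U).Normal := by
    refine ⟨fun c hc n => ?_⟩
    rw [mem_subgroupOf] at hc ⊢
    rw [mem_centralizer_iff] at hc ⊢
    intro x hx
    have := hc _ (conj_mem' n.2 hx)
    simp only [Subgroup.coe_mul, Subgroup.coe_inv]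
    calc x * ((n : Γ) * c * (n : Γ)⁻¹) = (n : Γ) * (((n : Γ)⁻¹ * x * n) * c) * (n : Γ)⁻¹ := by group
      _ = (n : Γ) * (c * ((n : Γ)⁻¹ * x * n)) * (n : Γ)⁻¹ := by rw [this]
      _ = _ := by group
  set φ := QuotientGroup.lift ((centralizer (N : Set Γ)).subgroupOf U)
    ((QuotientGroup.mk' N).comp U.subtype) hle with hφ
  have hsurj : Function.Surjective φ := by
    intro z
    obtain ⟨x, rfl⟩ := QuotientGroup.mk'_surjective N z
    exact ⟨QuotientGroup.mk' _ ⟨x, by rw [hU, normalizer_eq_top]; exact mem_top x⟩, rfl⟩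
  haveI : φ.ker.Normal := inferInstance
  exact H74.JA.involves_quotient
    (H74.JA.involves_of_equiv (QuotientGroup.quotientKerEquivOfSurjective φ hsurj).symm hS3)

/-- A lift of an element of odd order in a quotient by a `2`-group. -/
theorem exists_lift {Γ : Type*} [Group Γ] [Finite Γ] {N : Subgroup Γ} [N.Normal] (hN : IsPGroup 2 N)
    (y : Γ ⧸ N) (hy : Nat.Coprime (orderOf y) 6) :
    ∃ g : Γ, Nat.Coprime (orderOf g) 6 ∧ ∃ i j : ℕ, QuotientGroup.mk' N g = y ^ i ∧
      y = QuotientGroup.mk' N g ^ j := by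
  obtain ⟨x, hx⟩ := QuotientGroup.mk'_surjective N y
  set m := orderOf y with hm
  have hxm : x ^ m ∈ N := by
    rw [← QuotientGroup.eq_one_iff]
    change QuotientGroup.mk' N (x ^ m) = 1
    rw [map_pow, hx, pow_orderOf_eq_one]
  obtain ⟨s, hs⟩ := hN ⟨x ^ m, hxm⟩
  have hs' : (x ^ m) ^ 2 ^ s = 1 := congrArg Subtype.val hs
  have hdvd : orderOf (x ^ 2 ^ s) ∣ m := orderOf_dvd_of_pow_eq_one (by rw [← pow_mul, mul_comm, pow_mul, hs'])
  obtain ⟨j, hj⟩ := exists_pow_eq_self_of_coprime (x := y) (n := 2 ^ s)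
    (Nat.Coprime.pow_left s (hy.symm.coprime_dvd_left (by norm_num)))
  refine ⟨x ^ 2 ^ s, hy.coprime_dvd_left hdvd, 2 ^ s, j, by rw [map_pow, hx], ?_⟩
  rw [map_pow, hx, hj]

/-- Frattini argument with the trace of a Sylow subgroup on a normalized subgroup. -/
theorem frattini_trace {S L Y : Subgroup G} (hSL : H74.IsSylIn 2 S L) (hYL : Y ≤ L)
    (hLY : L ≤ normalizer (Y : Set G)) :
    H74.IsSylIn 2 (S ⊓ Y) Y ∧ ∀ x ∈ L, ∃ y ∈ Y, y⁻¹ * x ∈ normalizer ((S ⊓ Y : Subgroup G) : Set G) := by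
  haveI : Fact (Nat.Prime 2) := ⟨Nat.prime_two⟩
  haveI : (Y.subgroupOf L).Normal := normal_subgroupOf_of_le_normalizer hLY
  obtain ⟨S', hS'⟩ := hSL.exists_sylow
  obtain ⟨P, hP⟩ := H75.exists_sylow_inf_normal S' (Y.subgroupOf L)
  have h1 := (H74.isSylIn_of_sylow P).map L.subtype L.subtype_injective
  rw [hP, map_inf _ _ _ L.subtype_injective, hS', subgroupOf_map_subtype, inf_eq_left.mpr hYL] at h1
  refine ⟨h1, fun x hx => ?_⟩
  have h2 := h1.map (MulAut.conj x).toMonoidHom (MulAut.conj x).injective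
  rw [H74.map_conj_eq_self (hLY hx)] at h2
  obtain ⟨y, hy, hyT⟩ := h1.conj h2
  refine ⟨y, hy, H74.mem_normalizer_of_map_conj ?_⟩
  have e : cj x (S ⊓ Y) = cj y (S ⊓ Y) := hyT
  change cj (y⁻¹ * x) (S ⊓ Y) = S ⊓ Y
  rw [cj_mul, e, ← cj_mul, inv_mul_cancel, cj_one]

/-- The main lemma. -/
theorem sfree_le {S W X : Subgroup G} (hS : IsPGroup 2 S) (hW : Elem W) (hWS : W ≤ S)
    (hSW : S ≤ normalizer (W : Set G)) (hM : Margin W S)
    (hJW : ∀ A ∈ H11.maxFam (fun A : Subgroup G => Cfsg.IsElementaryAbelian 2 A) S,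
      A ≤ centralizer (W : Set G)) :
    ∀ L : Subgroup G, H74.IsSylIn 2 S L → Group.IsSolvable L → Cfsg.IsOfCharacteristicTwo L →
      ¬ Cfsg.Involves (Equiv.Perm (Fin 4)) L → L ⊓ normalizer (W : Set G) ≤ X →
      L ⊓ normalizer (Cfsg.thompsonSubgroupOf 2 S : Set G) ≤ X → L ≤ X := by
  intro L
  induction hn : Nat.card L using Nat.strong_induction_on generalizing L with
  | _ n ih =>
  intro hSL hsol hchar hfree hNW hNJ
  subst hn
  haveI : Fact (Nat.Prime 2) := ⟨Nat.prime_two⟩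
  haveI := hsol
  haveI hQn : (Cfsg.pCore 2 ↥L).Normal := H1.pCore_normal' 2 ↥L
  have hQp := H1.isPGroup_pCore 2 ↥L
  set Q := Cfsg.pCoreTwoOf L with hQdef
  have hQL : Q ≤ L := H69.pCoreTwoOf_le L
  have hQS : Q ≤ S := H74.pCoreOf_le_sylIn hSL
  have hSX : S ≤ X := fun s hs => hNW ⟨hSL.le hs, hSW hs⟩
  have ind : ∀ H : Subgroup G, S ≤ H → H ≤ L → H ≠ L → H ≤ X := by
    intro H hSH hHL hne
    have hlt : Nat.card H < Nat.card L := lt_of_le_of_ne (card_le_of_le hHL)
      fun h => hne (eq_of_le_of_card_ge hHL h.ge)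
    refine ih _ hlt H rfl (hSL.of_le hSH hHL) (H1.isSolvable_mono hsol hHL)
      (H69.char_two_of_le hchar hHL (hQS.trans hSH)) (fun h => hfree ?_)
      ((inf_le_inf_right _ hHL).trans hNW) ((inf_le_inf_right _ hHL).trans hNJ)
    exact H74.JA.involves_subgroup (S := H.subgroupOf L)
      (H74.JA.involves_of_equiv (subgroupOfEquivOfLe hHL).symm h)
  -- the quotient by `O₂(L)`
  set π := QuotientGroup.mk' (Cfsg.pCore 2 ↥L) with hπ
  have hπk : ∀ z : L, π z = 1 ↔ (z : G) ∈ Q := by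
    intro z
    rw [show π z = 1 ↔ z ∈ Cfsg.pCore 2 ↥L from QuotientGroup.eq_one_iff z]
    exact ⟨fun h => ⟨z, h, rfl⟩, by rintro ⟨z', hz', e⟩; rwa [← Subtype.ext e]⟩
  set O := Cfsg.pPrimeCore 2 (↥L ⧸ Cfsg.pCore 2 ↥L) with hO
  haveI hOn : O.Normal := H1.pPrimeCore_normal' 2 _
  have hO2 : (Nat.card O).Coprime 2 := H1.card_pPrimeCore_coprime 2 _
  haveI : Group.IsSolvable (↥L ⧸ Cfsg.pCore 2 ↥L) :=
    Group.isSolvable_of_surjective (QuotientGroup.mk'_surjective _)
  have hOc : centralizer (O : Set (↥L ⧸ Cfsg.pCore 2 ↥L)) ≤ O :=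
    H10.centralizer_pPrimeCore_le H10.isPSolvable_of_isSolvable H10.pCore_quotient_pCore
  have hno3 : ∀ y t : ↥L ⧸ Cfsg.pCore 2 ↥L, t * t = 1 → t * y * t⁻¹ = y⁻¹ → ¬ 3 ∣ orderOf y :=
    fun y t ht h => orderOf_coprime_three hfree _ hQp hchar ht h
  have hco6 : ∀ y t : ↥L ⧸ Cfsg.pCore 2 ↥L, y ∈ O → t * t = 1 → t * y * t⁻¹ = y⁻¹ →
      Nat.Coprime (orderOf y) 6 := by
    intro y t hy ht h
    have h2 : Nat.Coprime (orderOf y) 2 :=
      hO2.coprime_dvd_left (by rw [← Subgroup.orderOf_mk y hy]; exact orderOf_dvd_natCard _)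
    have h3 : Nat.Coprime (orderOf y) 3 :=
      (Nat.prime_three.coprime_iff_not_dvd.mpr (hno3 y t ht h)).symm
    exact Nat.Coprime.mul_right h2 h3
  have hodd1 : ∀ z, z ∈ O → z * z = 1 → z = 1 := by
    intro z hz h2
    have h4 : orderOf z ∣ Nat.gcd (Nat.card O) 2 := Nat.dvd_gcd
      (by rw [← Subgroup.orderOf_mk z hz]; exact orderOf_dvd_natCard _)
      (orderOf_dvd_of_pow_eq_one (by rw [pow_two]; exact h2))
    rw [hO2.gcd_eq_one, Nat.dvd_one, orderOf_eq_one_iff] at h4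
    exact h4
  -- preimages of `2`-subgroups
  have hpre : ∀ A : Subgroup G, A ≤ S → ∀ B : Subgroup (↥L ⧸ Cfsg.pCore 2 ↥L),
      B ≤ (A.subgroupOf L).map π → (B.comap π).map L.subtype ≤ S := by
    rintro A hAS B hB _ ⟨z, hz, rfl⟩
    obtain ⟨a, ha, hae⟩ := hB hz
    have h1 : ((a⁻¹ * z : L) : G) ∈ Q := (hπk _).mp (by rw [map_mul, map_inv, hae, inv_mul_cancel])
    have h2 := mul_mem (hAS ha) (hQS h1)
    simpa using h2
  -- an inverted element gives the data of the two steps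
  have data : ∀ (A : Subgroup G) (B : Subgroup (↥L ⧸ Cfsg.pCore 2 ↥L)) (a : L)
      (y : ↥L ⧸ Cfsg.pCore 2 ↥L), A ≤ S → Elem A → (a : G) ∈ A →
      B ≤ (A.subgroupOf L).map π → (∀ z ∈ (A.subgroupOf L).map π, z ∈ B ∨ (π a)⁻¹ * z ∈ B) →
      y ∈ O → (∀ b ∈ B, b * y = y * b) → π a * y * (π a)⁻¹ = y⁻¹ →
      ∃ Q1 : Subgroup G, ∃ g : L, Q1 ≤ S ∧ Q ≤ Q1 ∧ (g : G) ∈ normalizer (Q1 : Set G) ∧
        (a : G) ∈ normalizer (Q1 : Set G) ∧ Nat.Coprime (orderOf (g : G)) 6 ∧
        (a : G) * g * (a : G)⁻¹ * g ∈ Q1 ∧ (A ⊓ Q1).relIndex A ≤ 2 ∧ ∃ j : ℕ, y = π g ^ j := by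
    intro A B a y hAS hA haA hBA hcov hyO hBy hinv
    have hAL : A ≤ L := hAS.trans hSL.le
    have ha2 : π a * π a = 1 := by
      rw [← map_mul, show a * a = 1 from Subtype.ext (hA.sq a haA), map_one]
    obtain ⟨g, hg6, i, j, hgi, hgj⟩ := exists_lift hQp y (hco6 y (π a) hyO ha2 hinv)
    have hnorm : ∀ h : L, (∀ b ∈ B, π h * b * (π h)⁻¹ = b) →
        (h : G) ∈ normalizer (((B.comap π).map L.subtype : Subgroup G) : Set G) := by
      intro h hh
      apply mem_normalizer_fintype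
      rintro _ ⟨z, hz, rfl⟩
      refine ⟨h * z * h⁻¹, ?_, rfl⟩
      show π (h * z * h⁻¹) ∈ B
      rw [map_mul, map_mul, map_inv, hh _ hz]
      exact hz
    refine ⟨(B.comap π).map L.subtype, g, hpre A hAS B hBA, ?_, hnorm g ?_, hnorm a ?_, ?_, ?_, ?_, j, hgj⟩
    · intro q hq
      refine ⟨⟨q, hQL hq⟩, ?_, rfl⟩
      show π _ ∈ B
      rw [(hπk _).mpr hq]
      exact one_mem B
    · intro b hb
      rw [hgi, mul_inv_eq_iff_eq_mul]
      exact ((show Commute b y from hBy b hb).pow_right i).eq.symm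
    · intro b hb
      obtain ⟨b', hb', rfl⟩ := hBA hb
      rw [mul_inv_eq_iff_eq_mul, ← map_mul, ← map_mul]
      congr 1
      exact Subtype.ext (hA.comm _ haA _ hb')
    · rwa [Subgroup.orderOf_coe]
    · refine ⟨a * g * a⁻¹ * g, ?_, rfl⟩
      show π _ ∈ B
      rw [map_mul, map_mul, map_mul, map_inv, hgi, ← conj_pow, hinv, inv_pow, inv_mul_cancel]
      exact one_mem B
    · refine relIndex_le_two haA fun x hx => ?_
      rcases hcov (π ⟨x, hAL hx⟩) ⟨_, hx, rfl⟩ with h | h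
      · exact Or.inl ⟨hx, ⟨⟨x, hAL hx⟩, h, rfl⟩⟩
      · refine Or.inr ⟨(show (a : G)⁻¹ * x ∈ A from mul_mem (inv_mem haA) hx), ⟨a⁻¹ * ⟨x, hAL hx⟩, ?_, rfl⟩⟩
        show π _ ∈ B
        rwa [map_mul, map_inv]
  have hWL : W ≤ L := hWS.trans hSL.le
  have hQn' : ∀ x ∈ L, cj x Q = Q := fun x hx =>
    cj_eq_of_mem (H69.pCoreTwoOf_normalized L hx)
  -- `W` lies in `O₂(L)`
  have hWQ : W ≤ Q := by
    by_contra hnot
    set Wb := (W.subgroupOf L).map π with hWb
    have hWe : ∀ z ∈ Wb, z ^ 2 = 1 := by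
      rintro _ ⟨z, hz, rfl⟩
      rw [pow_two, ← map_mul, show z * z = 1 from Subtype.ext (hW.sq _ hz), map_one]
    have hWc : IsMulCommutative Wb := H11.isMulCommutative_of_commute (by
      rintro _ ⟨x, hx, rfl⟩ _ ⟨y, hy, rfl⟩
      rw [← map_mul, ← map_mul]
      congr 1
      exact Subtype.ext (hW.comm _ hx _ hy))
    obtain ⟨B, a, y, hBW, haW, -, htop, hyO, hyp, -, hBy, hinv⟩ :=
      H30.exists_inverted_hyperplane hWc hWe
        (show Wb ≤ normalizer (O : Set _) by rw [normalizer_eq_top]; exact le_top) hO2 (by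
          intro hcen
          apply hnot
          intro x hx
          have h1 : π ⟨x, hWL hx⟩ ∈ Wb := ⟨_, hx, rfl⟩
          have h2 := hodd1 _ (hOc (le_centralizer_iff.mp hcen h1)) (by rw [← pow_two]; exact hWe _ h1)
          exact (hπk _).mp h2)
    obtain ⟨a', ha', rfl⟩ := haW
    have hcov : ∀ z ∈ Wb, z ∈ B ∨ (π a')⁻¹ * z ∈ B := by
      intro z hz
      rw [← htop] at hz
      have hn : π a' ∈ normalizer (B : Set _) := by
        apply mem_normalizer_fintype
        intro b hb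
        rw [(H11.comm_of_mulCommutative hWc ⟨a', ha', rfl⟩ (hBW hb)).eq, mul_inv_cancel_right]
        exact hb
      obtain ⟨k, hk, i, hki⟩ := (H30.mem_sup_zpowers hn).1 hz
      have hasq : π a' ^ (2 : ℤ) = 1 := by rw [zpow_ofNat]; exact hWe _ ⟨a', ha', rfl⟩
      rcases Int.even_or_odd i with ⟨c, rfl⟩ | ⟨c, rfl⟩
      · left
        rw [← hki, ← two_mul, zpow_mul, hasq, one_zpow, mul_one]
        exact hk
      · right
        rw [← hki, zpow_add, zpow_mul, hasq, one_zpow, one_mul, zpow_one, ← mul_assoc]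
        exact conj_mem' hn hk
    obtain ⟨Q1, g, hQ1S, hQQ1, hgn, han, hg6, hgi, hidx, j, hj⟩ :=
      data W B a' y hWS hW ha' hBW hcov hyO hBy hinv
    refine step_inside (hS.to_le hQ1S) hW (hQ1S.trans hSW) hgn han hg6 ?_ hgi ha' hidx
      (hM.mono hQ1S)
    intro hgc
    have hgQ : π g = 1 := by
      rw [show π g = 1 ↔ g ∈ Cfsg.pCore 2 ↥L from QuotientGroup.eq_one_iff g]
      refine hchar (mem_centralizer_iff.mpr fun q hq => Subtype.ext ?_)
      exact mem_centralizer_iff.mp hgc q (hQQ1 ⟨q, hq, rfl⟩)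
    rw [hgQ, one_pow] at hj
    rw [hj, orderOf_one] at hyp
    exact Nat.not_prime_one hyp
  -- conjugates of `W` commute
  have hpair : ∀ x ∈ L, ∀ y ∈ L, cj x W ≤ centralizer (cj y W : Set G) := by
    intro x hx y hy
    have hz : y⁻¹ * x ∈ L := mul_mem (inv_mem hy) hx
    have h := centralizes_conj hW hM (x := y⁻¹ * x)
      ((map_mono hWQ).trans ((hQn' _ hz).le.trans hQS))
      ((hWQ.trans (hQn' _ hz).ge).trans (map_mono hQS))
    have h2 := map_mono (f := (MulAut.conj y).toMonoidHom) h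
    change cj y (cj (y⁻¹ * x) W) ≤ cj y (centralizer (W : Set G)) at h2
    rwa [← cj_mul, mul_inv_cancel_left, cj_centralizer] at h2
  have hspan : ∀ g ∈ L, Elem (span g W) ∧ span g W ≤ S := by
    intro g hg
    refine ⟨elem_iSup _ (fun i => ?_) (fun i j => hpair _ (pow_mem hg i) _ (pow_mem hg j)),
      iSup_le fun i => (map_mono hWQ).trans ((hQn' _ (pow_mem hg i)).le.trans hQS)⟩
    constructor
    · rintro _ ⟨a, ha, rfl⟩ _ ⟨b, hb, rfl⟩
      rw [← map_mul, ← map_mul, hW.comm a ha b hb]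
    · rintro _ ⟨a, ha, rfl⟩
      rw [← map_mul, hW.sq a ha, map_one]
  have hJn : normalizer (S : Set G) ≤ normalizer (Cfsg.thompsonSubgroupOf 2 S : Set G) :=
    H1.normalizer_le_normalizer_thompsonSubgroupOf 2 S
  -- the case `L / O₂(L)` of odd order
  by_cases hOtop : O = ⊤
  · have hSQ : S = Q := by
      refine le_antisymm (fun s hs => ?_) hQS
      obtain ⟨k, hk⟩ := hS ⟨s, hs⟩
      have hk' : s ^ 2 ^ k = 1 := congrArg Subtype.val hk
      have h1 : orderOf (π ⟨s, hSL.le hs⟩) ∣ 2 ^ k := orderOf_dvd_of_pow_eq_one (by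
        rw [← map_pow, show (⟨s, hSL.le hs⟩ : L) ^ 2 ^ k = 1 from Subtype.ext hk', map_one])
      have h2 : orderOf (π ⟨s, hSL.le hs⟩) ∣ Nat.card O := by
        have hm : π ⟨s, hSL.le hs⟩ ∈ O := by rw [hOtop]; exact mem_top _
        rw [← Subgroup.orderOf_mk _ hm]
        exact orderOf_dvd_natCard _
      exact (hπk _).mp (orderOf_eq_one_iff.mp
        (Nat.eq_one_of_dvd_coprimes (Nat.Coprime.pow_right k hO2) h2 h1))
    intro x hx
    exact hNJ ⟨hx, hJn (hSQ ▸ H69.pCoreTwoOf_normalized L hx)⟩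
  set F := (O.comap π).map L.subtype with hF
  have hFL : F ≤ L := map_subtype_le _
  have hQF : Q ≤ F := fun q hq => ⟨⟨q, hQL hq⟩, by
    show π _ ∈ O
    rw [(hπk _).mpr hq]; exact one_mem O, rfl⟩
  have hFn : L ≤ normalizer (F : Set G) := by
    intro x hx
    apply mem_normalizer_fintype
    rintro _ ⟨z, hz, rfl⟩
    refine ⟨⟨x, hx⟩ * z * ⟨x, hx⟩⁻¹, ?_, rfl⟩
    show π _ ∈ O
    rw [map_mul, map_mul, map_inv]
    exact hOn.conj_mem _ hz _
  -- reduction to `L = F S`
  suffices hFX : F ≤ X by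
    haveI : (Cfsg.pPrimeCore 2 (↥L ⧸ Cfsg.pCore 2 ↥L)).Normal := hOn
    set K := (↥L ⧸ Cfsg.pCore 2 ↥L) ⧸ O with hK
    set ρ := (QuotientGroup.mk' O).comp π with hρ
    set R := ((Cfsg.pCore 2 ((↥L ⧸ Cfsg.pCore 2 ↥L) ⧸ O)).comap ρ).map L.subtype with hR
    haveI hRn : (Cfsg.pCore 2 ((↥L ⧸ Cfsg.pCore 2 ↥L) ⧸ O)).Normal := H1.pCore_normal' 2 _
    have hRL : R ≤ L := map_subtype_le _
    have hRnorm : L ≤ normalizer (R : Set G) := by
      intro x hx
      apply mem_normalizer_fintype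
      rintro _ ⟨z, hz, rfl⟩
      refine ⟨⟨x, hx⟩ * z * ⟨x, hx⟩⁻¹, ?_, rfl⟩
      show ρ _ ∈ Cfsg.pCore 2 _
      rw [map_mul, map_mul, map_inv]
      exact hRn.conj_mem _ hz _
    have hFR : F ≤ R := by
      rintro _ ⟨z, hz, rfl⟩
      refine ⟨z, ?_, rfl⟩
      show ρ z ∈ Cfsg.pCore 2 _
      rw [show ρ z = 1 from (QuotientGroup.eq_one_iff (π z)).mpr hz]
      exact one_mem _
    set T1 := S ⊓ R with hT1
    obtain ⟨hT1R, hfr1⟩ := frattini_trace hSL hRL hRnorm
    -- `T1` is not inside `O₂(L)`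
    have hT1n : ¬ T1 ≤ Q := by
      intro hle
      apply hOtop
      have h0 : Cfsg.pCore 2 ((↥L ⧸ Cfsg.pCore 2 ↥L) ⧸ O) = ⊥ := by
        rw [eq_bot_iff]
        intro u hu
        obtain ⟨z, rfl⟩ : ∃ z, ρ z = u :=
          ((QuotientGroup.mk'_surjective O).comp (QuotientGroup.mk'_surjective _)) u
        obtain ⟨k, hk⟩ := H1.isPGroup_pCore 2 _ ⟨ρ z, hu⟩
        have hk' : ρ z ^ 2 ^ k = 1 := congrArg Subtype.val hk
        -- a power of `z` of `2`-power order with the same image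
        obtain ⟨e, m, hm, hem⟩ : ∃ e m, ¬ 2 ∣ m ∧ orderOf z = 2 ^ e * m :=
          Nat.exists_eq_pow_mul_and_not_dvd (orderOf_pos z).ne' 2 (by norm_num)
        have hz2 : ρ (z ^ m) ∈ Cfsg.pCore 2 ((↥L ⧸ Cfsg.pCore 2 ↥L) ⧸ O) := by
          rw [map_pow]; exact pow_mem hu m
        have hzR : ((z ^ m : L) : G) ∈ R := ⟨_, hz2, rfl⟩
        have hp : IsPGroup 2 (zpowers ((z ^ m : L) : G)) := by
          have : orderOf ((z ^ m : L) : G) ∣ 2 ^ e := by
            rw [Subgroup.orderOf_coe]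
            exact orderOf_dvd_of_pow_eq_one (by rw [← pow_mul, mul_comm, ← hem, pow_orderOf_eq_one])
          obtain ⟨i, -, hi⟩ := (Nat.dvd_prime_pow Nat.prime_two).mp this
          exact IsPGroup.of_card (n := i) (by rw [Nat.card_zpowers, hi])
        obtain ⟨P, hP⟩ := (hp.comap_of_injective R.subtype R.subtype_injective).exists_le_sylow
        obtain ⟨r, hr, hTr⟩ := (H74.isSylIn_of_sylow P).conj hT1R
        have hzT : r * ((z ^ m : L) : G) * r⁻¹ ∈ T1 := by
          rw [hT1, hTr]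
          exact ⟨_, ⟨⟨_, hzR⟩, hP (mem_subgroupOf.mpr (mem_zpowers _)), rfl⟩, rfl⟩
        have hzF : ((z ^ m : L) : G) ∈ F := by
          have h1 := conj_mem' (hFn (hRL hr)) (hQF (hle hzT))
          simpa [mul_assoc] using h1
        have hz1 : ρ (z ^ m) = 1 := by
          obtain ⟨z', hz', e'⟩ := hzF
          rw [← show z' = z ^ m from Subtype.ext e']
          exact (QuotientGroup.eq_one_iff _).mpr hz'
        rw [map_pow] at hz1
        refine mem_bot.mpr (orderOf_eq_one_iff.mp (Nat.eq_one_of_dvd_coprimes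
          (Nat.Coprime.pow_left k (Nat.prime_two.coprime_iff_not_dvd.mpr hm))
          (orderOf_dvd_of_pow_eq_one hk') (orderOf_dvd_of_pow_eq_one hz1)))
      by_contra hne
      haveI : Nontrivial ((↥L ⧸ Cfsg.pCore 2 ↥L) ⧸ O) := QuotientGroup.nontrivial_iff.mpr hne
      haveI : Group.IsSolvable ((↥L ⧸ Cfsg.pCore 2 ↥L) ⧸ O) :=
        Group.isSolvable_of_surjective (QuotientGroup.mk'_surjective _)
      rcases H10.pCore_or_pPrimeCore_ne_bot
        (H10.isPSolvable_of_isSolvable (p := 2) (G := (↥L ⧸ Cfsg.pCore 2 ↥L) ⧸ O)) with h | h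
      · exact h h0
      · exact h (H1.pPrimeCore_quotient_pPrimeCore 2)
    set N1 := L ⊓ normalizer (T1 : Set G) with hN1
    have hN1X : N1 ≤ X := by
      refine ind N1 (fun s hs => ⟨hSL.le hs, ?_⟩) inf_le_left fun he => hT1n ?_
      · apply mem_normalizer_fintype
        intro x hx
        exact ⟨(show s * x * s⁻¹ ∈ S from mul_mem (mul_mem hs hx.1) (inv_mem hs)), conj_mem (hRnorm (hSL.le hs)) hx.2⟩
      · exact H69.le_pCoreTwoOf (inf_le_left.trans hSL.le) (hS.to_le inf_le_left)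
          (fun x hx => ((he.ge : L ≤ N1) hx).2)
    have hRgen : R ≤ F ⊔ T1 := by
      have hle : F ⊔ T1 ≤ R := sup_le hFR inf_le_right
      rw [← relIndex_eq_one]
      have h1 : (F ⊔ T1).relIndex R ∣ T1.relIndex R := relIndex_dvd_of_le_left R le_sup_right
      have h2 : (F ⊔ T1).relIndex R ∣ F.relIndex R := relIndex_dvd_of_le_left R le_sup_left
      have h3 : Nat.Coprime (T1.relIndex R) (F.relIndex R) := by
        have hodd : ¬ 2 ∣ T1.relIndex R := by
          intro h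
          have hm : Nat.card T1 * T1.relIndex R = Nat.card R := by
            rw [← relIndex_bot_left T1, relIndex_mul_relIndex ⊥ T1 R bot_le inf_le_right,
              relIndex_bot_left]
          have h2' : 2 ^ ((Nat.card R).factorization 2 + 1) ∣ Nat.card R := by
            rw [pow_succ]
            nth_rewrite 2 [← hm]
            rw [hT1R.2]
            exact Nat.mul_dvd_mul_left _ h
          exact Nat.pow_succ_factorization_not_dvd Nat.card_pos.ne' Nat.prime_two h2'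
        obtain ⟨k, hk⟩ : ∃ k, F.relIndex R = 2 ^ k := by
          set P0 := (Cfsg.pCore 2 ((↥L ⧸ Cfsg.pCore 2 ↥L) ⧸ O)).comap ρ with hP0
          have hker : (ρ.comp P0.subtype).ker.index = F.relIndex R := by
            rw [← MonoidHom.comap_ker, hF, hR, relIndex_map_map_of_injective _ _ L.subtype_injective,
              relIndex, subgroupOf]
            congr 2
            ext z
            rw [MonoidHom.mem_ker, mem_comap]
            exact QuotientGroup.eq_one_iff _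
          rw [← hker, index_ker]
          obtain ⟨k, hk⟩ := IsPGroup.iff_card.mp ((H1.isPGroup_pCore 2 ((↥L ⧸ Cfsg.pCore 2 ↥L) ⧸ O)).to_le
            (show (ρ.comp P0.subtype).range ≤ _ from by
              rintro _ ⟨z, rfl⟩; exact z.2))
          exact ⟨k, hk⟩
        rw [hk]
        exact Nat.Coprime.pow_right k (Nat.prime_two.coprime_iff_not_dvd.mpr hodd).symm
      exact Nat.eq_one_of_dvd_coprimes h3 h1 h2
    intro x hx
    obtain ⟨o, ho, hon⟩ := hfr1 x hx
    have hoX : o ∈ X := (sup_le hFX (inf_le_left.trans hSX)) (hRgen ho)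
    have hnX : o⁻¹ * x ∈ X := hN1X ⟨(show o⁻¹ * x ∈ L from mul_mem (inv_mem (hRL ho)) hx), hon⟩
    simpa using mul_mem hoX hnX
  -- `F` lies in `X`
  by_cases hFS : F ⊔ S = L
  swap
  · exact le_sup_left.trans (ind _ le_sup_right (sup_le hFL hSL.le) hFS)
  set Od := ⁅O, O⁆ with hOd
  have hOdO : Od ≤ O := commutator_le_self O
  set Fd := (Od.comap π).map L.subtype with hFd
  have hFdX : Fd ≤ X := by
    refine le_sup_left.trans (ind (Fd ⊔ S) le_sup_right
      (sup_le (map_subtype_le _) hSL.le) fun he => ?_)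
    have hO0 : O = ⊥ := by
      by_contra hne
      haveI : Nontrivial O := (nontrivial_iff_ne_bot O).mpr hne
      have hlt : commutator O < ⊤ := Group.IsSolvable.commutator_lt_top_of_nontrivial (G := O)
      refine hlt.ne (map_injective O.subtype_injective ?_)
      rw [map_subtype_commutator, ← MonoidHom.range_eq_map, range_subtype, ← hOd]
      refine le_antisymm hOdO fun u hu => ?_
      obtain ⟨z, rfl⟩ := QuotientGroup.mk'_surjective (Cfsg.pCore 2 ↥L) u
      obtain ⟨d, hd, s, hs, hzs⟩ := H1.exists_mul_of_mem_sup (D := Fd) (H := S)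
        (fun s hs => by
          apply mem_normalizer_fintype
          rintro _ ⟨v, hv, rfl⟩
          refine ⟨⟨s, hSL.le hs⟩ * v * ⟨s, hSL.le hs⟩⁻¹, ?_, rfl⟩
          show π _ ∈ Od
          rw [map_mul, map_mul, map_inv]
          exact (commutator_normal O O).conj_mem _ hv _)
        (show (z : G) ∈ Fd ⊔ S from he.symm ▸ z.2)
      obtain ⟨d', hd', rfl⟩ := hd
      have hs' : π ⟨s, hSL.le hs⟩ ∈ O := by
        have : (⟨s, hSL.le hs⟩ : L) = d'⁻¹ * z := Subtype.ext (by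
          rw [Subgroup.coe_mul, Subgroup.coe_inv, hzs]; exact (inv_mul_cancel_left _ _).symm)
        rw [this, map_mul, map_inv]
        exact mul_mem (inv_mem (hOdO hd')) hu
      obtain ⟨k, hk⟩ := hS ⟨s, hs⟩
      have hk' : s ^ 2 ^ k = 1 := congrArg Subtype.val hk
      have h1 : π ⟨s, hSL.le hs⟩ = 1 := orderOf_eq_one_iff.mp (Nat.eq_one_of_dvd_coprimes
        (Nat.Coprime.pow_right k hO2)
        (by rw [← Subgroup.orderOf_mk _ hs']; exact orderOf_dvd_natCard _)
        (orderOf_dvd_of_pow_eq_one (by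
          rw [← map_pow, show (⟨s, hSL.le hs⟩ : L) ^ 2 ^ k = 1 from Subtype.ext hk', map_one])))
      have e : z = d' * ⟨s, hSL.le hs⟩ := Subtype.ext hzs
      rw [e, map_mul, h1, mul_one]
      exact hd'
    apply hOtop
    rw [eq_top_iff]
    intro u _
    apply hOc
    rw [mem_centralizer_iff, hO0]
    intro v hv
    rw [mem_bot.mp hv, one_mul, mul_one]
  by_contra hFX
  -- the trace of `X`
  set FX := X ⊓ F with hFXdef
  set H := O ⊓ (X.subgroupOf L).map π with hH
  have hHmem : ∀ z : L, π z ∈ H → (z : G) ∈ FX := by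
    rintro z ⟨hzO, x, hx, e⟩
    refine ⟨?_, z, hzO, rfl⟩
    have h1 : ((x⁻¹ * z : L) : G) ∈ Q := (hπk _).mp (by rw [map_mul, map_inv, e, inv_mul_cancel])
    simpa using mul_mem (show (x : G) ∈ X from hx) (hSX (hQS h1))
  have hOdH : Od ≤ H := fun u hu => by
    obtain ⟨z, rfl⟩ := QuotientGroup.mk'_surjective (Cfsg.pCore 2 ↥L) u
    exact ⟨hOdO hu, z, hFdX ⟨z, hu, rfl⟩, rfl⟩
  have hHO : H ≤ O := inf_le_left
  have hOH : O ≤ normalizer (H : Set _) := by
    intro x hx
    apply mem_normalizer_fintype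
    intro h hh
    have e : x * h * x⁻¹ = ⁅x, h⁆ * h := by rw [commutatorElement_def]; group
    rw [e]
    exact mul_mem (hOdH (commutator_mem_commutator hx (hHO hh))) hh
  have hSH : ∀ s : L, (s : G) ∈ S → π s ∈ normalizer (H : Set _) := by
    intro s hs
    apply mem_normalizer_fintype
    rintro _ ⟨hu, x, hx, rfl⟩
    refine ⟨hOn.conj_mem _ hu _, s * x * s⁻¹, ?_, by rw [map_mul, map_mul, map_inv]⟩
    exact mul_mem (mul_mem (hSX hs) hx) (inv_mem (hSX hs))
  by_cases hcase : ∀ A ∈ H11.maxFam (fun A : Subgroup G => Cfsg.IsElementaryAbelian 2 A) S,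
      ∀ a : L, (a : G) ∈ A → ∀ x ∈ O, x * π a * x⁻¹ * (π a)⁻¹ ∈ H
  · apply hFX
    set J := Cfsg.thompsonSubgroupOf 2 S with hJ
    have hJeq : J = sSup (H11.maxFam (fun A : Subgroup G => Cfsg.IsElementaryAbelian 2 A) S) :=
      H11.thompsonSubgroupOf_eq 2 S
    have hJS : J ≤ S := map_subtype_le _
    set Y := FX ⊔ J with hY
    have hYX : Y ≤ X := sup_le inf_le_left (hJS.trans hSX)
    have hYL : Y ≤ L := sup_le (inf_le_right.trans hFL) (hJS.trans hSL.le)
    have hLY : L ≤ normalizer (Y : Set G) := by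
      rw [← hFS]
      refine sup_le (fun x hx => ?_) (fun s hs => ?_)
      · apply mem_normalizer_fintype
        obtain ⟨x', hx', rfl⟩ := hx
        have h1 : FX ≤ Y.comap (MulAut.conj (x' : G)).toMonoidHom := by
          rintro u ⟨huX, u', hu', rfl⟩
          show (x' : G) * (u' : G) * (x' : G)⁻¹ ∈ Y
          refine mem_sup_left (hHmem (x' * u' * x'⁻¹) ?_)
          rw [map_mul, map_mul, map_inv]
          exact conj_mem (hOH hx') ⟨hu', u', huX, rfl⟩
        have h2 : J ≤ Y.comap (MulAut.conj (x' : G)).toMonoidHom := by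
          rw [hJeq]
          refine sSup_le fun A hA a ha => ?_
          have haL : a ∈ L := hSL.le (hA.1 ha)
          show (x' : G) * a * (x' : G)⁻¹ ∈ Y
          have e : (x' : G) * a * (x' : G)⁻¹ = ((x' * ⟨a, haL⟩ * x'⁻¹ * ⟨a, haL⟩⁻¹ : L) : G) * a := by
            simp [mul_assoc]
          rw [e]
          refine mul_mem (mem_sup_left (hHmem _ ?_)) (mem_sup_right ?_)
          · rw [map_mul, map_mul, map_mul, map_inv, map_inv]
            exact hcase A hA ⟨a, haL⟩ ha _ hx'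
          · rw [hJeq]
            exact le_sSup (α := Subgroup G) hA ha
        exact fun u hu => (sup_le h1 h2) hu
      · apply mem_normalizer_fintype
        have h1 : FX ≤ Y.comap (MulAut.conj s).toMonoidHom := fun u hu =>
          mem_sup_left ⟨(show s * u * s⁻¹ ∈ X from mul_mem (mul_mem (hSX hs) hu.1) (inv_mem (hSX hs))),
            conj_mem (hFn (hSL.le hs)) hu.2⟩
        have h2 : J ≤ Y.comap (MulAut.conj s).toMonoidHom := fun u hu =>
          mem_sup_right (conj_mem (hJn (le_normalizer hs)) hu)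
        exact fun u hu => (sup_le h1 h2) hu
    set T := S ⊓ Y with hT
    obtain ⟨hTY, hfr⟩ := frattini_trace hSL hYL hLY
    have hJT : Cfsg.thompsonSubgroupOf 2 T = J := by
      obtain ⟨A0, hA0⟩ := H11.maxFam_nonempty (H11.replProp_elem (G := G) 2).bot S
      have hin : ∀ A ∈ H11.maxFam (fun A : Subgroup G => Cfsg.IsElementaryAbelian 2 A) S, A ≤ T :=
        fun A hA => le_inf hA.1 (le_trans (by rw [hJeq]; exact le_sSup hA) le_sup_right)
      rw [H11.thompsonSubgroupOf_eq, hJeq]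
      congr 1
      exact Set.Subset.antisymm (H11.maxFam_subset_of_mem inf_le_left hA0 (hin A0 hA0))
        fun A hA => H11.mem_maxFam_of_mem inf_le_left hA (hin A hA)
    refine (le_sup_left.trans hFS.le).trans fun x hx => ?_
    have hx' := hx
    obtain ⟨y, hy, hTy⟩ := hfr x hx
    have hnX : y⁻¹ * x ∈ X := hNJ ⟨(show y⁻¹ * x ∈ L from mul_mem (inv_mem (hYL hy)) hx'),
      hJT ▸ H1.normalizer_le_normalizer_thompsonSubgroupOf 2 T hTy⟩
    simpa using mul_mem (hYX hy) hnX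
  push Not at hcase
  obtain ⟨A, hA, a0, ha0, x0, hx0, hx0H⟩ := hcase
  have hAe := Elem.of_isElem hA.2.1
  have hAL : A ≤ L := hA.1.trans hSL.le
  -- the quotient of `O` by `H`
  set Ab := (A.subgroupOf L).map π with hAb
  have hAbN : Ab ≤ normalizer (H : Set _) := by
    rintro _ ⟨z, hz, rfl⟩
    exact hSH z (hA.1 hz)
  set N := normalizer (H : Set (↥L ⧸ Cfsg.pCore 2 ↥L)) with hN
  haveI : (H.subgroupOf N).Normal := normal_in_normalizer
  set f := QuotientGroup.mk' (H.subgroupOf N) with hf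
  have hfk : ∀ z : N, f z = 1 ↔ (z : ↥L ⧸ Cfsg.pCore 2 ↥L) ∈ H := fun z => QuotientGroup.eq_one_iff z
  set Aq := (Ab.subgroupOf N).map f with hAq
  set Oq := (O.subgroupOf N).map f with hOq
  have hAqc : IsMulCommutative Aq := H11.isMulCommutative_of_commute (by
    rintro _ ⟨u, ⟨z, hz, hze⟩, rfl⟩ _ ⟨v, ⟨w, hw, hwe⟩, rfl⟩
    rw [← map_mul, ← map_mul]
    congr 1
    refine Subtype.ext ?_
    change (u : ↥L ⧸ Cfsg.pCore 2 ↥L) * v = v * u
    rw [← show π z = (u : ↥L ⧸ Cfsg.pCore 2 ↥L) from hze, ← show π w = (v : ↥L ⧸ Cfsg.pCore 2 ↥L) from hwe,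
      ← map_mul, ← map_mul]
    congr 1
    exact Subtype.ext (hAe.comm _ hz _ hw))
  have hAqe : ∀ u ∈ Aq, u ^ 2 = 1 := by
    rintro _ ⟨u, ⟨z, hz, hze⟩, rfl⟩
    rw [pow_two, ← map_mul, hfk, Subgroup.coe_mul]
    rw [← show π z = (u : ↥L ⧸ Cfsg.pCore 2 ↥L) from hze, ← map_mul,
      show z * z = 1 from Subtype.ext (hAe.sq _ hz), map_one]
    exact one_mem _
  obtain ⟨B, a, w, hBA, haA, -, htop, hwO, hwp, hw2, hBw, hinv⟩ :=
    H30.exists_inverted_hyperplane hAqc hAqe
      (show Aq ≤ normalizer (Oq : Set _) by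
        rintro _ ⟨u, hu, rfl⟩
        apply mem_normalizer_fintype
        rintro _ ⟨v, hv, rfl⟩
        exact ⟨u * v * u⁻¹, hOn.conj_mem _ hv _, by rw [map_mul, map_mul, map_inv]⟩)
      (hO2.coprime_dvd_left ((card_map_dvd _ _).trans (by
        rw [Nat.card_congr (subgroupOfEquivOfLe hOH).toEquiv])))
      (by
        intro hcen
        apply hx0H
        have h := mem_centralizer_iff.mp (hcen (show f ⟨x0, hOH hx0⟩ ∈ Oq from ⟨_, hx0, rfl⟩))
          (f ⟨π a0, hSH a0 (hA.1 ha0)⟩) ⟨_, ⟨a0, ha0, rfl⟩, rfl⟩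
        have h2 : f (⟨x0, hOH hx0⟩ * ⟨π a0, hSH a0 (hA.1 ha0)⟩ * (⟨x0, hOH hx0⟩ : N)⁻¹ *
            (⟨π a0, hSH a0 (hA.1 ha0)⟩ : N)⁻¹) = 1 := by
          rw [map_mul, map_mul, map_mul, map_inv, map_inv, ← h, mul_inv_cancel_right, mul_inv_cancel]
        exact (hfk _).mp h2)
  obtain ⟨au, ⟨az, haz, hazu⟩, rfl⟩ := haA
  obtain ⟨wu, hwu, rfl⟩ := hwO
  -- lift to a fixed point
  set B0 := Ab ⊓ ((B.comap f).map N.subtype) with hB0
  have hB0fix : ∀ b ∈ B0, (wu : ↥L ⧸ Cfsg.pCore 2 ↥L)⁻¹ * (b * wu * b⁻¹) ∈ H := by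
    rintro b ⟨-, b', hb', rfl⟩
    have h := hBw _ hb'
    exact (hfk (wu⁻¹ * (b' * wu * b'⁻¹))).mp (by
      rw [map_mul, map_mul, map_mul, map_inv, map_inv, h, mul_inv_cancel_right, inv_mul_cancel])
  have hAbp : IsPGroup 2 Ab := ((hS.to_le hA.1).comap_of_injective L.subtype L.subtype_injective).map π
  obtain ⟨c, hc, hwc⟩ := H1.exists_fixed_mem_coset_of_le (A := B0) (K := O) hHO
    (inf_le_left.trans hAbN)
    (by
      obtain ⟨k, hk⟩ := IsPGroup.iff_card.mp (hAbp.to_le (inf_le_left : B0 ≤ Ab))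
      rw [hk]
      exact Nat.Coprime.pow_left k hO2.symm)
    (Or.inr inferInstance) hwu hB0fix
  set ab := π az with hab
  have hab' : (au : ↥L ⧸ Cfsg.pCore 2 ↥L) = ab := hazu.symm
  have hab2 : ab * ab = 1 := by
    rw [hab, ← map_mul, show az * az = 1 from Subtype.ext (hAe.sq _ haz), map_one]
  set y := c⁻¹ * (ab * c * ab⁻¹) with hy
  have hyO : y ∈ O := mul_mem (inv_mem hc.1) (hOn.conj_mem _ hc.1 _)
  have habi : ab⁻¹ = ab := inv_eq_of_mul_eq_one_right hab2
  have hyinv : ab * y * ab⁻¹ = y⁻¹ := by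
    calc ab * y * ab⁻¹ = (ab * c⁻¹ * ab⁻¹) * ((ab * ab) * c * (ab * ab)⁻¹) := by rw [hy]; group
      _ = (ab * c⁻¹ * ab⁻¹) * c := by rw [hab2]; group
      _ = _ := by rw [hy]; group
  have hB0y : ∀ b ∈ B0, b * y = y * b := by
    intro b hb
    have h1 : b * c = c * b := mem_centralizer_iff.mp hc.2 b hb
    have h2 : b * ab = ab * b := by
      obtain ⟨bz, hbz, rfl⟩ := hb.1
      rw [hab, ← map_mul, ← map_mul]
      congr 1
      exact Subtype.ext (hAe.comm _ hbz _ haz)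
    exact ((show Commute b c from h1).inv_right.mul_right
      (((show Commute b ab from h2).mul_right (show Commute b c from h1)).mul_right
        (show Commute b ab from h2).inv_right)).eq
  have hyH : y ∉ H := by
    intro hyH
    have hcN : c ∈ N := hOH hc.1
    have h1 : f ⟨c, hcN⟩ = f wu := by
      have := (hfk (wu⁻¹ * (⟨c, hcN⟩ : N))).mpr hwc
      rw [map_mul, map_inv, inv_mul_eq_one] at this
      exact this.symm
    have h2 : f (⟨c, hcN⟩⁻¹ * (au * ⟨c, hcN⟩ * au⁻¹)) = 1 := (hfk _).mpr (by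
      simp only [Subgroup.coe_mul, Subgroup.coe_inv, hab']
      exact hyH)
    rw [map_mul, map_mul, map_mul, map_inv, map_inv, h1, hinv, ← mul_inv_rev, inv_eq_one] at h2
    have h3 := orderOf_dvd_of_pow_eq_one (x := f wu) (n := 2) (by rw [pow_two]; exact h2)
    exact hw2 ((Nat.prime_dvd_prime_iff_eq hwp Nat.prime_two).mp h3)
  have hcov : ∀ z ∈ Ab, z ∈ B0 ∨ ab⁻¹ * z ∈ B0 := by
    intro z hz
    have hzN : z ∈ N := hAbN hz
    have hz' : f ⟨z, hzN⟩ ∈ Aq := ⟨_, hz, rfl⟩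
    rw [← htop] at hz'
    have haAq : f au ∈ Aq := ⟨au, ⟨az, haz, hazu⟩, rfl⟩
    have hn : f au ∈ normalizer (B : Set _) := by
      apply mem_normalizer_fintype
      intro b hb
      rw [(H11.comm_of_mulCommutative hAqc haAq (hBA hb)).eq, mul_inv_cancel_right]
      exact hb
    obtain ⟨k, hk, i, hki⟩ := (H30.mem_sup_zpowers hn).1 hz'
    have hasq : f au ^ (2 : ℤ) = 1 := by rw [zpow_ofNat]; exact hAqe _ haAq
    rcases Int.even_or_odd i with ⟨d, rfl⟩ | ⟨d, rfl⟩
    · rw [← two_mul, zpow_mul, hasq, one_zpow, mul_one] at hki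
      exact Or.inl ⟨hz, ⟨z, hzN⟩, show f _ ∈ B from hki ▸ hk, rfl⟩
    · rw [zpow_add, zpow_mul, hasq, one_zpow, one_mul, zpow_one] at hki
      refine Or.inr ⟨(show ab⁻¹ * z ∈ Ab from mul_mem (inv_mem (show ab ∈ Ab from ⟨az, haz, rfl⟩)) hz), au⁻¹ * ⟨z, hzN⟩, ?_, ?_⟩
      · show f _ ∈ B
        rw [map_mul, map_inv, ← hki, ← mul_assoc]
        exact conj_mem' hn hk
      · show (au : ↥L ⧸ Cfsg.pCore 2 ↥L)⁻¹ * z = ab⁻¹ * z
        rw [hab']
  obtain ⟨Q1, g, hQ1S, -, hgn, han, hg6, hgi, hidx, j, hj⟩ :=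
    data A B0 az y hA.1 hAe haz inf_le_left hcov hyO hB0y hyinv
  have hgW : (g : G) ∈ normalizer (W : Set G) :=
    step_offender (hS.to_le hQ1S) (hQ1S.trans hSW) hgn han hg6 hgi hAe haz hidx (hJW A hA)
      (hM.mono hQ1S) (hspan g g.2).1 (offender_bound (hspan g g.2).1 (hspan g g.2).2 hA)
  apply hyH
  refine ⟨hyO, g ^ j, ?_, by rw [map_pow, ← hj]⟩
  exact pow_mem (show (g : G) ∈ X from hNW ⟨g.2, hgW⟩) j

end Cfsg.Agent.H9.SFree
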