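import Mathlib
import Cfsg.Agent.H9.SFreeMain
import Cfsg.Agent.H10.SemiModel
import Cfsg.Agent.H10.NonFactorizable
import Cfsg.Agent.S3755

/-!
The margin property of a reduced module of a solvable group without `S₄` section.
-/

set_option autoImplicit false

namespace Cfsg.Agent.H9.SFree

open Subgroup

/-- The margin property of a reduced normal elementary abelian subgroup. -/
theorem margin_of_reduced {Γ : Type*} [Group Γ] [Finite Γ] [Group.IsSolvable Γ]
    (hfree : ¬ Cfsg.Involves (Equiv.Perm (Fin 4)) Γ) (V : Subgroup Γ) [V.Normal]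
    (hV : Cfsg.IsElementaryAbelian 2 V)
    (hO : Cfsg.pCore 2 (Γ ⧸ centralizer (V : Set Γ)) = ⊥) : Margin V (⊤ : Subgroup Γ) := by
  intro B _ hsq hcm
  haveI : Fact (Nat.Prime 2) := ⟨Nat.prime_two⟩
  set C := centralizer (V : Set Γ) with hC
  set t := H10.toModel V with ht
  set A := B.map t with hA
  set M := t.range with hM
  have hker : ∀ g, t g = 1 ↔ g ∈ C := fun g => H10.toModel_eq_one_iff
  have hAe : Cfsg.IsElementaryAbelian 2 A := by
    refine ⟨H11.isMulCommutative_of_commute ?_, ?_⟩
    · rintro _ ⟨x, hx, rfl⟩ _ ⟨y, hy, rfl⟩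
      have h := (hker _).mpr (hcm x hx y hy)
      rw [map_mul, map_mul, map_mul, map_inv, map_inv, mul_inv_eq_one, mul_inv_eq_iff_eq_mul] at h
      exact h
    · rintro _ ⟨x, hx, rfl⟩
      rw [pow_two, ← map_mul]
      exact (hker _).mpr (hsq x hx)
  -- `M` is a copy of `Γ / C(V)`
  set ι : Γ ⧸ C →* H10.Model V := SemidirectProduct.inr with hι
  have hMι : M = ι.range := by
    rw [hM, ht, H10.toModel, MonoidHom.range_comp, MonoidHom.range_eq_map ι]
    congr 1
    exact MonoidHom.range_eq_top.mpr (QuotientGroup.mk'_surjective _)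
  let e : (Γ ⧸ C) ≃* M :=
    (MonoidHom.ofInjective (f := ι) SemidirectProduct.inr_injective).trans (MulEquiv.subgroupCongr hMι.symm)
  haveI : Group.IsSolvable (Γ ⧸ C) := Group.isSolvable_of_surjective (QuotientGroup.mk'_surjective _)
  have hcon : centralizer (Cfsg.pPrimeCore 2 ↥M : Set ↥M) ≤ Cfsg.pPrimeCore 2 ↥M := by
    haveI : Group.IsSolvable ↥M := Group.isSolvable_of_surjective e.surjective (f := e.toMonoidHom)
    refine H10.centralizer_pPrimeCore_le H10.isPSolvable_of_isSolvable ?_
    rw [← H1.map_pCore_equiv 2 e, hO, Subgroup.map_bot]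
  have hno : ¬ Cfsg.Involves (Equiv.Perm (Fin 3)) ↥M := by
    intro h
    have h2 : Cfsg.Involves (Equiv.Perm (Fin 3)) (Γ ⧸ C) := H74.JA.involves_of_equiv e.symm h
    apply hfree
    refine H74.S4Section.symm_four_of_automizer (T := V) (H10.isPGroup_of_elem hV) ?_
    set U := normalizer (V : Set Γ) with hU
    haveI hn : ((centralizer (V : Set Γ)).subgroupOf U).Normal :=
      (inferInstance : (centralizer (V : Set Γ)).Normal).comap _
    refine H74.JA.involves_of_equiv (QuotientGroup.congr _ _ (MulEquiv.trans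
      (MulEquiv.subgroupCongr (normalizer_eq_top (H := V))) Subgroup.topEquiv) ?_).symm h2
    ext x
    constructor
    · rintro ⟨y, hy, rfl⟩
      exact hy
    · intro hx
      exact ⟨⟨x, by rw [normalizer_eq_top]; exact mem_top x⟩, hx, rfl⟩
  have hmain : Nat.card A ^ 2 ≤
      (H10.modelV V ⊓ centralizer (A : Set (H10.Model V))).relIndex (H10.modelV V) := by
    by_contra hlt
    exact hno (S3755.result M (H10.modelV V) (H10.modelV_elementaryAbelian hV)
      H10.toModel_range_le_normalizer H10.range_inf_centralizer hcon A (map_le_range _ _) hAe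
      (not_le.mp hlt))
  have hleft : (B ⊓ C).relIndex B = Nat.card A := by
    rw [hA, ← relIndex_ker, show t.ker = C from Subgroup.ext fun g => MonoidHom.mem_ker.trans (hker g),
      inf_relIndex_left]
  have hright : (H10.modelV V ⊓ centralizer (A : Set (H10.Model V))).relIndex (H10.modelV V) =
      (V ⊓ centralizer (B : Set Γ)).relIndex V := by
    set C1 := H10.modelV V ⊓ centralizer (A : Set (H10.Model V)) with hC1
    set C2 := V ⊓ centralizer (B : Set Γ) with hC2
    have h1 : Nat.card C1 * C1.relIndex (H10.modelV V) = Nat.card (H10.modelV V) := by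
      rw [← relIndex_bot_left C1, relIndex_mul_relIndex ⊥ C1 _ bot_le inf_le_left, relIndex_bot_left]
    have h2 : Nat.card C2 * C2.relIndex V = Nat.card V := by
      rw [← relIndex_bot_left C2, relIndex_mul_relIndex ⊥ C2 _ bot_le inf_le_left, relIndex_bot_left]
    rw [H10.card_modelV, ← h2, show Nat.card C1 = Nat.card C2 from H10.card_fixed_model B] at h1
    exact Nat.eq_of_mul_eq_mul_left Nat.card_pos h1
  rw [hleft, ← hright]
  exact hmain

/-- The margin passes to the ambient group. -/
theorem margin_map {G : Type*} [Group G] [Finite G] {K : Subgroup G} {V : Subgroup K}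
    (h : Margin V (⊤ : Subgroup K)) {S : Subgroup G} (hSK : S ≤ K) :
    Margin (V.map K.subtype) S := by
  intro B hB hsq hcm
  have hBK : B ≤ K := hB.trans hSK
  have hVK : V.map K.subtype ≤ K := map_subtype_le _
  have hmem : ∀ z : K, (z : G) ∈ centralizer ((V.map K.subtype : Subgroup G) : Set G) ↔
      z ∈ centralizer (V : Set K) := by
    intro z
    constructor
    · intro hz
      exact mem_centralizer_iff.mpr fun v hv => Subtype.ext (mem_centralizer_iff.mp hz v ⟨v, hv, rfl⟩)
    · intro hz
      rw [mem_centralizer_iff]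
      rintro _ ⟨v, hv, rfl⟩
      exact congrArg Subtype.val (mem_centralizer_iff.mp hz v hv)
  have h1 := h (B.subgroupOf K) le_top (fun x hx => (hmem _).mp (hsq x hx))
    (fun x hx y hy => (hmem _).mp (hcm x hx y hy))
  have e1 : B.subgroupOf K ⊓ centralizer (V : Set K) =
      (B ⊓ centralizer ((V.map K.subtype : Subgroup G) : Set G)).subgroupOf K := by
    ext z
    simp only [mem_inf, mem_subgroupOf]
    rw [hmem]
  have e2 : V = (V.map K.subtype).subgroupOf K :=
    (comap_map_eq_self_of_injective K.subtype_injective V).symm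
  have e3 : V ⊓ centralizer (B.subgroupOf K : Set K) =
      (V.map K.subtype ⊓ centralizer (B : Set G)).subgroupOf K := by
    ext z
    simp only [mem_inf, mem_subgroupOf]
    constructor
    · rintro ⟨hz, hzc⟩
      exact ⟨⟨z, hz, rfl⟩, mem_centralizer_iff.mpr fun b hb =>
        congrArg Subtype.val (mem_centralizer_iff.mp hzc ⟨b, hBK hb⟩ hb)⟩
    · rintro ⟨⟨z', hz', e⟩, hzc⟩
      exact ⟨by rwa [← show z' = z from Subtype.ext e],
        mem_centralizer_iff.mpr fun b hb => Subtype.ext (mem_centralizer_iff.mp hzc b hb)⟩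
  rw [e1, e3, relIndex_subgroupOf hBK] at h1
  conv_rhs at h1 => arg 2; rw [e2]
  rw [relIndex_subgroupOf hVK] at h1
  exact h1

/-- Subgroups of largest order with the margin property centralize. -/
theorem maxFam_le_centralizer {G : Type*} [Group G] [Finite G] {V S : Subgroup G} (hV : Elem V)
    (hVS : V ≤ S) (hM : Margin V S) {A : Subgroup G}
    (hA : A ∈ H11.maxFam (fun A : Subgroup G => Cfsg.IsElementaryAbelian 2 A) S) :
    A ≤ centralizer (V : Set G) := by
  have hAe := Elem.of_isElem hA.2.1
  have h1 := hM A hA.1 (fun x hx => by rw [hAe.sq x hx]; exact one_mem _)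
    (fun x hx y hy => by
      rw [hAe.comm x hx y hy, mul_inv_cancel_right, mul_inv_cancel]; exact one_mem _)
  have h2 := h1.trans (offender_bound hV hVS hA)
  set c := (A ⊓ centralizer (V : Set G)).relIndex A with hc
  have hpos : 0 < c := Nat.pos_of_ne_zero index_ne_zero_of_finite
  have hc1 : c = 1 := by
    rw [pow_two] at h2
    have h3 := Nat.le_of_mul_le_mul_left (h2.trans_eq (mul_one c).symm) hpos
    omega
  exact (relIndex_eq_one.mp hc1).trans inf_le_right

end Cfsg.Agent.H9.SFree
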