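import Cfsg.Agent.H11.CIT.Interface
import Cfsg.Agent.H90.PlaneHom
import Cfsg.Agent.S5626
import Cfsg.Agent.S5628

/-!
A simple group of order 20160 acting faithfully on a projective plane of order four is `PSL₃(4)`.

The plane is identified with the one cut out on the Golay points by the octads through three fixed
points, on which `PSL₃(4)` acts as the three-point stabiliser. The automorphism group of a plane of
order four has at most `168 * 720` elements, so a simple subgroup of order 20160 lies in the copy
of `PSL₃(4)`, which has index at most six.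
-/

set_option autoImplicit false

namespace Cfsg.Agent.H9.CITPlane

open Cfsg H94.Plane4
open scoped Pointwise

universe u

/-- The Golay points other than the three fixed ones. -/
abbrev ModelPt : Type := {x : GolayPt // H90.special3 x = false}

/-- The three fixed points. -/
def fixedPts : Finset GolayPt := Finset.univ.filter fun x => H90.special3 x = true

theorem card_fixedPts : fixedPts.card = 3 := by decide +kernel

theorem card_modelPt : Fintype.card ModelPt = 21 := by decide +kernel

/-- The octads through the three fixed points, restricted to the other points. -/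
def modelPlane : Set (Finset ModelPt) :=
  {l | l.map (Function.Embedding.subtype _) ∪ fixedPts ∈ octads}

theorem disjoint_fixedPts (l : Finset ModelPt) :
    Disjoint (l.map (Function.Embedding.subtype _)) fixedPts := by
  rw [Finset.disjoint_left]
  intro x hx hx'
  obtain ⟨y, -, rfl⟩ := Finset.mem_map.mp hx
  have h1 : H90.special3 y.1 = true := (Finset.mem_filter.mp hx').2
  rw [y.2] at h1
  exact Bool.noConfusion h1

theorem modelPlane_steiner : IsSteinerSystem 2 5 modelPlane := by
  refine ⟨fun l hl => ?_, fun s hs => ?_⟩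
  · have h := H90.octads_steiner.1 _ hl
    rw [Finset.card_union_of_disjoint (disjoint_fixedPts l), Finset.card_map, card_fixedPts] at h
    omega
  · obtain ⟨b, ⟨hb, hsb⟩, huniq⟩ := H90.octads_steiner.2
      (s.map (Function.Embedding.subtype _) ∪ fixedPts)
      (by rw [Finset.card_union_of_disjoint (disjoint_fixedPts s), Finset.card_map, card_fixedPts, hs])
    have key : (b.subtype fun x => H90.special3 x = false).map (Function.Embedding.subtype _) ∪
        fixedPts = b := by
      ext x
      by_cases hx : H90.special3 x = true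
      · have hxb : x ∈ b := hsb (Finset.mem_union_right _ (by simp [fixedPts, hx]))
        simp [fixedPts, hx, hxb]
      · simp [fixedPts, hx]
    refine ⟨b.subtype _, ⟨?_, ?_⟩, ?_⟩
    · show _ ∈ octads
      rw [key]; exact hb
    · intro x hx
      exact Finset.mem_subtype.mpr
        (hsb (Finset.mem_union_left _ (Finset.mem_map.mpr ⟨x, hx, rfl⟩)))
    · rintro l ⟨hl, hsl⟩
      have hlb : l.map (Function.Embedding.subtype _) ∪ fixedPts = b :=
        huniq _ ⟨hl, Finset.union_subset_union (Finset.map_subset_map.mpr hsl) le_rfl⟩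
      ext x
      rw [Finset.mem_subtype]
      refine ⟨fun hx => hlb ▸ Finset.mem_union_left _ (Finset.mem_map.mpr ⟨x, hx, rfl⟩), fun hx => ?_⟩
      rw [← hlb, Finset.mem_union] at hx
      rcases hx with hx | hx
      · obtain ⟨y, hy, hyx⟩ := Finset.mem_map.mp hx
        exact Subtype.ext hyx ▸ hy
      · exact absurd (Finset.mem_filter.mp hx).2 (by simp [x.2])

theorem fixThree_fix {σ : Equiv.Perm GolayPt} (hσ : σ ∈ H90.fixThree) {x : GolayPt}
    (hx : H90.special3 x = true) : σ x = x := by
  simp only [H90.special3, Bool.or_eq_true, decide_eq_true_eq] at hx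
  rcases hx with (rfl | rfl) | rfl
  exacts [hσ.1.1.2, hσ.1.2, hσ.2]

theorem fixThree_special {σ : Equiv.Perm GolayPt} (hσ : σ ∈ H90.fixThree) (x : GolayPt) :
    H90.special3 (σ x) = false ↔ H90.special3 x = false := by
  constructor <;> intro h
  · by_contra h'
    rw [fixThree_fix hσ (by simpa using h')] at h
    exact h' h
  · by_contra h'
    have h2 := σ.injective (fixThree_fix hσ (by simpa using h' : H90.special3 (σ x) = true))
    rw [h2] at h'
    exact h' h

/-- The action of the three-point stabiliser on the model plane. -/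
def restrHom : H90.fixThree →* Equiv.Perm ModelPt where
  toFun σ := σ.1.subtypePerm fun x => fixThree_special σ.2 x
  map_one' := Equiv.ext fun _ => rfl
  map_mul' _ _ := Equiv.ext fun _ => rfl

theorem restrHom_injective : Function.Injective restrHom := by
  intro σ τ h
  refine Subtype.ext (Equiv.ext fun x => ?_)
  by_cases hx : H90.special3 x = true
  · rw [fixThree_fix σ.2 hx, fixThree_fix τ.2 hx]
  · exact congrArg Subtype.val (Equiv.Perm.congr_fun h ⟨x, by simpa using hx⟩)

theorem restrHom_lines (σ : H90.fixThree) {l : Finset ModelPt} (hl : l ∈ modelPlane) :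
    l.image (restrHom σ) ∈ modelPlane := by
  show _ ∈ octads
  have h : (σ.1 • (l.map (Function.Embedding.subtype _) ∪ fixedPts) : Finset GolayPt) ∈ octads := by
    have hmem : σ.1 ∈ setSystemAut octads := H90.M24_eq_setSystemAut_octads ▸ σ.2.1.1.1
    rw [MulAction.mem_stabilizer_iff] at hmem
    rw [← hmem]
    exact Set.smul_mem_smul_set hl
  have e : (σ.1 • (l.map (Function.Embedding.subtype _) ∪ fixedPts) : Finset GolayPt) =
      (l.image (restrHom σ)).map (Function.Embedding.subtype _) ∪ fixedPts := by
    show Finset.image _ _ = _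
    rw [Finset.image_union]
    congr 1
    · rw [Finset.map_eq_image, Finset.map_eq_image, Finset.image_image, Finset.image_image]
      rfl
    · conv_rhs => rw [← Finset.image_id (s := fixedPts)]
      exact Finset.image_congr fun x hx => fixThree_fix σ.2 (Finset.mem_filter.mp hx).2
  rwa [e] at h

theorem mem_setSystemAut_of_forall {α : Type*} [DecidableEq α] {K : Type*} [Group K]
    (f : K →* Equiv.Perm α) (L : Set (Finset α)) (h : ∀ k, ∀ l ∈ L, l.image (f k) ∈ L) (k : K) :
    f k ∈ setSystemAut L := by
  rw [setSystemAut, MulAction.mem_stabilizer_iff]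
  apply Set.Subset.antisymm
  · rintro _ ⟨l, hl, rfl⟩
    exact h k l hl
  · intro l hl
    rw [Set.mem_smul_set_iff_inv_smul_mem, ← map_inv]
    exact h _ l hl

theorem card_aut_le {α : Type u} [Fintype α] [DecidableEq α] {L : Set (Finset α)}
    (h : IsPlane L) : Nat.card (setSystemAut L) ≤ 168 * 720 := by
  classical
  obtain ⟨φ, hφ⟩ := h.exists_frame
  let S : Finset (Fin 6 ↪ α) :=
    Finset.univ.filter fun f => Finset.univ.map f ∈ IsPlane.indepSets L 6
  have hSmem : ∀ f, f ∈ S ↔ Indep L (Finset.univ.map f) := fun f => by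
    simp [S, h.mem_indepSets]
  have hS : S.card ≤ 720 * 168 := by
    refine le_trans (Finset.card_le_mul_card_image (f := fun f : Fin 6 ↪ α => Finset.univ.map f) S
      720 fun H hH => ?_) ?_
    · obtain ⟨f₀, -, rfl⟩ := Finset.mem_image.mp hH
      let F : {f // f ∈ S.filter fun f => Finset.univ.map f = Finset.univ.map f₀} →
          (Fin 6 ↪ ↥(Finset.univ.map f₀)) := fun f =>
        ⟨fun i => ⟨f.1 i, (Finset.ext_iff.mp (Finset.mem_filter.mp f.2).2 _).mp
            (Finset.mem_map_of_mem _ (Finset.mem_univ i))⟩,
          fun i j hij => f.1.injective (congrArg Subtype.val hij)⟩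
      have hF : Function.Injective F := fun f g hfg => Subtype.ext
        (DFunLike.ext _ _ fun i => congrArg Subtype.val (DFunLike.congr_fun hfg i))
      have := Fintype.card_le_of_injective F hF
      rw [Fintype.card_coe, Fintype.card_embedding_eq, Fintype.card_coe, Finset.card_map,
        Finset.card_univ, Fintype.card_fin] at this
      exact this.trans (by decide)
    · refine Nat.mul_le_mul_left _ ?_
      rw [← h.count_hyperovals]
      refine Finset.card_le_card fun H hH => ?_
      obtain ⟨f, hf, rfl⟩ := Finset.mem_image.mp hH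
      exact (Finset.mem_filter.mp hf).2
  have hmem : ∀ g : setSystemAut L, φ.trans g.1.toEmbedding ∈ S := by
    intro g
    rw [hSmem]
    intro l hl
    have hinv : g.1⁻¹ • l ∈ L := by
      rw [← Set.mem_smul_set_iff_inv_smul_mem, MulAction.mem_stabilizer_iff.mp g.2]; exact hl
    have e : l ∩ Finset.univ.map (φ.trans g.1.toEmbedding) =
        (g.1⁻¹ • l ∩ Finset.univ.map φ).image g.1 := by
      ext x
      simp only [Finset.mem_inter, Finset.mem_image, Finset.mem_map, Finset.mem_univ, true_and,
        Finset.mem_inv_smul_finset_iff, Equiv.Perm.smul_def,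
        Function.Embedding.trans_apply, Equiv.coe_toEmbedding]
      constructor
      · rintro ⟨hx, i, rfl⟩; exact ⟨φ i, ⟨hx, i, rfl⟩, rfl⟩
      · rintro ⟨y, ⟨hy, i, rfl⟩, rfl⟩; exact ⟨hy, i, rfl⟩
    rw [e, Finset.card_image_of_injective _ g.1.injective]
    exact hφ _ hinv
  let T : setSystemAut L → {f // f ∈ S} := fun g => ⟨_, hmem g⟩
  have hT : Function.Injective T := by
    intro g g' hgg
    have hpt : ∀ i, g.1 (φ i) = g'.1 (φ i) := fun i =>
      DFunLike.congr_fun (congrArg Subtype.val hgg) i
    obtain ⟨k, -, huniq⟩ := Cfsg.Agent.S5628.result h.card21 L h.steiner (Finset.univ.map φ)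
      ⟨by simp, hφ⟩ 1
    have h1 : (g'⁻¹ * g).1 = k := huniq _ ⟨(g'⁻¹ * g).2, fun p => by
      obtain ⟨i, -, hi⟩ := Finset.mem_map.mp p.2
      show g'.1⁻¹ (g.1 p.1) = p.1
      rw [← hi, hpt, ← Equiv.Perm.mul_apply, inv_mul_cancel, Equiv.Perm.one_apply]⟩
    have h2 : (1 : Equiv.Perm α) = k := huniq _ ⟨one_mem _, fun _ => rfl⟩
    have h3 : g'⁻¹ * g = 1 := Subtype.ext (h1.trans h2.symm)
    exact (inv_mul_eq_one.mp h3).symm
  calc Nat.card (setSystemAut L) ≤ Nat.card {f // f ∈ S} := Nat.card_le_card_of_injective T hT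
    _ = S.card := by simp
    _ ≤ 168 * 720 := by omega

theorem planeRecognition : H11.CIT.PlaneRecognition.{u} := by
  intro G _ _ _ P _ _ _ _ L hL hinv hcard
  classical
  have : IsSimpleGroup (Matrix.ProjectiveSpecialLinearGroup (Fin 3) H37.K4) :=
    H37.isSimpleGroup_PSL (by simp)
  obtain ⟨eψ⟩ := H90.psl_equiv_fixThree
  obtain ⟨e, he⟩ := Cfsg.Agent.S5626.result card_modelPt hL.card21 modelPlane_steiner hL.steiner
  let ρ₀ : Matrix.ProjectiveSpecialLinearGroup (Fin 3) H37.K4 →* Equiv.Perm P :=
    (Equiv.permCongrHom e).toMonoidHom.comp (restrHom.comp eψ.toMonoidHom)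
  have hρ₀i : Function.Injective ρ₀ :=
    (Equiv.permCongrHom e).injective.comp (restrHom_injective.comp eψ.injective)
  have hρ₀ : ∀ x, ρ₀ x ∈ setSystemAut L := mem_setSystemAut_of_forall ρ₀ L fun x l hl => by
    rw [← he] at hl ⊢
    obtain ⟨m, hm, rfl⟩ := hl
    refine ⟨m.image (restrHom (eψ x)), restrHom_lines _ hm, ?_⟩
    show (m.image (restrHom (eψ x))).image e = (m.image e).image (ρ₀ x)
    rw [Finset.image_image, Finset.image_image]
    congr 1
    funext y
    show e (restrHom (eψ x) y) = e (restrHom (eψ x) (e.symm (e y)))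
    rw [Equiv.symm_apply_apply]
  let ψ₀ : G →* Equiv.Perm P := MulAction.toPermHom G P
  have hψ₀ : ∀ g, ψ₀ g ∈ setSystemAut L := mem_setSystemAut_of_forall ψ₀ L hinv
  let ρ := ρ₀.codRestrict (setSystemAut L) hρ₀
  let ψ := ψ₀.codRestrict (setSystemAut L) hψ₀
  have hρi : Function.Injective ρ := fun x y h => hρ₀i (congrArg Subtype.val h)
  have hψi : Function.Injective ψ := fun x y h =>
    MulAction.toPerm_injective (congrArg Subtype.val h)
  have hX : Nat.card ρ.range = 20160 := by
    rw [← Nat.card_congr (MonoidHom.ofInjective hρi).toEquiv, H90.card_psl_k4]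
  have hidx : ρ.range.index ≤ 6 := by
    have h1 := Subgroup.card_mul_index ρ.range
    have h2 := card_aut_le hL
    rw [hX] at h1
    omega
  let β : G →* Equiv.Perm (setSystemAut L ⧸ ρ.range) :=
    (MulAction.toPermHom (setSystemAut L) (setSystemAut L ⧸ ρ.range)).comp ψ
  have hβ : ∀ g, β g = 1 := by
    by_contra hne
    obtain ⟨g, hg⟩ := not_forall.mp hne
    have hinj := H37.injective_of_simple β ⟨g, hg⟩
    have h1 := Nat.card_le_card_of_injective β hinj
    rw [hcard, Nat.card_perm] at h1
    have h2 : Nat.factorial (Nat.card (setSystemAut L ⧸ ρ.range)) ≤ Nat.factorial 6 :=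
      Nat.factorial_le hidx
    have h3 : Nat.factorial 6 = 720 := rfl
    omega
  have hle : ψ.range ≤ ρ.range := by
    rintro _ ⟨g, rfl⟩
    have h1 : ψ g • ((1 : setSystemAut L) : setSystemAut L ⧸ ρ.range) = (1 : setSystemAut L) :=
      Equiv.Perm.congr_fun (hβ g) ((1 : setSystemAut L) : setSystemAut L ⧸ ρ.range)
    rw [MulAction.Quotient.smul_mk, QuotientGroup.eq, smul_eq_mul, mul_one, mul_one] at h1
    exact inv_mem_iff.mp h1
  have heq : ψ.range = ρ.range := Subgroup.eq_of_le_of_card_ge hle (by
    rw [hX, ← Nat.card_congr (MonoidHom.ofInjective hψi).toEquiv, hcard])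
  exact ⟨H37.K4, inferInstance, inferInstance, by rw [← Nat.card_eq_fintype_card, H37.card_K4],
    ⟨((MonoidHom.ofInjective hψi).trans (MulEquiv.subgroupCongr heq)).trans
      (MonoidHom.ofInjective hρi).symm⟩⟩

end Cfsg.Agent.H9.CITPlane
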