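import Cfsg.Agent.H37.Generation
import Cfsg.Agent.CompLayer

set_option autoImplicit false

namespace Cfsg.Agent.H9

open Matrix Matrix.SpecialLinearGroup

variable {ι F : Type*} [Fintype ι] [DecidableEq ι] [Field F]

theorem commutator_SL_eq_top_of_square (hF : ∃ a : F, a ≠ 0 ∧ a ^ 2 ≠ 1) :
    commutator (Matrix.SpecialLinearGroup ι F) = ⊤ := by
  obtain ⟨a, ha, ha2⟩ := hF
  refine H37.eq_top_of_transvection_mem _ fun i j hij c => ?_
  have h2 : a ^ 2 - 1 ≠ 0 := sub_ne_zero.mpr ha2
  have key : diag2n hij a ha * transvection hij (c / (a ^ 2 - 1)) * (diag2n hij a ha)⁻¹ *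
      (transvection hij (c / (a ^ 2 - 1)))⁻¹ = transvection hij c := by
    have hd : ∀ (b : F) (hb : b ≠ 0) (v : ι → F), diag2n hij b hb • v =
        fun k => (if k = i then b else if k = j then b⁻¹ else 1) * v k := fun b hb v => by
      funext k
      exact Matrix.mulVec_diagonal _ _ _
    have hconj : diag2n hij a ha * transvection hij (c / (a ^ 2 - 1)) =
        transvection hij (a ^ 2 * (c / (a ^ 2 - 1))) * diag2n hij a ha := by
      apply H37.SL_ext_smul
      intro v
      funext l
      simp only [mul_smul, H37.transvection_smul, hd, Pi.add_apply]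
      by_cases hli : l = i
      · subst hli
        simp [hij.symm]
        field_simp
      · by_cases hlj : l = j <;> simp [hli, hlj, hij]
    have hadd : ∀ b b' : F, transvection hij b * transvection hij b' = transvection hij (b + b') := by
      intro b b'
      apply H37.SL_ext_smul
      intro v
      funext l
      simp only [mul_smul, H37.transvection_smul, Pi.add_apply]
      by_cases hli : l = i
      · subst hli; simp [hij, hij.symm]; ring
      · simp [hli]
    rw [hconj, mul_inv_cancel_right]
    refine mul_inv_eq_of_eq_mul ?_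
    rw [hadd]
    congr 1
    field_simp
    ring
  rw [← key]
  exact Subgroup.commutator_mem_commutator (Subgroup.mem_top _) (Subgroup.mem_top _)

/-- `SL_n(F)` is quasisimple outside the two small exceptions. -/
theorem isQuasisimple_SL {m : ℕ} (hm : 2 ≤ m) (h : 3 ≤ m ∨ 4 ≤ Nat.card F) :
    Cfsg.IsQuasisimple (Matrix.SpecialLinearGroup (Fin m) F) := by
  rcases Nat.lt_or_ge m 3 with hlt | hge
  · obtain rfl : m = 2 := by omega
    have h4 : 4 ≤ Nat.card F := by omega
    haveI : Finite F := Nat.finite_of_card_ne_zero (by omega)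
    refine ⟨⟨commutator_SL_eq_top_of_square ?_⟩,
      Matrix.ProjectiveSpecialLinearGroup.rank_two_simple h4⟩
    classical
    haveI := Fintype.ofFinite F
    obtain ⟨a, -, ha⟩ := Finset.exists_mem_notMem_of_card_lt_card
      (s := ({0, 1, -1} : Finset F)) (t := Finset.univ) (by
        rw [Finset.card_univ, ← Nat.card_eq_fintype_card]
        have := Finset.card_le_three (a := (0 : F)) (b := 1) (c := -1)
        omega)
    simp only [Finset.mem_insert, Finset.mem_singleton, not_or] at ha
    exact ⟨a, ha.1, fun h => (sq_eq_one_iff.mp h).elim ha.2.1 ha.2.2⟩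
  · exact ⟨H37.isPerfect_SL (by simpa using hge), H37.isSimpleGroup_PSL (by simpa using hge)⟩

/-- Reindexing of special linear groups. -/
theorem isQuasisimple_SL_fintype {m : ℕ} (hm : Fintype.card ι = m) (h2 : 2 ≤ m)
    (h : 3 ≤ m ∨ 4 ≤ Nat.card F) : Cfsg.IsQuasisimple (Matrix.SpecialLinearGroup ι F) := by
  let e : Fin m ≃ ι := (Fintype.equivFinOfCardEq hm).symm
  let f : Matrix.SpecialLinearGroup (Fin m) F ≃* Matrix.SpecialLinearGroup ι F :=
    { toFun := fun g => ⟨Matrix.reindexAlgEquiv F F e g.1, by
        rw [Matrix.det_reindexAlgEquiv]; exact g.2⟩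
      invFun := fun g => ⟨Matrix.reindexAlgEquiv F F e.symm g.1, by
        rw [Matrix.det_reindexAlgEquiv]; exact g.2⟩
      left_inv := fun g => by apply Subtype.ext; simp
      right_inv := fun g => by apply Subtype.ext; simp
      map_mul' := fun g g' => Subtype.ext (map_mul _ _ _) }
  exact Cfsg.Comp.isQuasisimple_of_equiv f (isQuasisimple_SL h2 h)

end Cfsg.Agent.H9
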