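import Cfsg.Agent.H85.BrauerSuzuki
import Cfsg.Agent.H8.Coprime
import Cfsg.Agent.H65.BaerSuzuki
import Mathlib.GroupTheory.Perm.Cycle.Type

/-!
An involution central modulo a normal subgroup of odd order normalises a Sylow subgroup.
-/

set_option autoImplicit false

namespace Cfsg.Agent.H9

open Subgroup
open scoped Pointwise

variable {G : Type*} [Group G] [Finite G]

/-- An involution which is central modulo a normal subgroup of odd order normalises a Sylow
`p`-subgroup. -/
theorem exists_invariant_sylow {p : ℕ} [Fact p.Prime] {O : Subgroup G} [O.Normal]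
    (hO : Odd (Nat.card O)) {z : G} (hz : z * z = 1) (hc : ∀ g : G, z * g * z⁻¹ * g⁻¹ ∈ O) :
    ∃ P : Sylow p G, z ∈ Subgroup.normalizer ((P : Subgroup G) : Set G) := by
  classical
  obtain ⟨R⟩ : Nonempty (Sylow p G) := inferInstance
  set S := MulAction.orbit O R
  haveI : Fintype S := Fintype.ofFinite _
  have hzR : z • R ∈ S := by
    set H := O ⊔ (R : Subgroup G)
    have h1 : ((z • R : Sylow p G) : Subgroup G) ≤ H := by
      intro x hx
      rw [Sylow.coe_subgroup_smul, mem_pointwise_smul_iff_inv_smul_mem, MulAut.smul_def,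
        MulAut.conj_inv_apply] at hx
      have h2 := Subgroup.mul_mem_sup (hc (z⁻¹ * x * z)) hx
      simpa [H, mul_assoc] using h2
    obtain ⟨h, hh⟩ := MulAction.exists_smul_eq H (R.subtype (le_sup_right : (R : Subgroup G) ≤ H))
      ((z • R).subtype h1)
    obtain ⟨o, ho, r, hr, hor⟩ := Subgroup.mem_sup_of_normal_left.mp h.2
    rw [Sylow.smul_subtype le_sup_right h] at hh
    have h3 : (h : G) • R = z • R := Sylow.subtype_injective hh
    rw [← hor, mul_smul, Sylow.smul_eq_iff_mem_normalizer.mpr (Subgroup.le_normalizer hr)] at h3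
    exact ⟨⟨o, ho⟩, h3⟩
  have hinv : ∀ P ∈ S, z • P ∈ S := by
    rintro _ ⟨o, rfl⟩
    obtain ⟨o', ho'⟩ := hzR
    refine ⟨⟨z * o * z⁻¹, Subgroup.Normal.conj_mem inferInstance _ o.2 z⟩ * o', ?_⟩
    show (⟨z * o * z⁻¹, _⟩ * o' : O) • R = z • ((o : G) • R)
    rw [mul_smul, show o' • R = z • R from ho']
    show (z * o * z⁻¹) • z • R = z • (o : G) • R
    rw [← mul_smul, ← mul_smul, inv_mul_cancel_right]
  let σ : Equiv.Perm S :=
    { toFun := fun P => ⟨z • P.1, hinv _ P.2⟩
      invFun := fun P => ⟨z • P.1, hinv _ P.2⟩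
      left_inv := fun P => Subtype.ext (by simp [← mul_smul, hz])
      right_inv := fun P => Subtype.ext (by simp [← mul_smul, hz]) }
  have hodd : ¬ 2 ∣ Fintype.card S := by
    intro h
    rw [← Nat.card_eq_fintype_card] at h
    refine Nat.not_even_iff_odd.mpr hO (even_iff_two_dvd.mpr (h.trans ?_))
    rw [Nat.card_congr (MulAction.orbitEquivQuotientStabilizer O R)]
    exact Subgroup.card_quotient_dvd_card _
  haveI : Fact (Nat.Prime 2) := ⟨Nat.prime_two⟩
  obtain ⟨P, hP⟩ := σ.exists_fixed_point_of_prime (p := 2) (n := 1) hodd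
    (Equiv.ext fun P => by
      rw [pow_one, sq]
      exact Subtype.ext (show z • z • P.1 = P.1 by rw [← mul_smul, hz, one_smul]))
  exact ⟨P.1, Sylow.smul_eq_iff_mem_normalizer.mp (congrArg Subtype.val hP)⟩

/-- An isolated involution normalises a Sylow `p`-subgroup. -/
theorem isolated_exists_invariant_sylow {p : ℕ} [Fact p.Prime] {z : G}
    (hz : Cfsg.IsIsolatedInvolution z) :
    ∃ P : Sylow p G, z ∈ Subgroup.normalizer ((P : Subgroup G) : Set G) := by
  haveI := H1.pPrimeCore_normal' 2 G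
  refine exists_invariant_sylow (O := Cfsg.pPrimeCore 2 G) ?_ (H66.iso_sq hz) (H85.zStar hz)
  exact Nat.coprime_two_right.mp (H1.card_pPrimeCore_coprime 2 G)

/-- A maximal `p`-subgroup normalised by an isolated involution is a Sylow subgroup. -/
theorem maximal_invariant_is_sylow {p : ℕ} [Fact p.Prime] {z : G}
    (hz : Cfsg.IsIsolatedInvolution z) {Q : Subgroup G} (hQ : IsPGroup p Q)
    (hzQ : z ∈ Subgroup.normalizer (Q : Set G))
    (hmax : ∀ R : Subgroup G, IsPGroup p R → z ∈ Subgroup.normalizer (R : Set G) → Q ≤ R → R = Q) :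
    ∃ P : Sylow p G, (P : Subgroup G) = Q := by
  set N := Subgroup.normalizer (Q : Set G)
  obtain ⟨P, hP⟩ := isolated_exists_invariant_sylow (p := p) (H85.isolated_subgroup hz N hzQ)
  set R := (P : Subgroup N).map N.subtype
  have hzR : z ∈ Subgroup.normalizer (R : Set G) :=
    Subgroup.le_normalizer_map N.subtype ⟨⟨z, hzQ⟩, hP, rfl⟩
  haveI hQn : (Q.comap N.subtype).Normal := Subgroup.normal_in_normalizer
  have hQP : Q.subgroupOf N ≤ (P : Subgroup N) :=
    (hQ.comap_subtype (K := N)).le_sylow_of_normal P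
  have hRQ : R = Q := by
    refine hmax R (P.isPGroup'.map N.subtype) hzR fun q hq => ?_
    exact ⟨⟨q, Subgroup.le_normalizer hq⟩, hQP (Subgroup.mem_subgroupOf.mpr hq), rfl⟩
  obtain ⟨T, hT⟩ := hQ.exists_le_sylow
  refine ⟨T, le_antisymm ?_ hT⟩
  by_contra hne
  have hlt : Q < T := lt_of_le_of_ne hT fun h => hne h.ge
  obtain ⟨x, hxT, hxQ, hxN⟩ := H65.exists_normalizing_not_mem T.isPGroup' hlt.le hlt.ne
  have hp : IsPGroup p ↥(((T : Subgroup G) ⊓ N).subgroupOf N) :=
    (T.isPGroup'.to_le inf_le_left).comap_subtype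
  obtain ⟨P', hP'⟩ := hp.exists_le_sylow
  have hc : Nat.card P' = Nat.card P := by rw [Sylow.card_eq_multiplicity, Sylow.card_eq_multiplicity]
  have h1 : Q.subgroupOf N = (P : Subgroup N) := by
    refine le_antisymm hQP fun y hy => Subgroup.mem_subgroupOf.mpr ?_
    rw [← hRQ]
    exact ⟨y, hy, rfl⟩
  have h2 : Q.subgroupOf N ≤ (P' : Subgroup N) :=
    (hQ.comap_subtype (K := N)).le_sylow_of_normal P'
  have h3 : Q.subgroupOf N = (P' : Subgroup N) :=
    Subgroup.eq_of_le_of_card_ge h2 (by rw [h1]; exact hc.le)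
  have h4 : (⟨x, hxN⟩ : N) ∈ (P' : Subgroup N) := hP' (Subgroup.mem_subgroupOf.mpr ⟨hxT, hxN⟩)
  rw [← h3, Subgroup.mem_subgroupOf] at h4
  exact hxQ h4

end Cfsg.Agent.H9
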