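import Cfsg.Agent.H71.Local
import Cfsg.Agent.H71.Delta
import Cfsg.Agent.H10.PSolvable
import Cfsg.Agent.CompPComp

/-!
Balance in `p`-solvable groups.
-/

set_option autoImplicit false

namespace Cfsg.Agent.H9

open Subgroup Cfsg Cfsg.Comp

variable {H : Type*} [Group H] [Finite H] {p : ℕ} [Fact p.Prime]

/-- In a `p`-solvable group a `p'`-subgroup centralising a `p`-subgroup `R` and normalised by
`C(R)` lies in the `p'`-core. -/
theorem le_pPrimeCore_of_pSolvable (hH : IsPSolvable p H) {R D : Subgroup H} (hR : IsPGroup p R)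
    (hD : ¬ p ∣ Nat.card D) (hDR : D ≤ Subgroup.centralizer (R : Set H))
    (hC : Subgroup.centralizer (R : Set H) ≤ Subgroup.normalizer (D : Set H)) :
    D ≤ pPrimeCore p H := by
  intro y hy
  set O := pPrimeCore p H
  set f := QuotientGroup.mk' O
  have hDp : ¬ p ∣ Nat.card (D.map f) := fun h => hD (h.trans (Subgroup.card_map_dvd D f))
  have hfy : ¬ p ∣ orderOf (f y) := fun h =>
    hDp (h.trans ((D.map f).orderOf_dvd_natCard ⟨y, hy, rfl⟩))
  have hcen : f y ∈ Subgroup.centralizer (pCore p (H ⧸ O) : Set (H ⧸ O)) := by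
    refine H71.centralizes_pCore (hR.map f) hDp hfy ?_ ?_
    · rintro _ ⟨r, hr, rfl⟩
      rw [← map_mul, ← map_mul, Subgroup.mem_centralizer_iff.mp (hDR hy) r hr]
    · intro e _ he
      obtain ⟨c, hc, rfl⟩ := H71.exists_lift_centralizer (not_dvd_card_pPrimeCore p) hR he
      refine ⟨y * c * y⁻¹ * c⁻¹, ?_, by simp only [f, map_mul, map_inv]; rfl⟩
      have h1 := (Subgroup.mem_normalizer_iff.mp (hC hc) y⁻¹).mp (D.inv_mem hy)
      simpa [mul_assoc] using D.mul_mem hy h1
  have hpc := H10.centralizer_pCore_le (H10.isPSolvable_quotient hH O)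
    H10.pPrimeCore_quotient_pPrimeCore hcen
  have h1 : f y ∈ pCore p (H ⧸ O) ⊓ D.map f := ⟨hpc, y, hy, rfl⟩
  rw [inf_eq_bot_of_isPGroup (pCore_isPGroup p) hDp, Subgroup.mem_bot] at h1
  exact (QuotientGroup.eq_one_iff y).mp h1

/-- Balance for elements of order `p` with solvable centralisers, one inclusion. -/
theorem centralizerPPrimeCore_inf_le {G : Type*} [Group G] [Finite G] {x y : G}
    (hx : IsPGroup p (Subgroup.zpowers x)) (hxy : x * y = y * x)
    (hy : IsPSolvable p ↥(Subgroup.centralizer ({y} : Set G))) :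
    centralizerPPrimeCore p x ⊓ Subgroup.centralizer {y} ≤ centralizerPPrimeCore p y := by
  set C := Subgroup.centralizer ({y} : Set G) with hCdef
  have hxC : Subgroup.zpowers x ≤ C := by
    rw [Subgroup.zpowers_le, hCdef, Subgroup.mem_centralizer_singleton_iff]
    exact hxy
  set R := (Subgroup.zpowers x).subgroupOf C with hRdef
  have hR : IsPGroup p R := hx.comap_subtype
  set D := (centralizerPPrimeCore p x).subgroupOf C with hDdef
  have hD : ¬ p ∣ Nat.card D := by
    intro h
    refine H71.not_dvd_centralizerPPrimeCore (p := p) x (h.trans ?_)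
    rw [← card_map_subtype D]
    refine Subgroup.card_dvd_of_le ?_
    rw [hDdef, Subgroup.subgroupOf_map_subtype]
    exact inf_le_left
  have hDR : D ≤ Subgroup.centralizer (R : Set ↥C) := by
    intro d hd
    refine Subgroup.mem_centralizer_iff.mpr fun r hr => Subtype.ext ?_
    obtain ⟨k, hk⟩ := Subgroup.mem_zpowers_iff.mp (Subgroup.mem_subgroupOf.mp hr)
    have hdx : Commute (d : G) x := Subgroup.mem_centralizer_singleton_iff.mp
      (H71.centralizerPPrimeCore_le x (Subgroup.mem_subgroupOf.mp hd))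
    show (r : G) * d = d * r
    rw [← hk]
    exact (hdx.zpow_right k).symm.eq
  have hC : Subgroup.centralizer (R : Set ↥C) ≤ Subgroup.normalizer (D : Set ↥C) := by
    intro c hc
    have hcx : (c : G) ∈ Subgroup.centralizer ({x} : Set G) := by
      rw [Subgroup.mem_centralizer_singleton_iff]
      exact (congrArg Subtype.val (Subgroup.mem_centralizer_iff.mp hc ⟨x, hxC (Subgroup.mem_zpowers x)⟩
        (Subgroup.mem_subgroupOf.mpr (Subgroup.mem_zpowers x)))).symm
    refine Subgroup.mem_normalizer_iff.mpr fun d => ?_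
    simp only [hDdef, Subgroup.mem_subgroupOf, Subgroup.coe_mul, Subgroup.coe_inv]
    exact Subgroup.mem_normalizer_iff.mp
      (H71.centralizer_le_normalizer_centralizerPPrimeCore x hcx) (d : G)
  intro d hd
  exact ⟨⟨d, hd.2⟩, le_pPrimeCore_of_pSolvable hy hR hD hDR hC (Subgroup.mem_subgroupOf.mpr hd.1), rfl⟩

end Cfsg.Agent.H9
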