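import Cfsg.Agent.H9.ExtLayer
import Cfsg.Agent.H10.PSolvable

set_option autoImplicit false

namespace Cfsg.Agent.H9

open Cfsg Cfsg.Comp

variable {G : Type*} [Group G] [Finite G]

theorem le_normalizer_of_normal' {H K : Subgroup G} (hK : K.Normal) :
    H ≤ Subgroup.normalizer (K : Set G) := by
  haveI := hK
  rw [Subgroup.normalizer_eq_top]
  exact le_top

theorem coreC_le_centralizer (S : Subgroup G) : coreC S ≤ Subgroup.centralizer (S : Set G) :=
  Subgroup.map_subtype_le _

theorem le_centralizer_coreC (S : Subgroup G) :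
    S ≤ Subgroup.centralizer (coreC S : Set G) :=
  Subgroup.le_centralizer_iff.mp (coreC_le_centralizer S)

theorem not_dvd_card_coreC (S : Subgroup G) : ¬ 2 ∣ Nat.card ↥(coreC S) := by
  haveI : Fact (Nat.Prime 2) := ⟨Nat.prime_two⟩
  rw [coreC, Subgroup.card_map_of_injective (Subgroup.subtype_injective _)]
  exact not_dvd_card_pPrimeCore 2

/-- Conjugates of `p`-components are `p`-components. -/
theorem isPComponent_conj {p : ℕ} {K : Subgroup G} (hK : IsPComponent p K) (g : G) :
    IsPComponent p (K.map (MulAut.conj g).toMonoidHom) := by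
  set q := QuotientGroup.mk' (pPrimeCore p G)
  have hq : ∀ (h : G) (K : Subgroup G), (K.map (MulAut.conj h).toMonoidHom).map q =
      (K.map q).map (MulAut.conj (q h)).toMonoidHom := by
    intro h K
    rw [Subgroup.map_map, Subgroup.map_map]
    congr 1
  refine ⟨hK.1.map (MulAut.conj g).surjective, ?_, ?_⟩
  · rw [hq]; exact isComponent_conj hK.2.1 _
  · intro H hH hle heq
    have hinv : ∀ (A : Subgroup G),
        (A.map (MulAut.conj g⁻¹).toMonoidHom).map (MulAut.conj g).toMonoidHom = A := by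
      intro A; ext x; simp [Subgroup.map_map, mul_assoc]
    have hinv' : ∀ (A : Subgroup G),
        (A.map (MulAut.conj g).toMonoidHom).map (MulAut.conj g⁻¹).toMonoidHom = A := by
      intro A; ext x; simp [Subgroup.map_map, mul_assoc]
    have h1 := hK.2.2 (H.map (MulAut.conj g⁻¹).toMonoidHom) (hH.map (MulAut.conj g⁻¹).surjective)
      ((Subgroup.map_mono hle).trans (hinv' K).le) (by rw [hq, heq, ← hq, hinv'])
    rw [← hinv H, h1]

/-- Every `p`-subgroup of `M` is conjugate inside `M` into a given Sylow subgroup of `M`. -/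
theorem exists_conj_le_sylow_map {p : ℕ} [Fact p.Prime] {M : Subgroup G} (T : Sylow p ↥M)
    {P : Subgroup G} (hP : IsPGroup p ↥P) (hPM : P ≤ M) :
    ∃ m ∈ M, P.map (MulAut.conj m).toMonoidHom ≤ (T : Subgroup ↥M).map M.subtype := by
  obtain ⟨T2, hT2⟩ := (hP.of_equiv (Subgroup.subgroupOfEquivOfLe hPM).symm :
    IsPGroup p ↥(P.subgroupOf M)).exists_le_sylow
  obtain ⟨m, hm⟩ := MulAction.exists_smul_eq ↥M T2 T
  refine ⟨m, m.2, ?_⟩
  rintro _ ⟨x, hx, rfl⟩
  refine ⟨m * ⟨x, hPM hx⟩ * m⁻¹, ?_, rfl⟩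
  rw [← hm]
  exact ⟨_, hT2 (Subgroup.mem_subgroupOf.mpr hx), rfl⟩

variable (G) in
/-- The subgroup `L_{2'}(X) O_{2',2}(X)`. -/
abbrev twoBase : Subgroup G := Cfsg.pLayer 2 G ⊔ Cfsg.pPrimePCore 2 G

theorem pPrimePCore_le_sylow_sup (T : Sylow 2 ↥(twoBase G)) :
    Cfsg.pPrimePCore 2 G ≤ (T : Subgroup _).map (twoBase G).subtype ⊔ Cfsg.oddCore G := by
  haveI : Fact (Nat.Prime 2) := ⟨Nat.prime_two⟩
  set q := QuotientGroup.mk' (Cfsg.pPrimeCore 2 G)
  obtain ⟨P⟩ : Nonempty (Sylow 2 ↥(Cfsg.pPrimePCore 2 G)) := inferInstance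
  obtain ⟨m, -, hm⟩ := exists_conj_le_sylow_map T (P.2.map (Cfsg.pPrimePCore 2 G).subtype)
    ((Subgroup.map_subtype_le _).trans le_sup_right)
  have h1 : Cfsg.pCore 2 (G ⧸ Cfsg.pPrimeCore 2 G) ≤
      ((T : Subgroup _).map (twoBase G).subtype).map q := by
    intro x hx
    have hx' : (q m)⁻¹ * x * q m ∈ Cfsg.pCore 2 (G ⧸ Cfsg.pPrimeCore 2 G) := by
      simpa using (Cfsg.pCore_normal 2 _).conj_mem x hx (q m)⁻¹
    rw [← H10.map_sylow_pPrimePCore P] at hx'
    obtain ⟨y, hy, hyx⟩ := hx'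
    refine ⟨m * y * m⁻¹, hm ⟨y, hy, rfl⟩, ?_⟩
    rw [map_mul, map_mul, map_inv, hyx]
    group
  have h2 := Subgroup.comap_mono (f := q) h1
  rw [Subgroup.comap_map_eq, QuotientGroup.ker_mk'] at h2
  exact h2

theorem twoBase_le_normalizer (T : Sylow 2 ↥(twoBase G)) :
    twoBase G ≤ Subgroup.normalizer ((Cfsg.pLayer 2 G ⊔ Cfsg.oddCore G ⊔
      coreC ((T : Subgroup _).map (twoBase G).subtype) : Subgroup G) : Set G) := by
  haveI : Fact (Nat.Prime 2) := ⟨Nat.prime_two⟩
  set S := (T : Subgroup _).map (twoBase G).subtype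
  set R := Cfsg.pLayer 2 G ⊔ Cfsg.oddCore G ⊔ coreC S
  have hS : S ≤ Subgroup.normalizer (R : Set G) :=
    sup_le_normalizer (sup_le_normalizer (le_normalizer_of_normal' (pLayer_normal 2))
      (le_normalizer_of_normal' (pPrimeCore_normal 2)))
      ((le_centralizer_coreC S).trans (Subgroup.centralizer_le_normalizer _))
  exact sup_le ((le_sup_left.trans le_sup_left).trans Subgroup.le_normalizer)
    ((pPrimePCore_le_sylow_sup T).trans
      (sup_le hS ((le_sup_right.trans le_sup_left).trans Subgroup.le_normalizer)))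

theorem extendedTwoLayer_eq_one (T : Sylow 2 ↥(twoBase G)) :
    Cfsg.extendedTwoLayer G = Cfsg.pLayer 2 G ⊔ Cfsg.oddCore G ⊔
      coreC ((T : Subgroup _).map (twoBase G).subtype) := by
  haveI : Fact (Nat.Prime 2) := ⟨Nat.prime_two⟩
  have hdef : Cfsg.extendedTwoLayer G = Cfsg.pLayer 2 G ⊔ Cfsg.oddCore G ⊔
      ⨆ T : Sylow 2 ↥(twoBase G), coreC ((T : Subgroup _).map (twoBase G).subtype) := rfl
  have hge : coreC ((T : Subgroup _).map (twoBase G).subtype) ≤
      ⨆ T : Sylow 2 ↥(twoBase G), coreC ((T : Subgroup _).map (twoBase G).subtype) :=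
    le_iSup_of_le T le_rfl
  suffices hle : ∀ T2 : Sylow 2 ↥(twoBase G), coreC ((T2 : Subgroup _).map (twoBase G).subtype) ≤
      Cfsg.pLayer 2 G ⊔ Cfsg.oddCore G ⊔ coreC ((T : Subgroup _).map (twoBase G).subtype) by
    exact le_antisymm (hdef.le.trans (sup_le le_sup_left (iSup_le hle)))
      ((sup_le_sup_left hge _).trans hdef.ge)
  intro T2
  obtain ⟨m, hm⟩ := MulAction.exists_smul_eq ↥(twoBase G) T T2
  have hT2 : (T2 : Subgroup _).map (twoBase G).subtype =
      ((T : Subgroup _).map (twoBase G).subtype).map (MulAut.conj (m : G)).toMonoidHom := by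
    subst hm
    rw [Sylow.coe_subgroup_smul]
    ext x
    constructor
    · rintro ⟨_, ⟨y, hy, rfl⟩, rfl⟩
      exact ⟨y, ⟨y, hy, rfl⟩, rfl⟩
    · rintro ⟨_, ⟨y, hy, rfl⟩, rfl⟩
      exact ⟨_, ⟨y, hy, rfl⟩, rfl⟩
  rw [hT2]
  intro x hx
  have hx' := map_coreC_le (MulAut.conj (m : G)).symm _ ⟨x, hx, rfl⟩
  have he : (((T : Subgroup _).map (twoBase G).subtype).map (MulAut.conj (m : G)).toMonoidHom).map
      (MulAut.conj (m : G)).symm.toMonoidHom = (T : Subgroup _).map (twoBase G).subtype := by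
    rw [Subgroup.map_map]
    ext y
    simp
  rw [he] at hx'
  have hmR := fun y => Subgroup.mem_normalizer_iff.mp (twoBase_le_normalizer T m.2) y
  have hx2 : (m : G)⁻¹ * x * m ∈ coreC ((T : Subgroup _).map (twoBase G).subtype) := by
    simpa using hx'
  have := (hmR ((m : G)⁻¹ * x * m)).mp (le_sup_right (α := Subgroup G) hx2)
  simpa [mul_assoc] using this

theorem component_normalized_by_twoBase {K : Subgroup G} (hK : IsPComponent 2 K) :
    twoBase G ≤ Subgroup.normalizer
      (((K.map (QuotientGroup.mk' (pPrimeCore 2 G))).comap (QuotientGroup.mk' (pPrimeCore 2 G)) :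
        Subgroup G) : Set G) := by
  haveI : Fact (Nat.Prime 2) := ⟨Nat.prime_two⟩
  refine le_trans ?_ (Subgroup.le_normalizer_comap _)
  rw [← Subgroup.map_le_iff_le_comap, Subgroup.map_sup, map_pLayer]
  refine sup_le (layer_le_normalizer_component hK.2.1) ?_
  refine le_trans ?_ (Subgroup.centralizer_le_normalizer _)
  rw [H10.map_pPrimePCore]
  exact (pCore_le_fitting 2).trans (Subgroup.le_centralizer_iff.mp
    (Subgroup.commutator_eq_bot_iff_le_centralizer.mp (commutator_component_fitting hK.2.1)))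

theorem coreC_le_normalizer_component (T : Sylow 2 ↥(twoBase G)) {K : Subgroup G}
    (hK : IsPComponent 2 K) :
    coreC ((T : Subgroup _).map (twoBase G).subtype) ≤ Subgroup.normalizer (K : Set G) := by
  haveI : Fact (Nat.Prime 2) := ⟨Nat.prime_two⟩
  intro d hd
  set q := QuotientGroup.mk' (pPrimeCore 2 G) with hq
  set S := (T : Subgroup _).map (twoBase G).subtype with hS
  apply mem_normalizer_of_map_conj_eq
  by_contra hne
  have hK' := isPComponent_conj hK d
  set K' := K.map (MulAut.conj d).toMonoidHom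
  have hcomm : ⁅K.map q, K'.map q⁆ = ⊥ := (component_eq_or_commute hK.2.1 hK'.2.1).resolve_left
    fun h => hne (isPComponent_ext hK' hK h.symm)
  set W := (K.map q).comap q with hW
  have hWM : W ≤ twoBase G := by
    rw [hW, Subgroup.comap_map_eq, hq, QuotientGroup.ker_mk']
    refine sup_le ((show K ≤ Cfsg.pLayer 2 G from le_sSup hK).trans le_sup_left) ?_
    refine le_trans ?_ le_sup_right
    exact QuotientGroup.le_comap_mk' _ _
  obtain ⟨P⟩ : Nonempty (Sylow 2 ↥W) := inferInstance
  obtain ⟨m, hm, hmP⟩ := exists_conj_le_sylow_map T (P.2.map W.subtype)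
    ((Subgroup.map_subtype_le _).trans hWM)
  -- a Sylow subgroup of `W` inside `S`
  set U := (P : Subgroup ↥W).map W.subtype
  set U' := U.map (MulAut.conj m).toMonoidHom
  have hU'W : U' ≤ W := by
    rintro _ ⟨u, hu, rfl⟩
    exact (Subgroup.mem_normalizer_iff.mp (component_normalized_by_twoBase hK hm) u).mp
      (Subgroup.map_subtype_le _ hu)
  have hidx : ¬ 2 ∣ (U'.subgroupOf W).index := by
    have h1 : Nat.card ↥(U'.subgroupOf W) = Nat.card ↥(P : Subgroup ↥W) := by
      rw [Cfsg.Comp.card_subgroupOf hU'W, Subgroup.card_map_of_injective (MulAut.conj m).injective,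
        card_map_subtype]
    have h2 := (U'.subgroupOf W).card_mul_index
    rw [← (P : Subgroup ↥W).card_mul_index, h1] at h2
    rw [Nat.eq_of_mul_eq_mul_left Nat.card_pos h2]
    exact P.not_dvd_index
  -- its image in the component is central
  let f := q.subgroupComap (K.map q)
  have hf : Function.Surjective f :=
    MonoidHom.subgroupComap_surjective_of_surjective _ _ (QuotientGroup.mk'_surjective _)
  have hcen : (U'.subgroupOf W).map f ≤ Subgroup.center ↥(K.map q) := by
    rintro _ ⟨u, hu, rfl⟩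
    rw [Subgroup.mem_center_iff]
    intro x
    apply Subtype.ext
    have hud : (u : G) * d = d * u :=
      Subgroup.mem_centralizer_iff.mp (coreC_le_centralizer S hd) _
        (hmP (Subgroup.mem_subgroupOf.mp hu))
    have hmem : q (u : G) ∈ K'.map q := by
      obtain ⟨k, hk, hku⟩ := (u.2 : q (u : G) ∈ K.map q)
      refine ⟨d * k * d⁻¹, ⟨k, hk, rfl⟩, ?_⟩
      rw [map_mul, map_mul, map_inv, hku]
      have : q (u : G) * q d = q d * q (u : G) := by rw [← map_mul, ← map_mul, hud]
      rw [← this]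
      group
    exact commute_of_commutator_eq_bot hcomm x.2 hmem
  exact hidx (((dvd_index_center_component pPrimeCore_quotient_eq_bot hK.2.1).trans
    (Subgroup.index_dvd_of_le hcen)).trans (Subgroup.index_map_dvd _ hf))

theorem extendedTwoLayer_le_normalizer {K : Subgroup G} (hK : IsPComponent 2 K) :
    Cfsg.extendedTwoLayer G ≤ Subgroup.normalizer (K : Set G) := by
  haveI : Fact (Nat.Prime 2) := ⟨Nat.prime_two⟩
  rw [extendedTwoLayer_eq]
  refine sup_le (sup_le (pLayer_le_normalizer hK) fun o ho => ?_)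
    (iSup_le fun T => coreC_le_normalizer_component T hK)
  set q := QuotientGroup.mk' (pPrimeCore 2 G)
  apply mem_normalizer_of_map_conj_eq
  refine isPComponent_ext (isPComponent_conj hK o) hK ?_
  have h1 : q o = 1 := (QuotientGroup.eq_one_iff o).mpr ho
  rw [Subgroup.map_map]
  congr 1
  ext x
  show q (o * x * o⁻¹) = q x
  rw [map_mul, map_mul, map_inv, h1]
  group

theorem extendedTwoLayer_factor :
    ∃ F : Subgroup G, Odd (Nat.card ↥F) ∧
      (∃ S : Sylow 2 G, (S : Subgroup G) ≤ Subgroup.normalizer (F : Set G)) ∧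
      Cfsg.extendedTwoLayer G = Cfsg.pLayer 2 G ⊔ F := by
  haveI : Fact (Nat.Prime 2) := ⟨Nat.prime_two⟩
  haveI hM : (twoBase G).Normal :=
    haveI := pLayer_normal (G := G) 2
    haveI := pPrimePCore_normal (G := G) 2
    Subgroup.sup_normal _ _
  obtain ⟨T⟩ : Nonempty (Sylow 2 ↥(twoBase G)) := inferInstance
  obtain ⟨S, hS⟩ := (T.2.map (twoBase G).subtype).exists_le_sylow
  set T' := (T : Subgroup _).map (twoBase G).subtype
  have hTeq : T' = twoBase G ⊓ (S : Subgroup G) := by
    refine le_antisymm (le_inf (Subgroup.map_subtype_le _) hS) fun x hx => ?_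
    have hp : IsPGroup 2 ↥((S : Subgroup G).subgroupOf (twoBase G)) :=
      S.2.comap_subtype
    have heq := T.is_maximal' hp fun y hy => hS ⟨y, hy, rfl⟩
    refine ⟨⟨x, hx.1⟩, ?_, rfl⟩
    rw [← heq]
    exact hx.2
  have hST : (S : Subgroup G) ≤ Subgroup.normalizer (T' : Set G) := by
    rw [hTeq]
    exact inf_le_normalizer (le_normalizer_of_normal' hM) Subgroup.le_normalizer
  refine ⟨Cfsg.oddCore G ⊔ coreC T', ?_, ⟨S, ?_⟩, ?_⟩
  · rw [Nat.odd_iff, ← Nat.two_dvd_ne_zero, sup_comm]
    exact not_dvd_card_sup (le_normalizer_of_normal' (pPrimeCore_normal 2))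
      (not_dvd_card_coreC T') (not_dvd_card_pPrimeCore 2)
  · refine sup_le_normalizer (le_normalizer_of_normal' (pPrimeCore_normal 2)) fun s hs => ?_
    apply mem_normalizer_of_map_conj_eq
    refine Subgroup.eq_of_le_of_card_ge ((map_coreC_le (MulAut.conj s) T').trans (le_of_eq ?_))
      (Subgroup.card_map_of_injective (MulAut.conj s).injective).ge
    congr 1
    exact map_conj_eq_of_mem_normalizer (hST hs)
  · rw [extendedTwoLayer_eq_one T, sup_assoc]

end Cfsg.Agent.H9
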