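import Mathlib.Algebra.Ring.Basic
import Mathlib.Algebra.Group.Submonoid.Basic
import Mathlib.Algebra.Group.Subgroup.Lattice
import Mathlib.Data.Nat.Cast.Commute
import Mathlib.Tactic.NoncommRing

/-!
# Products of three mutually normalising square-zero additive groups
-/

set_option autoImplicit false
set_option linter.unusedSectionVars false

namespace Cfsg.Agent.H9.AG

variable {E : Type*} [Ring E]

/-- Square-zero additive subgroup. -/
def SqZero (S : AddSubgroup E) : Prop := ∀ x ∈ S, ∀ y ∈ S, x * y = 0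

/-- Mutual normalisation. -/
def Mutual (S T : AddSubgroup E) : Prop :=
  ∀ x ∈ S, ∀ y ∈ T, x * y - y * x ∈ S ∧ x * y - y * x ∈ T

theorem Mutual.symm {S T : AddSubgroup E} (h : Mutual S T) : Mutual T S := fun x hx y hy => by
  obtain ⟨h1, h2⟩ := h y hy x hx
  rw [← neg_sub (y * x) (x * y)]
  exact ⟨T.neg_mem h2, S.neg_mem h1⟩

theorem sandwich {S T : AddSubgroup E} (hS : SqZero S) (hST : Mutual S T) {x y : E} (hx : x ∈ S)
    (hy : y ∈ T) : x * y * x = 0 := by
  have h := hS _ (hST x hx y hy).1 x hx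
  rw [sub_mul, mul_assoc y x x, hS x hx x hx, mul_zero, sub_zero] at h
  exact h

/-- If `a + b + c` squares to zero then `1 + (a + b + c)` is a product of elements `1 + x`. -/
theorem exp_mem (Γ : Submonoid E) (A B C : AddSubgroup E) (hA : SqZero A) (hB : SqZero B)
    (hC : SqZero C) (hAB : Mutual A B) (hAC : Mutual A C) (hBC : Mutual B C)
    (hΓA : ∀ x ∈ A, 1 + x ∈ Γ) (hΓB : ∀ x ∈ B, 1 + x ∈ Γ) (hΓC : ∀ x ∈ C, 1 + x ∈ Γ)
    (h t : ℕ) (hh : (2 : E) * (h : E) = 1) (ht : (3 : E) * (t : E) = 1)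
    {a b c : E} (ha : a ∈ A) (hb : b ∈ B) (hc : c ∈ C)
    (hy : (a + b + c) * (a + b + c) = 0) : 1 + (a + b + c) ∈ Γ := by
  set c1 := a * b - b * a with hc1
  set c2 := a * c - c * a with hc2
  set c3 := b * c - c * b with hc3
  obtain ⟨c1A, c1B⟩ := hAB a ha b hb
  obtain ⟨c2A, c2C⟩ := hAC a ha c hc
  obtain ⟨c3B, c3C⟩ := hBC b hb c hc
  rw [← hc1] at c1A c1B
  rw [← hc2] at c2A c2C
  rw [← hc3] at c3B c3C
  set j1 := c1 * c - c * c1 with hj1
  set j2 := c3 * a - a * c3 with hj2
  set j3 := c2 * b - b * c2 with hj3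
  have j1A := (hAC c1 c1A c hc).1
  have j1B := (hBC c1 c1B c hc).1
  have j1C := (hAC c1 c1A c hc).2
  have j2B := (hAB.symm c3 c3B a ha).1
  have j2C := (hAC.symm c3 c3C a ha).1
  have j2A := (hAB.symm c3 c3B a ha).2
  have j3A := (hAB c2 c2A b hb).1
  have j3B := (hAB c2 c2A b hb).2
  have j3C := (hBC.symm c2 c2C b hb).1
  rw [← hj1] at j1A j1B j1C
  rw [← hj2] at j2A j2B j2C
  rw [← hj3] at j3A j3B j3C
  set P := (1 + a) * (1 + b) * (1 + c) with hP
  -- the products with the commutators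
  have a1 : a * c1 = 0 := hA a ha c1 c1A
  have b1 : b * c1 = 0 := hB b hb c1 c1B
  have a2 : a * c2 = 0 := hA a ha c2 c2A
  have c2' : c * c2 = 0 := hC c hc c2 c2C
  have b3 : b * c3 = 0 := hB b hb c3 c3B
  have c3' : c * c3 = 0 := hC c hc c3 c3C
  have P1 : P * c1 = c1 + c * c1 := by
    have ac : a * (c * c1) = 0 := by
      have : c * c1 = c1 * c - j1 := by rw [hj1]; abel
      rw [this, mul_sub, ← mul_assoc, a1, zero_mul, hA a ha j1 j1A, sub_zero]
    have bc : b * (c * c1) = 0 := by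
      have : c * c1 = c1 * c - j1 := by rw [hj1]; abel
      rw [this, mul_sub, ← mul_assoc, b1, zero_mul, hB b hb j1 j1B, sub_zero]
    calc P * c1 = c1 + a * c1 + b * c1 + a * (b * c1) + c * c1 + a * (c * c1) + b * (c * c1) +
          a * (b * (c * c1)) := by rw [hP]; noncomm_ring
      _ = c1 + c * c1 := by rw [b1, bc, ac, a1]; simp
  have P2 : P * c2 = c2 + b * c2 := by
    have ab : a * (b * c2) = 0 := by
      have : b * c2 = c2 * b - j3 := by rw [hj3]; abel
      rw [this, mul_sub, ← mul_assoc, a2, zero_mul, hA a ha j3 j3A, sub_zero]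
    calc P * c2 = c2 + a * c2 + b * c2 + a * (b * c2) + c * c2 + a * (c * c2) + b * (c * c2) +
          a * (b * (c * c2)) := by rw [hP]; noncomm_ring
      _ = c2 + b * c2 := by rw [c2', ab, a2]; simp
  have P3 : P * c3 = c3 + a * c3 := by
    calc P * c3 = c3 + a * c3 + b * c3 + a * (b * c3) + c * c3 + a * (c * c3) + b * (c * c3) +
          a * (b * (c * c3)) := by rw [hP]; noncomm_ring
      _ = c3 + a * c3 := by rw [c3', b3]; simp
  have k12 : c1 * c2 = 0 := hA _ c1A _ c2A
  have k13 : c1 * c3 = 0 := hB _ c1B _ c3B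
  have k23 : c2 * c3 = 0 := hC _ c2C _ c3C
  have m12 : c * c1 * c2 = 0 := by rw [mul_assoc, k12, mul_zero]
  have m13 : c * c1 * c3 = 0 := by rw [mul_assoc, k13, mul_zero]
  have m23 : b * c2 * c3 = 0 := by rw [mul_assoc, k23, mul_zero]
  set e1 := 1 + -(h • c1) with he1
  set e2 := 1 + -(h • c2) with he2
  set e3 := 1 + -(h • c3) with he3
  have P12 : P * c1 * c2 = 0 := by rw [P1, add_mul, k12, m12, add_zero]
  have P13 : P * c1 * c3 = 0 := by rw [P1, add_mul, k13, m13, add_zero]
  have P23 : P * c2 * c3 = 0 := by rw [P2, add_mul, k23, m23, add_zero]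
  have P123 : P * c1 * c2 * c3 = 0 := by rw [P12, zero_mul]
  have hQ : P * e1 * e2 * e3 = P - (h : E) * (P * c1 + P * c2 + P * c3) := by
    have hcm : ∀ x : E, x * (h : E) = (h : E) * x := fun x => (Nat.cast_commute h x).eq.symm
    have q1 : P * e1 = P - (h : E) * (P * c1) := by
      rw [he1, mul_add, mul_one, nsmul_eq_mul, mul_neg, ← mul_assoc P, hcm P, mul_assoc,
        ← sub_eq_add_neg]
    have q2 : P * e1 * e2 = P - (h : E) * (P * c1 + P * c2) := by
      rw [q1, he2, mul_add, mul_one, nsmul_eq_mul, mul_neg, sub_mul, ← mul_assoc P, hcm P,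
        mul_assoc (h : E) (P * c1), ← mul_assoc (P * c1), hcm (P * c1), mul_assoc (h : E) (P * c1),
        P12, mul_zero, mul_zero, sub_zero, mul_assoc (h : E) P, mul_add]
      abel
    rw [q2, he3, mul_add, mul_one, nsmul_eq_mul, mul_neg, sub_mul, ← mul_assoc P, hcm P,
      mul_assoc (h : E) (P * c1 + P * c2), ← mul_assoc (P * c1 + P * c2),
      hcm (P * c1 + P * c2), mul_assoc (h : E) (P * c1 + P * c2), add_mul (P * c1), P13, P23,
      add_zero, mul_zero, mul_zero, sub_zero, mul_assoc (h : E) P, mul_add (h : E) (P * c1 + P * c2)]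
    abel
  set y := a + b + c with hydef
  have sq : a * a = 0 ∧ b * b = 0 ∧ c * c = 0 :=
    ⟨hA a ha a ha, hB b hb b hb, hC c hc c hc⟩
  have hsum2 : a * b + b * a + (a * c + c * a) + (b * c + c * b) = 0 := by
    have e : y * y = a * a + b * b + c * c +
      (a * b + b * a + (a * c + c * a) + (b * c + c * b)) := by rw [hydef]; noncomm_ring
    rw [hy, sq.1, sq.2.1, sq.2.2, add_zero, add_zero, zero_add] at e
    exact e.symm
  have hsum3 : a * b * c + a * c * b + b * a * c + b * c * a + c * a * b + c * b * a = 0 := by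
    have sA := sandwich hA hAB ha hb
    have sA' := sandwich hA hAC ha hc
    have sB := sandwich hB hAB.symm hb ha
    have sB' := sandwich hB hBC hb hc
    have sC := sandwich hC hAC.symm hc ha
    have sC' := sandwich hC hBC.symm hc hb
    have e : y * y * y = a * b * c + a * c * b + b * a * c + b * c * a + c * a * b + c * b * a +
        (a * a * y + a * b * a + a * c * a + b * b * y + b * a * b + b * c * b +
          c * c * y + c * a * c + c * b * c +
          (a * (b * b) + a * (c * c) + b * (a * a) + b * (c * c) + c * (a * a) + c * (b * b))) := by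
      rw [hydef]; noncomm_ring
    rw [hy, zero_mul, sq.1, sq.2.1, sq.2.2, sA, sA', sB, sB', sC, sC'] at e
    simpa using e.symm
  set R3 := (t : E) * (2 * j1 + j2) with hR3
  -- the main identity
  have hQy : P * e1 * e2 * e3 = 1 + y + R3 := by
    rw [hQ, P1, P2, P3]
    have h6 : (6 : E) * ((h : E) * t) = 1 := by
      calc (6 : E) * ((h : E) * t) = (2 * (h : E)) * (3 * (t : E)) := by
            rw [show (6 : E) = 2 * 3 by norm_num]
            simp only [mul_assoc]
            rw [← mul_assoc (3 : E) (h : E), ← (Nat.cast_commute h (3 : E)).eq, mul_assoc]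
        _ = 1 := by rw [hh, ht, one_mul]
    have key : (6 : E) * P - 3 * (c1 + c * c1 + (c2 + b * c2) + (c3 + a * c3)) =
        6 * (1 + y) + 2 * (2 * j1 + j2) +
        (3 * (a * b + b * a + (a * c + c * a) + (b * c + c * b)) +
         1 * (a * b * c + a * c * b + b * a * c + b * c * a + c * a * b + c * b * a)) := by
      rw [hP, hydef, hj1, hj2, hc1, hc2, hc3]; noncomm_ring
    rw [hsum2, hsum3, mul_zero, mul_zero, add_zero, add_zero] at key
    have h6i : ∀ x : E, (h : E) * t * (6 * x) = x := fun x => by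
      rw [← mul_assoc, ← (Commute.ofNat_left 6 ((h : E) * t)).eq, h6, one_mul]
    have h3i : ∀ x : E, (h : E) * t * (3 * x) = (h : E) * x := fun x => by
      rw [mul_assoc, ← mul_assoc (t : E), ← (Commute.ofNat_left 3 (t : E)).eq, ht, one_mul]
    have h2i : ∀ x : E, (h : E) * t * (2 * x) = (t : E) * x := fun x => by
      rw [(Nat.cast_commute h (t : E)).eq, mul_assoc, ← mul_assoc (h : E),
        ← (Commute.ofNat_left 2 (h : E)).eq, hh, one_mul]
    have key2 := congrArg (fun z => (h : E) * t * z) key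
    simp only [mul_sub, mul_add ((h : E) * t) (6 * (1 + y)), h6i, h3i, h2i] at key2
    exact key2
  -- membership
  have hR3A : R3 ∈ A := by
    rw [hR3, ← nsmul_eq_mul, two_mul]
    exact A.nsmul_mem (A.add_mem (A.add_mem j1A j1A) j2A) t
  have hR3B : R3 ∈ B := by
    rw [hR3, ← nsmul_eq_mul, two_mul]
    exact B.nsmul_mem (B.add_mem (B.add_mem j1B j1B) j2B) t
  have hR3C : R3 ∈ C := by
    rw [hR3, ← nsmul_eq_mul, two_mul]
    exact C.nsmul_mem (C.add_mem (C.add_mem j1C j1C) j2C) t
  have hyR : y * R3 = 0 := by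
    rw [hydef, add_mul, add_mul, hA a ha _ hR3A, hB b hb _ hR3B, hC c hc _ hR3C, add_zero, add_zero]
  have hfin : (1 + y + R3) * (1 + -R3) = 1 + y := by
    calc (1 + y + R3) * (1 + -R3) = 1 + y - y * R3 - R3 * R3 := by noncomm_ring
      _ = 1 + y := by rw [hyR, hA _ hR3A _ hR3A, sub_zero, sub_zero]
  rw [← hfin, ← hQy]
  exact Γ.mul_mem (Γ.mul_mem (Γ.mul_mem (Γ.mul_mem (Γ.mul_mem (Γ.mul_mem (hΓA a ha) (hΓB b hb))
    (hΓC c hc)) (hΓA _ (A.neg_mem (A.nsmul_mem c1A h)))) (hΓA _ (A.neg_mem (A.nsmul_mem c2A h))))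
    (hΓB _ (B.neg_mem (B.nsmul_mem c3B h)))) (hΓA _ (A.neg_mem hR3A))

end Cfsg.Agent.H9.AG
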