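import Cfsg.Agent.H9.AGReplacement
import Cfsg.Agent.H10.OffenderBasics

/-!
# Offenders of `p`-groups on elementary abelian subgroups (Alperin–Glauberman)
-/

set_option autoImplicit false
set_option linter.unusedSectionVars false

open Cfsg Subgroup
open scoped commutatorElement

namespace Cfsg.Agent.H9.AG

variable {Ω : Type*} [Group Ω] [Finite Ω]

theorem one_add_mul_one_add {E : Type*} [Ring E] {x y : E} (h : x * y = 0) :
    (1 + x) * (1 + y) = 1 + (x + y) := by
  calc (1 + x) * (1 + y) = 1 + (x + y) + x * y := by noncomm_ring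
    _ = _ := by rw [h, add_zero]

theorem comm_of_sub_one {E : Type*} [Ring E] {x y : E} (h1 : (x - 1) * (y - 1) = 0)
    (h2 : (y - 1) * (x - 1) = 0) : x * y = y * x := by
  have e : x * y - y * x = (x - 1) * (y - 1) - (y - 1) * (x - 1) := by noncomm_ring
  rwa [h1, h2, sub_zero, sub_eq_zero] at e

theorem offender_normal_in_closure {p : ℕ} [Fact p.Prime] (hp : 5 ≤ p) (V G : Subgroup Ω)
    (hV : IsElementaryAbelian p V) (hG : IsPGroup p ↥G) (hGV : G ≤ normalizer (V : Set Ω))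
    (hfaith : G ⊓ centralizer (V : Set Ω) = ⊥)
    (hF : ∃ E : Subgroup Ω, E ≤ G ∧ E ≠ ⊥ ∧ IsElementaryAbelian p E ∧
      Nat.card ↥V ≤ Nat.card ↥E * Nat.card ↥(V ⊓ centralizer (E : Set Ω))) :
    ∃ A : Subgroup Ω, A ≤ G ∧ A ≠ ⊥ ∧ IsElementaryAbelian p A ∧
      Nat.card ↥V ≤ Nat.card ↥A * Nat.card ↥(V ⊓ centralizer (A : Set Ω)) ∧ ⁅⁅V, A⁆, A⁆ = ⊥ ∧
      ∀ g ∈ closure {x : Ω | ∃ h ∈ G, ∃ a ∈ A, x = h * a * h⁻¹}, ∀ a ∈ A, g * a * g⁻¹ ∈ A := by
  obtain ⟨E₀, hE₀G, hE₀ne, hE₀el, hE₀w⟩ := hF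
  obtain ⟨E, ⟨hEG, hEne, hEel⟩, hEmax⟩ := Set.exists_max_image
    {E : Subgroup Ω | E ≤ G ∧ E ≠ ⊥ ∧ IsElementaryAbelian p E} (fun E => H10.offWeight V E)
    (Set.toFinite _) ⟨E₀, hE₀G, hE₀ne, hE₀el⟩
  have hEw : Nat.card ↥V ≤ H10.offWeight V E :=
    hE₀w.trans (hEmax E₀ ⟨hE₀G, hE₀ne, hE₀el⟩)
  have hEV : E ≤ normalizer (V : Set Ω) := hEG.trans hGV
  have hab : ⁅E, E⁆ ≤ centralizer (V : Set Ω) := by
    rw [commutator_eq_bot_iff_le_centralizer.mpr (le_centralizer_iff_isMulCommutative.mpr hEel.1)]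
    exact bot_le
  have hmax : ∀ B : Subgroup Ω, B ≤ E → H10.offWeight V B ≤ H10.offWeight V E := by
    intro B hB
    by_cases hBb : B = ⊥
    · have : H10.offWeight V (⊥ : Subgroup Ω) ≤ Nat.card ↥V := by
        rw [H10.offWeight, card_bot, one_mul]
        exact card_le_of_le inf_le_left
      exact hBb ▸ this.trans hEw
    · exact hEmax B ⟨hB.trans hEG, hBb, H10.elementaryAbelian_of_le hEel hB⟩
  obtain ⟨hw, hc⟩ := H10.replacement hV hEV hab hmax V le_rfl
  set B := E ⊓ centralizer ((⁅V, E⁆ : Subgroup Ω) : Set Ω) with hB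
  have hBne : B ≠ ⊥ := by
    intro hb
    rw [hb] at hc
    have hVle : V ≤ ⁅V, E⁆ ⊔ (V ⊓ centralizer (E : Set Ω)) := by
      rw [← hc]
      refine le_inf le_rfl ?_
      intro v _
      refine mem_centralizer_iff.mpr fun x hx => ?_
      rw [show x = 1 from mem_bot.mp hx]
      simp
    have h := H10.commutator_eq_bot_of_sup_eq hV hEV hab
      (fun a ha => by rw [hEel.2 a ha]; exact one_mem _) le_rfl hVle
    refine hEne (le_bot_iff.mp (hfaith ▸ le_inf hEG ?_))
    rwa [commutator_comm, commutator_eq_bot_iff_le_centralizer] at h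
  -- linearise
  letI : CommGroup ↥V :=
    { (inferInstance : Group ↥V) with
      mul_comm := fun a b => Subtype.ext (H10.comm_of_elem hV a.2 b.2) }
  let τ : ↥G →* MulAut ↥V := V.normalizerMonoidHom.comp (Subgroup.inclusion hGV)
  let ρ : ↥G →* AddMonoid.End (Additive ↥V) :=
    { toFun := fun g => MonoidHom.toAdditive (τ g).toMonoidHom
      map_one' := by
        refine AddMonoidHom.ext fun v => ?_
        show Additive.ofMul ((τ 1) v.toMul) = v
        rw [map_one]; rfl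
      map_mul' := fun a b => by
        refine AddMonoidHom.ext fun v => ?_
        show Additive.ofMul ((τ (a * b)) v.toMul) = Additive.ofMul ((τ a) ((τ b) v.toMul))
        rw [map_mul]; rfl }
  have hρ : ∀ (g : ↥G) (v : Additive ↥V),
      ((ρ g v).toMul : Ω) = (g : Ω) * (v.toMul : Ω) * (g : Ω)⁻¹ := fun g v => rfl
  have hsubv : ∀ (g : ↥G) (v : Additive ↥V),
      (((ρ g - 1) v).toMul : Ω) = ⁅(g : Ω), (v.toMul : Ω)⁆ := by
    intro g v
    show ((ρ g v - v).toMul : Ω) = _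
    rw [commutatorElement_def, sub_eq_add_neg]
    show ((ρ g v).toMul : Ω) * (v.toMul : Ω)⁻¹ = _
    rw [hρ]
  have hM : ∀ v : Additive ↥V, p • v = 0 := fun v =>
    Subtype.ext (show (((p • v).toMul : ↥V) : Ω) = 1 by
      show (((v.toMul) ^ p : ↥V) : Ω) = 1
      rw [SubmonoidClass.coe_pow]; exact hV.2 _ v.toMul.2)
  have hinj : ∀ g : ↥G, ρ g = 1 → g = 1 := by
    intro g hg
    refine Subtype.ext (mem_bot.mp (hfaith ▸ mem_inf.mpr ⟨g.2, ?_⟩))
    refine mem_centralizer_iff.mpr fun v hv => ?_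
    have h := hρ g (Additive.ofMul ⟨v, hv⟩)
    rw [hg] at h
    simp only [AddMonoid.End.coe_one, id_eq, toMul_ofMul] at h
    calc v * (g : Ω) = ((g : Ω) * v * (g : Ω)⁻¹) * (g : Ω) := by rw [← h]
      _ = (g : Ω) * v := by group
  have hinj' : Function.Injective ρ := fun a b h => by
    rw [← mul_inv_eq_one]
    apply hinj
    rw [map_mul, h, ← map_mul, mul_inv_cancel, map_one]
  -- the initial additive subgroup
  have hkill : ∀ b c : ↥G, (b : Ω) ∈ B → (c : Ω) ∈ B → (ρ b - 1) * (ρ c - 1) = 0 := by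
    intro b c hb hc'
    refine AddMonoidHom.ext fun v => ?_
    show (ρ b - 1) ((ρ c - 1) v) = 0
    refine Additive.toMul.injective (Subtype.ext ?_)
    rw [hsubv, hsubv, toMul_zero, OneMemClass.coe_one, commutatorElement_eq_one_iff_mul_comm]
    refine (mem_centralizer_iff.mp hb.2 _ ?_).symm
    rw [SetLike.mem_coe, ← inv_mem_iff, commutatorElement_inv]
    exact commutator_mem_commutator v.toMul.2 hc'.1
  let S₀ : AddSubgroup (AddMonoid.End (Additive ↥V)) :=
    { carrier := {x | ∃ b : ↥G, (b : Ω) ∈ B ∧ ρ b = 1 + x}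
      zero_mem' := ⟨1, one_mem _, by rw [map_one, add_zero]⟩
      add_mem' := by
        rintro x y ⟨b, hb, hbx⟩ ⟨c, hc', hcy⟩
        refine ⟨b * c, mul_mem hb hc', ?_⟩
        have h0 := hkill b c hb hc'
        rw [hbx, hcy, add_sub_cancel_left, add_sub_cancel_left] at h0
        rw [map_mul, hbx, hcy]
        exact one_add_mul_one_add h0
      neg_mem' := by
        rintro x ⟨b, hb, hbx⟩
        refine ⟨b⁻¹, inv_mem hb, ?_⟩
        have h0 := hkill b b hb hb
        rw [hbx, add_sub_cancel_left] at h0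
        calc ρ b⁻¹ = ρ b⁻¹ * ((1 + x) * (1 + -x)) := by
              rw [one_add_mul_one_add (by exact (mul_neg x x).trans (by rw [h0, neg_zero])), add_neg_cancel, add_zero,
                mul_one]
          _ = 1 + -x := by rw [← hbx, ← mul_assoc, rho_inv_mul, one_mul] }
  have hS₀ : Good ρ S₀ := by
    constructor
    · intro x hx y hy
      have hx' : ∃ b : ↥G, (b : Ω) ∈ B ∧ ρ b = 1 + x := hx
      have hy' : ∃ b : ↥G, (b : Ω) ∈ B ∧ ρ b = 1 + y := hy
      obtain ⟨b, hb, hbx⟩ := hx'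
      obtain ⟨c, hc', hcy⟩ := hy'
      have h := hkill b c hb hc'
      rwa [hbx, hcy, add_sub_cancel_left, add_sub_cancel_left] at h
    · intro x hx
      have hx' : ∃ b : ↥G, (b : Ω) ∈ B ∧ ρ b = 1 + x := hx
      obtain ⟨b, -, hbx⟩ := hx'
      exact ⟨b, hbx⟩
  -- comparison of a subgroup with its logarithms
  have hbridge : ∀ (S : AddSubgroup (AddMonoid.End (Additive ↥V))) (h : Good ρ S),
      Nat.card ↥((toSub ρ S h.1).map G.subtype) = Nat.card S ∧
      Nat.card (fixV S) = Nat.card ↥(V ⊓ centralizer (((toSub ρ S h.1).map G.subtype : Subgroup Ω) : Set Ω)) := by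
    intro S h
    constructor
    · rw [card_map_of_injective (subtype_injective _)]
      refine Nat.card_congr (Equiv.ofBijective
        (fun g : toSub ρ S h.1 => (⟨ρ (g : ↥G) - 1, g.2⟩ : S)) ⟨fun a b e => ?_, fun x => ?_⟩)
      · exact Subtype.ext (hinj' (sub_left_injective (congrArg Subtype.val e)))
      · obtain ⟨g, hg⟩ := h.2 x.1 x.2
        exact ⟨⟨g, by rw [mem_toSub, hg, add_sub_cancel_left]; exact x.2⟩,
          Subtype.ext (by simp [hg])⟩
    · refine Nat.card_congr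
        { toFun := fun v => ⟨v.1.toMul.1, v.1.toMul.2, ?_⟩
          invFun := fun w => ⟨Additive.ofMul ⟨w.1, w.2.1⟩, ?_⟩
          left_inv := fun v => rfl
          right_inv := fun w => rfl }
      · refine mem_centralizer_iff.mpr ?_
        rintro _ ⟨g, hg, rfl⟩
        have h1 := hsubv g v.1
        rw [v.2 _ hg, toMul_zero, OneMemClass.coe_one, eq_comm,
          commutatorElement_eq_one_iff_mul_comm] at h1
        exact h1
      · intro x hx
        obtain ⟨g, hg⟩ := h.2 x hx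
        have hgS : g ∈ toSub ρ S h.1 := by rw [mem_toSub, hg, add_sub_cancel_left]; exact hx
        refine Additive.toMul.injective (Subtype.ext ?_)
        have h1 := hsubv g (Additive.ofMul ⟨w.1, w.2.1⟩)
        rw [hg, add_sub_cancel_left] at h1
        rw [h1, toMul_zero, OneMemClass.coe_one, commutatorElement_eq_one_iff_mul_comm]
        exact mem_centralizer_iff.mp w.2.2 _ ⟨g, hgS, rfl⟩
  have hBS : (toSub ρ S₀ hS₀.1).map G.subtype = B := by
    ext z
    constructor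
    · rintro ⟨g, ⟨b, hb, hbe⟩, rfl⟩
      rw [add_sub_cancel] at hbe
      exact hinj' hbe ▸ hb
    · intro hz
      exact ⟨⟨z, hEG hz.1⟩, ⟨⟨z, hEG hz.1⟩, hz, by rw [add_sub_cancel]⟩, rfl⟩
  have hne₀ : S₀ ≠ ⊥ := by
    intro h
    have h1 := (hbridge S₀ hS₀).1
    rw [hBS, h, AddSubgroup.card_bot] at h1
    exact hBne (eq_bot_of_card_eq B h1)
  have hw₀ : Nat.card (Additive ↥V) ≤ Nat.card S₀ * Nat.card (fixV S₀) := by
    rw [← (hbridge S₀ hS₀).1, (hbridge S₀ hS₀).2, hBS]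
    exact hEw.trans hw.ge
  obtain ⟨S, hS, hne, hwS, hcl⟩ := replacement ρ hM hG hp hS₀ hne₀ hw₀
  set A := (toSub ρ S hS.1).map G.subtype with hA
  refine ⟨A, map_subtype_le _, ?_, ⟨?_, ?_⟩, ?_, ?_, ?_⟩
  · intro h
    have h1 := (hbridge S hS).1
    rw [← hA, h, card_bot] at h1
    exact hne (AddSubgroup.eq_bot_of_card_eq S h1.symm)
  · rw [← le_centralizer_iff_isMulCommutative]
    rintro _ ⟨a, ha, rfl⟩
    refine mem_centralizer_iff.mpr ?_
    rintro _ ⟨b, hb, rfl⟩
    rw [← map_mul, ← map_mul]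
    congr 1
    apply hinj'
    rw [map_mul, map_mul]
    exact comm_of_sub_one (hS.1 _ hb _ ha) (hS.1 _ ha _ hb)
  · rintro _ ⟨a, ha, rfl⟩
    rw [← map_pow]
    have h1 : a ^ p = 1 := by
      apply hinj
      have hx := ha
      have hpow : ∀ k : ℕ, ρ (a ^ k) = 1 + k • (ρ a - 1) := by
        intro k
        induction k with
        | zero => simp
        | succ k ih =>
          rw [pow_succ, map_mul, ih, succ_nsmul]
          have hz : (k • (ρ a - 1)) * (ρ a - 1) = 0 := hS.1 _ (S.nsmul_mem hx k) _ hx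
          have := one_add_mul_one_add hz
          rwa [add_sub_cancel] at this
      rw [hpow p]
      have : p • (ρ a - 1) = 0 := AddMonoidHom.ext fun v => hM _
      rw [this, add_zero]
    rw [h1, map_one]
  · rw [hA, ← (hbridge S hS).2, (hbridge S hS).1]
    exact hwS
  · rw [commutator_eq_bot_iff_le_centralizer, commutator_le]
    rintro v hv _ ⟨a, ha, rfl⟩
    refine mem_centralizer_iff.mpr ?_
    rintro _ ⟨b, hb, rfl⟩
    have h0 : (ρ b - 1) * (ρ a - 1) = 0 := hS.1 _ hb _ ha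
    have h := congrArg (fun f : AddMonoid.End (Additive ↥V) =>
      ((f (Additive.ofMul ⟨v, hv⟩)).toMul : Ω)) h0
    rw [show ((ρ b - 1) * (ρ a - 1)) (Additive.ofMul ⟨v, hv⟩) =
      (ρ b - 1) ((ρ a - 1) (Additive.ofMul ⟨v, hv⟩)) from rfl, hsubv, hsubv] at h
    have h' : ⁅(b : Ω), ⁅(a : Ω), v⁆⁆ = 1 := h
    rw [commutatorElement_eq_one_iff_commute] at h'
    show (b : Ω) * ⁅v, (a : Ω)⁆ = ⁅v, (a : Ω)⁆ * (b : Ω)
    rw [← commutatorElement_inv (a : Ω) v]
    exact h'.inv_right.eq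
  · intro g hg
    have hcl' : closure {x : Ω | ∃ h ∈ G, ∃ a ∈ A, x = h * a * h⁻¹} ≤ normalizer (A : Set Ω) := by
      rw [closure_le]
      rintro _ ⟨h, hh, _, ⟨a, ha, rfl⟩, rfl⟩
      have h1 := hcl ⟨h, hh⟩ a ha
      exact le_normalizer_map G.subtype ⟨_, h1, rfl⟩
    intro a ha
    exact (mem_normalizer_iff.mp (hcl' hg) a).mp ha

end Cfsg.Agent.H9.AG
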