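import Mathlib.Algebra.Polynomial.Coeff
import Mathlib.Algebra.Polynomial.Degree.Lemmas
import Mathlib.Algebra.Polynomial.BigOperators
import Mathlib.GroupTheory.Index
import Mathlib.Algebra.Group.Subgroup.Finite
import Mathlib.GroupTheory.Coset.Card
import Mathlib.Tactic.NoncommRing
import Mathlib.Tactic.Ring
import Mathlib.Tactic.Linarith

/-!
# Degenerations of subgroups of a ring under a one-parameter family

For polynomials `L`, `R` with inverses of degree one and an additive subgroup `S`, the limit `lim S`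
consists of the top coefficients of `L * P * R`, `P` with coefficients in `S`.
-/

set_option autoImplicit false
set_option linter.unusedSectionVars false
set_option linter.style.haveILetI false

open Polynomial

namespace Cfsg.Agent.H9.AG

variable {E : Type*} [Ring E]

/-- A polynomial twist: left and right multiplication by invertible linear polynomials. -/
structure Twist (E : Type*) [Ring E] where
  l : E[X]
  r : E[X]
  l' : E[X]
  r' : E[X]
  hl : l' * l = 1
  hr : r * r' = 1
  dl : l.natDegree ≤ 1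
  dr : r.natDegree ≤ 1
  dl' : l'.natDegree ≤ 1
  dr' : r'.natDegree ≤ 1

variable (T : Twist E)

/-- The twisted polynomial. -/
noncomputable def Twist.app (P : E[X]) : E[X] := T.l * P * T.r

/-- The inverse twist. -/
noncomputable def Twist.inv (P : E[X]) : E[X] := T.l' * P * T.r'

theorem inv_app (P : E[X]) : T.inv (T.app P) = P := by
  rw [Twist.inv, Twist.app, mul_assoc T.l P, ← mul_assoc T.l' T.l, T.hl, one_mul,
    mul_assoc, T.hr, mul_one]

theorem app_add (P Q : E[X]) : T.app (P + Q) = T.app P + T.app Q := by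
  simp only [Twist.app, mul_add, add_mul]

theorem app_neg (P : E[X]) : T.app (-P) = -T.app P := by
  simp only [Twist.app, mul_neg, neg_mul]

theorem app_zero : T.app 0 = 0 := by
  simp only [Twist.app, mul_zero, zero_mul]

theorem app_sub (P Q : E[X]) : T.app (P - Q) = T.app P - T.app Q := by
  rw [sub_eq_add_neg, app_add, app_neg, ← sub_eq_add_neg]

theorem app_mul_X_pow (P : E[X]) (k : ℕ) : T.app (P * X ^ k) = T.app P * X ^ k := by
  simp only [Twist.app]
  rw [mul_assoc, mul_assoc, mul_assoc, X_pow_mul, mul_assoc]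

theorem natDegree_app_le (P : E[X]) : (T.app P).natDegree ≤ P.natDegree + 2 := by
  refine (natDegree_mul_le).trans ?_
  have := natDegree_mul_le (p := T.l) (q := P)
  have := T.dl; have := T.dr; omega

theorem natDegree_inv_le (P : E[X]) : (T.inv P).natDegree ≤ P.natDegree + 2 := by
  refine (natDegree_mul_le).trans ?_
  have := natDegree_mul_le (p := T.l') (q := P)
  have := T.dl'; have := T.dr'; omega

/-- Polynomials with coefficients in `S`. -/
def Coeffs (S : AddSubgroup E) : AddSubgroup E[X] where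
  carrier := {P | ∀ i, P.coeff i ∈ S}
  zero_mem' := fun i => by simp [S.zero_mem]
  add_mem' := fun ha hb i => by rw [coeff_add]; exact S.add_mem (ha i) (hb i)
  neg_mem' := fun ha i => by rw [coeff_neg]; exact S.neg_mem (ha i)

theorem mem_coeffs {S : AddSubgroup E} {P : E[X]} : P ∈ Coeffs S ↔ ∀ i, P.coeff i ∈ S := Iff.rfl

theorem C_mem_coeffs {S : AddSubgroup E} {x : E} (hx : x ∈ S) : C x ∈ Coeffs S := by
  intro i
  rw [coeff_C]
  split
  · exact hx
  · exact S.zero_mem

theorem mul_X_pow_mem_coeffs {S : AddSubgroup E} {P : E[X]} (hP : P ∈ Coeffs S) (k : ℕ) :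
    P * X ^ k ∈ Coeffs S := by
  intro i
  rw [coeff_mul_X_pow']
  split
  · exact hP _
  · exact S.zero_mem

/-- Polynomials over `S` whose twist has degree at most `D`. -/
def Bounded (S : AddSubgroup E) (D : ℕ) : AddSubgroup E[X] where
  carrier := {P | P ∈ Coeffs S ∧ (T.app P).natDegree ≤ D}
  zero_mem' := ⟨(Coeffs S).zero_mem, by rw [app_zero]; simp⟩
  add_mem' := fun ha hb => ⟨(Coeffs S).add_mem ha.1 hb.1, by
    rw [app_add]; exact (natDegree_add_le _ _).trans (max_le ha.2 hb.2)⟩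
  neg_mem' := fun ha => ⟨(Coeffs S).neg_mem ha.1, by rw [app_neg, natDegree_neg]; exact ha.2⟩

/-- The top coefficient. -/
noncomputable def topHom (S : AddSubgroup E) (D : ℕ) : Bounded T S D →+ E where
  toFun P := (T.app P.1).coeff D
  map_zero' := by simp [app_zero]
  map_add' := fun P Q => by simp [app_add]

theorem bump {S : AddSubgroup E} {P : E[X]} {D : ℕ} (hP : P ∈ Bounded T S D) (k : ℕ) :
    P * X ^ k ∈ Bounded T S (D + k) ∧ (T.app (P * X ^ k)).coeff (D + k) = (T.app P).coeff D := by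
  refine ⟨⟨mul_X_pow_mem_coeffs hP.1 k, ?_⟩, ?_⟩
  · rw [app_mul_X_pow]
    refine natDegree_mul_le.trans ?_
    have := natDegree_X_pow_le (R := E) k
    have := hP.2
    omega
  · rw [app_mul_X_pow, coeff_mul_X_pow]

/-- The limit. -/
def lim (S : AddSubgroup E) : AddSubgroup E where
  carrier := {y | ∃ D, ∃ P ∈ Bounded T S D, (T.app P).coeff D = y}
  zero_mem' := ⟨0, 0, zero_mem _, by simp [app_zero]⟩
  add_mem' := by
    rintro a b ⟨D, P, hP, rfl⟩ ⟨D', Q, hQ, rfl⟩
    refine ⟨D + D', P * X ^ D' + Q * X ^ D, add_mem (bump T hP D').1 ?_, ?_⟩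
    · rw [add_comm D D']; exact (bump T hQ D).1
    · rw [app_add, coeff_add, (bump T hP D').2]
      congr 1
      rw [add_comm D D', (bump T hQ D).2]
  neg_mem' := by
    rintro a ⟨D, P, hP, rfl⟩
    exact ⟨D, -P, neg_mem hP, by rw [app_neg, coeff_neg]⟩

theorem mem_lim {S : AddSubgroup E} {y : E} :
    y ∈ lim T S ↔ ∃ D, ∃ P ∈ Bounded T S D, (T.app P).coeff D = y := Iff.rfl

theorem lim_mono {S S' : AddSubgroup E} (h : S ≤ S') : lim T S ≤ lim T S' := by
  rintro y ⟨D, P, hP, rfl⟩
  exact ⟨D, P, ⟨fun i => h (hP.1 i), hP.2⟩, rfl⟩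

theorem lim_le {S W : AddSubgroup E}
    (h : ∀ P ∈ Coeffs S, ∀ n, (T.app P).coeff n ∈ W) : lim T S ≤ W := by
  rintro y ⟨D, P, hP, rfl⟩
  exact h P hP.1 D

theorem finite_of_bound [Finite E] (n : ℕ) : {P : E[X] | P.natDegree ≤ n}.Finite := by
  refine Set.Finite.of_finite_image (f := fun P : E[X] => fun i : Fin (n + 1) => P.coeff i)
    (Set.toFinite _) ?_
  intro P hP Q hQ h
  ext i
  by_cases hi : i < n + 1
  · exact congrFun h ⟨i, hi⟩
  · rw [coeff_eq_zero_of_natDegree_lt (lt_of_le_of_lt hP (by omega)),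
      coeff_eq_zero_of_natDegree_lt (lt_of_le_of_lt hQ (by omega))]

theorem natDegree_of_bounded {S : AddSubgroup E} {D : ℕ} {P : E[X]} (hP : P ∈ Bounded T S D) :
    P.natDegree ≤ D + 2 := by
  have h := natDegree_inv_le T (T.app P)
  rw [inv_app] at h
  exact h.trans (by have := hP.2; omega)

theorem finite_bounded [Finite E] (S : AddSubgroup E) (D : ℕ) : Finite (Bounded T S D) :=
  ((finite_of_bound (E := E) (D + 2)).subset fun _P hP => natDegree_of_bounded T hP).to_subtype

theorem card_bounded_le [Finite E] (S : AddSubgroup E) :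
    ∀ D, Nat.card (Bounded T S D) ≤ Nat.card (lim T S) ^ (D + 1) := by
  intro D
  have := fun n => finite_bounded T S n
  induction D with
  | zero =>
    rw [pow_one]
    refine Nat.card_le_card_of_injective
      (fun P : Bounded T S 0 => (⟨topHom T S 0 P, 0, P.1, P.2, rfl⟩ : lim T S)) fun P Q h => ?_
    have h' : (T.app P.1).coeff 0 = (T.app Q.1).coeff 0 := congrArg Subtype.val h
    apply Subtype.ext
    rw [← inv_app T P.1, ← inv_app T Q.1, eq_C_of_natDegree_le_zero P.2.2,
      eq_C_of_natDegree_le_zero Q.2.2, h']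
  | succ D ih =>
    set φ := topHom T S (D + 1) with hφ
    have hk : Nat.card φ.ker ≤ Nat.card (Bounded T S D) := by
      refine Nat.card_le_card_of_injective (fun P : φ.ker => (⟨P.1.1, P.1.2.1, ?_⟩ : Bounded T S D))
        fun P Q h => ?_
      · rw [natDegree_le_iff_coeff_eq_zero]
        intro N hN
        by_cases hN1 : N = D + 1
        · subst hN1
          exact P.2
        · exact coeff_eq_zero_of_natDegree_lt (lt_of_le_of_lt P.1.2.2 (by omega))
      · have h' : P.1.1 = Q.1.1 := (Subtype.ext_iff.mp h :)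
        exact Subtype.ext (Subtype.ext h')
    have hr : Nat.card φ.range ≤ Nat.card (lim T S) :=
      Nat.card_le_card_of_injective
        (fun y : φ.range => (⟨y.1, by
          obtain ⟨P, hP⟩ := y.2
          exact ⟨D + 1, P.1, P.2, hP⟩⟩ : lim T S))
        fun a b h => Subtype.ext (congrArg (fun z : lim T S => (z : E)) h :)
    calc Nat.card (Bounded T S (D + 1)) = Nat.card φ.ker * Nat.card φ.range := by
          rw [← φ.ker.card_mul_index, AddSubgroup.index_ker]
      _ ≤ Nat.card (lim T S) ^ (D + 1) * Nat.card (lim T S) :=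
          Nat.mul_le_mul (hk.trans ih) hr
      _ = Nat.card (lim T S) ^ (D + 1 + 1) := (pow_succ _ _).symm

theorem pow_le_card_bounded [Finite E] (S : AddSubgroup E) (D : ℕ) :
    Nat.card S ^ (D + 1) ≤ Nat.card (Bounded T S (D + 2)) := by
  classical
  have := finite_bounded T S (D + 2)
  let f : (Fin (D + 1) → S) → E[X] := fun a => ∑ i, C (a i : E) * X ^ (i : ℕ)
  have hmem : ∀ a, f a ∈ Bounded T S (D + 2) := by
    intro a
    refine ⟨sum_mem fun i _ => mul_X_pow_mem_coeffs (C_mem_coeffs (a i).2) _, ?_⟩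
    refine (natDegree_app_le T _).trans (Nat.add_le_add_right ?_ 2)
    refine natDegree_sum_le_of_forall_le _ _ fun i _ => ?_
    refine (natDegree_C_mul_le _ _).trans ((natDegree_X_pow_le _).trans ?_)
    omega
  calc Nat.card S ^ (D + 1) = Nat.card (Fin (D + 1) → S) := by
        rw [Nat.card_fun, Nat.card_fin]
    _ ≤ _ := Nat.card_le_card_of_injective (fun a => (⟨f a, hmem a⟩ : Bounded T S (D + 2))) (by
        intro a b h
        have h' : f a = f b := congrArg Subtype.val h
        funext i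
        apply Subtype.ext
        have h2 := congrArg (fun P : E[X] => P.coeff (i : ℕ)) h'
        simpa [f, finsetSum_coeff, coeff_X_pow, Fin.val_inj] using h2)

/-- The limit is at least as large. -/
theorem card_le_card_lim [Finite E] (S : AddSubgroup E) : Nat.card S ≤ Nat.card (lim T S) := by
  by_contra hne
  push Not at hne
  set l := Nat.card (lim T S) with hl
  have hl1 : 1 ≤ l := Nat.card_pos
  set n := l ^ 3 with hn
  have h1 : (l + 1) ^ (n + 1) ≤ Nat.card S ^ (n + 1) := Nat.pow_le_pow_left hne _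
  have h2 := (pow_le_card_bounded T S n).trans (card_bounded_le T S (n + 2))
  rw [← hl] at h2
  have h3 : l ^ (n + 1) + (n + 1) * l ^ n ≤ (l + 1) ^ (n + 1) := by
    clear_value n
    clear hn h1 h2
    induction n with
    | zero => simp
    | succ k ih =>
      calc l ^ (k + 1 + 1) + (k + 1 + 1) * l ^ (k + 1)
          ≤ (l ^ (k + 1) + (k + 1) * l ^ k) * (l + 1) := by
            have : (l ^ (k + 1) + (k + 1) * l ^ k) * (l + 1) =
              l ^ (k + 1 + 1) + (k + 1 + 1) * l ^ (k + 1) + (k + 1) * l ^ k := by ring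
            omega
        _ ≤ (l + 1) ^ (k + 1) * (l + 1) := Nat.mul_le_mul_right _ ih
        _ = (l + 1) ^ (k + 1 + 1) := (pow_succ _ _).symm
  have h4 := (h3.trans h1).trans h2
  have h5 : l ^ (n + 2 + 1) = l ^ n * l ^ 3 := by rw [← pow_add]
  have h6 : l ^ (n + 1) + (n + 1) * l ^ n = l ^ n * (l + n + 1) := by ring
  rw [h5, h6] at h4
  have h7 := Nat.le_of_mul_le_mul_left h4 (pow_pos hl1 n)
  omega

/-- Products vanish in the limit. -/
theorem mul_lim_eq_zero {T₁ T₂ : Twist E} (h : T₁.r * T₂.l = 1) {S W : AddSubgroup E}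
    (hSW : ∀ x ∈ S, ∀ w ∈ W, x * w = 0) {x w : E} (hx : x ∈ lim T₁ S) (hw : w ∈ lim T₂ W) :
    x * w = 0 := by
  obtain ⟨D, P, hP, rfl⟩ := hx
  obtain ⟨D', Q, hQ, rfl⟩ := hw
  rw [← coeff_mul_add_eq_of_natDegree_le hP.2 hQ.2]
  have hPQ : P * Q = 0 := by
    ext n
    rw [coeff_mul, coeff_zero]
    exact Finset.sum_eq_zero fun ij _ => hSW _ (hP.1 _) _ (hQ.1 _)
  have : T₁.app P * T₂.app Q = T₁.l * (P * Q) * T₂.r := by
    simp only [Twist.app]
    calc T₁.l * P * T₁.r * (T₂.l * Q * T₂.r)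
        = T₁.l * P * (T₁.r * T₂.l) * Q * T₂.r := by simp only [mul_assoc]
      _ = T₁.l * (P * Q) * T₂.r := by rw [h, mul_one, mul_assoc T₁.l P Q]
  rw [this, hPQ, mul_zero, zero_mul, coeff_zero]

/-! ### The two twists attached to a square-zero element -/

section Quad

variable {β : E} (hβ : β * β = 0)

theorem linear_mul (a b : E) (hab : a + b = 0) (h0 : a * b = 0) :
    (1 + C a * X : E[X]) * (1 + C b * X) = 1 := by
  calc (1 + C a * X : E[X]) * (1 + C b * X)
      = 1 + (C a + C b) * X + C a * (X * C b) * X := by noncomm_ring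
    _ = 1 + C (a + b) * X + C (a * b) * X * X := by
        rw [X_mul, C_add, C_mul]; noncomm_ring
    _ = 1 := by rw [hab, h0, C_0]; noncomm_ring

theorem natDegree_linear (a : E) : (1 + C a * X : E[X]).natDegree ≤ 1 := by
  refine (natDegree_add_le _ _).trans (max_le (by simp) ?_)
  exact (natDegree_C_mul_le _ _).trans natDegree_X_le

/-- Conjugation by `1 + tβ`. -/
noncomputable def conjTwist (hβ : β * β = 0) : Twist E where
  l := 1 + C β * X
  r := 1 + C (-β) * X
  l' := 1 + C (-β) * X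
  r' := 1 + C β * X
  hl := linear_mul _ _ (neg_add_cancel β) (by rw [neg_mul, hβ, neg_zero])
  hr := linear_mul _ _ (neg_add_cancel β) (by rw [neg_mul, hβ, neg_zero])
  dl := natDegree_linear _
  dr := natDegree_linear _
  dl' := natDegree_linear _
  dr' := natDegree_linear _

/-- Left multiplication by `1 + tβ`. -/
noncomputable def leftTwist (hβ : β * β = 0) : Twist E where
  l := 1 + C β * X
  r := 1
  l' := 1 + C (-β) * X
  r' := 1
  hl := linear_mul _ _ (neg_add_cancel β) (by rw [neg_mul, hβ, neg_zero])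
  hr := one_mul _
  dl := natDegree_linear _
  dr := by simp
  dl' := natDegree_linear _
  dr' := by simp

theorem conj_r_mul_left_l : (conjTwist hβ).r * (leftTwist hβ).l = 1 := (conjTwist hβ).hl

theorem conj_r_mul_conj_l : (conjTwist hβ).r * (conjTwist hβ).l = 1 := (conjTwist hβ).hl

/-- First derivative. -/
def d1 (β x : E) : E := β * x - x * β

/-- Second derivative. -/
def d2 (β x : E) : E := -(β * x * β)

theorem app_C (x : E) :
    (conjTwist hβ).app (C x) = C x + C (d1 β x) * X + C (d2 β x) * X ^ 2 := by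
  simp only [Twist.app, conjTwist, d1, d2, C_sub, C_neg, C_mul]
  calc (1 + C β * X : E[X]) * C x * (1 + -C β * X)
      = C x + C β * (X * C x) - C x * C β * X - C β * (X * C x) * C β * X := by noncomm_ring
    _ = C x + C β * C x * X - C x * C β * X - C β * C x * (X * C β) * X := by
        rw [X_mul]; noncomm_ring
    _ = C x + (C β * C x - C x * C β) * X + -(C β * C x * C β) * X ^ 2 := by
        rw [X_mul, pow_two]; noncomm_ring

theorem coeff_app_mem' {S W : AddSubgroup E} (h0 : S ≤ W)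
    (h1 : ∀ w ∈ S, d1 β w ∈ W) (h2 : ∀ w ∈ S, d2 β w ∈ W) {P : E[X]} (hP : P ∈ Coeffs S) (n : ℕ) :
    ((conjTwist hβ).app P).coeff n ∈ W := by
  rw [P.as_sum_range_C_mul_X_pow]
  have happ : ∀ (s : Finset ℕ) (f : ℕ → E[X]),
      (conjTwist hβ).app (∑ i ∈ s, f i) = ∑ i ∈ s, (conjTwist hβ).app (f i) := fun s f => by
    simp only [Twist.app, Finset.mul_sum, Finset.sum_mul]
  rw [happ, finsetSum_coeff]
  refine sum_mem fun i _ => ?_
  rw [app_mul_X_pow, coeff_mul_X_pow']
  split
  · rw [app_C, coeff_add, coeff_add, coeff_C_mul_X, coeff_C_mul_X_pow, coeff_C]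
    refine add_mem (add_mem ?_ ?_) ?_ <;> split
    all_goals first | exact h0 (hP i) | exact h1 _ (hP i) | exact h2 _ (hP i) | exact W.zero_mem
  · exact W.zero_mem

theorem coeff_app_mem {W : AddSubgroup E}
    (h1 : ∀ w ∈ W, d1 β w ∈ W) (h2 : ∀ w ∈ W, d2 β w ∈ W) {P : E[X]} (hP : P ∈ Coeffs W) (n : ℕ) :
    ((conjTwist hβ).app P).coeff n ∈ W :=
  coeff_app_mem' hβ le_rfl h1 h2 hP n

theorem lim_inf_le {S W : AddSubgroup E}
    (h1 : ∀ w ∈ W, d1 β w ∈ W) (h2 : ∀ w ∈ W, d2 β w ∈ W) :
    lim (conjTwist hβ) (S ⊓ W) ≤ lim (conjTwist hβ) S ⊓ W :=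
  le_inf (lim_mono _ inf_le_left)
    (lim_le _ fun _P hP n => coeff_app_mem hβ h1 h2 (fun i => (hP i).2) n)

theorem card_inf_le [Finite E] {S W : AddSubgroup E}
    (h1 : ∀ w ∈ W, d1 β w ∈ W) (h2 : ∀ w ∈ W, d2 β w ∈ W) :
    Nat.card ↥(S ⊓ W) ≤ Nat.card ↥(lim (conjTwist hβ) S ⊓ W) :=
  (card_le_card_lim _ _).trans (AddSubgroup.card_le_of_le (lim_inf_le hβ h1 h2))

theorem d1_neg (x : E) : d1 (-β) x = -d1 β x := by simp only [d1]; noncomm_ring

theorem d2_neg (x : E) : d2 (-β) x = d2 β x := by simp only [d2]; noncomm_ring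

theorem inv_eq (P : E[X]) :
    (conjTwist hβ).inv P = (conjTwist (β := -β) (by rw [neg_mul_neg, hβ])).app P := by
  simp only [Twist.inv, Twist.app, conjTwist, neg_neg]

theorem app_inv (P : E[X]) : (conjTwist hβ).app ((conjTwist hβ).inv P) = P := by
  have hl : (conjTwist hβ).l * (conjTwist hβ).l' = 1 :=
    linear_mul β (-β) (add_neg_cancel β) (by rw [mul_neg, hβ, neg_zero])
  have hr : (conjTwist hβ).r' * (conjTwist hβ).r = 1 :=
    linear_mul β (-β) (add_neg_cancel β) (by rw [mul_neg, hβ, neg_zero])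
  simp only [Twist.app, Twist.inv]
  rw [mul_assoc (conjTwist hβ).l' P, ← mul_assoc (conjTwist hβ).l, hl, one_mul, mul_assoc, hr, mul_one]

/-- A polynomial over an invariant subgroup twisting to `q X ^ k`. -/
theorem exists_pre {S : AddSubgroup E} (h1 : ∀ w ∈ S, d1 β w ∈ S) (h2 : ∀ w ∈ S, d2 β w ∈ S)
    {q : E} (hq : q ∈ S) (k : ℕ) :
    ∃ P ∈ Coeffs S, (conjTwist hβ).app P = C q * X ^ k := by
  refine ⟨(conjTwist hβ).inv (C q * X ^ k), fun i => ?_, app_inv hβ _⟩
  rw [inv_eq hβ]
  refine coeff_app_mem _ (fun w hw => ?_) (fun w hw => ?_)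
    (mul_X_pow_mem_coeffs (C_mem_coeffs hq) k) i
  · rw [d1_neg]; exact S.neg_mem (h1 w hw)
  · rw [d2_neg]; exact h2 w hw

/-- An increasing series killed stepwise by the derivatives. -/
structure Series (β : E) (W : ℕ → AddSubgroup E) : Prop where
  bot : W 0 = ⊥
  mono : Monotone W
  d1 : ∀ k, ∀ x ∈ W (k + 1), d1 β x ∈ W k
  d2 : ∀ k, ∀ x ∈ W (k + 1), d2 β x ∈ W k

theorem Series.stable1 {W : ℕ → AddSubgroup E} (hW : Series β W) (k : ℕ) {x : E} (hx : x ∈ W k) :
    AG.d1 β x ∈ W k :=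
  hW.d1 k x (hW.mono (Nat.le_succ k) hx)

theorem Series.stable2 {W : ℕ → AddSubgroup E} (hW : Series β W) (k : ℕ) {x : E} (hx : x ∈ W k) :
    AG.d2 β x ∈ W k :=
  hW.d2 k x (hW.mono (Nat.le_succ k) hx)

/-- If the limit gains nothing along the series then `S` is invariant. -/
theorem invariant_of_card_eq [Finite E] {S : AddSubgroup E} {W : ℕ → AddSubgroup E}
    (hW : Series β W) {N : ℕ} (hN : W N = ⊤)
    (heq : ∀ k ≤ N, Nat.card ↥(lim (conjTwist hβ) S ⊓ W k) ≤ Nat.card ↥(S ⊓ W k)) :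
    ∀ x ∈ S, d1 β x ∈ S ∧ d2 β x ∈ S := by
  have key : ∀ k ≤ N, lim (conjTwist hβ) S ⊓ W k = S ⊓ W k ∧
      ∀ x ∈ S ⊓ W k, d1 β x ∈ S ⊓ W k ∧ d2 β x ∈ S ⊓ W k := by
    intro k hk
    induction k with
    | zero =>
      rw [hW.bot, inf_bot_eq, inf_bot_eq]
      refine ⟨rfl, fun x hx => ?_⟩
      rw [AddSubgroup.mem_bot] at hx
      simp [d1, d2, hx]
    | succ k ih =>
      obtain ⟨hlim, hinv⟩ := ih (by omega)
      have hstep : ∀ x ∈ S ⊓ W (k + 1),
          x ∈ lim (conjTwist hβ) S ∧ d1 β x ∈ S ⊓ W k ∧ d2 β x ∈ S ⊓ W k := by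
        rintro x ⟨hxS, hxW⟩
        have hpre := fun (q : E) (hq : q ∈ S ⊓ W k) (j : ℕ) =>
          exists_pre hβ (fun w hw => (hinv w hw).1) (fun w hw => (hinv w hw).2) hq j
        have e := app_C hβ x
        have hq2 : d2 β x ∈ S ⊓ W k := by
          rw [← hlim]
          refine ⟨⟨2, C x, ⟨C_mem_coeffs hxS, ?_⟩, ?_⟩, hW.d2 k x hxW⟩
          · exact (natDegree_app_le _ _).trans (by simp)
          · rw [e]; simp [coeff_C, coeff_X_pow]
        obtain ⟨Q2, hQ2, hQ2e⟩ := hpre _ hq2 2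
        have hq1 : d1 β x ∈ S ⊓ W k := by
          rw [← hlim]
          refine ⟨⟨1, C x - Q2, ⟨sub_mem (C_mem_coeffs hxS) fun i => (hQ2 i).1, ?_⟩, ?_⟩,
            hW.d1 k x hxW⟩
          · rw [app_sub, hQ2e, e, add_sub_cancel_right]
            exact (natDegree_add_le _ _).trans
              (max_le (by simp) ((natDegree_C_mul_le _ _).trans natDegree_X_le))
          · rw [app_sub, hQ2e, e, add_sub_cancel_right]; simp [coeff_C]
        obtain ⟨Q1, hQ1, hQ1e⟩ := hpre _ hq1 1
        refine ⟨⟨0, C x - Q2 - Q1,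
          ⟨sub_mem (sub_mem (C_mem_coeffs hxS) fun i => (hQ2 i).1) fun i => (hQ1 i).1, ?_⟩, ?_⟩,
          hq1, hq2⟩
        · rw [app_sub, app_sub, hQ1e, hQ2e, e, add_sub_cancel_right, pow_one, add_sub_cancel_right]
          simp
        · rw [app_sub, app_sub, hQ1e, hQ2e, e, add_sub_cancel_right, pow_one, add_sub_cancel_right]
          simp
      refine ⟨(AddSubgroup.eq_of_le_of_card_ge (le_inf (fun x hx => (hstep x hx).1) inf_le_right)
        (heq (k + 1) hk)).symm, fun x hx => ?_⟩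
      exact ⟨⟨(hstep x hx).2.1.1, hW.mono (Nat.le_succ k) (hstep x hx).2.1.2⟩,
        ⟨(hstep x hx).2.2.1, hW.mono (Nat.le_succ k) (hstep x hx).2.2.2⟩⟩
  intro x hx
  obtain ⟨-, h⟩ := key N le_rfl
  rw [hN, inf_top_eq] at h
  exact h x hx

end Quad

end Cfsg.Agent.H9.AG
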