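import Cfsg.Agent.H9.AGLimit
import Cfsg.Agent.H9.AGExp
import Cfsg.Agent.H79.Basic
import Mathlib.Algebra.Module.ZMod
import Mathlib.Algebra.Field.ZMod
import Mathlib.LinearAlgebra.FreeModule.Basic
import Mathlib.Data.Set.Finite.Lattice
import Mathlib.Data.Set.Finite.Lemmas
import Mathlib.GroupTheory.PGroup
import Mathlib.LinearAlgebra.Basis.VectorSpace

/-!
# The Alperin–Glauberman replacement for offenders on modules
-/

set_option autoImplicit false
set_option linter.unusedSectionVars false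
set_option linter.style.haveILetI false

namespace Cfsg.Agent.H9.AG

variable {M : Type*} [AddCommGroup M] {G : Type*} [Group G]
  (ρ : G →* AddMonoid.End M)

/-- Conjugation by `ρ g`. -/
noncomputable def cj (g : G) : AddMonoid.End M →+ AddMonoid.End M :=
  (AddMonoidHom.mulLeft (ρ g)).comp (AddMonoidHom.mulRight (ρ g⁻¹))

theorem cj_apply (g : G) (x : AddMonoid.End M) : cj ρ g x = ρ g * (x * ρ g⁻¹) := rfl

theorem rho_inv_mul (g : G) : ρ g⁻¹ * ρ g = 1 := by rw [← map_mul, inv_mul_cancel, map_one]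

theorem rho_mul_inv (g : G) : ρ g * ρ g⁻¹ = 1 := by rw [← map_mul, mul_inv_cancel, map_one]

theorem cj_mul (g g' : G) (x : AddMonoid.End M) : cj ρ (g * g') x = cj ρ g (cj ρ g' x) := by
  simp only [cj_apply, map_mul, mul_inv_rev, mul_assoc]

theorem cj_one (x : AddMonoid.End M) : cj ρ 1 x = x := by
  simp [cj_apply]

theorem cj_inv_cj (g : G) (x : AddMonoid.End M) : cj ρ g⁻¹ (cj ρ g x) = x := by
  rw [← cj_mul, inv_mul_cancel, cj_one]

theorem cj_prod (g : G) (x y : AddMonoid.End M) : cj ρ g x * cj ρ g y = cj ρ g (x * y) := by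
  simp only [cj_apply]
  calc ρ g * (x * ρ g⁻¹) * (ρ g * (y * ρ g⁻¹)) = ρ g * x * (ρ g⁻¹ * ρ g) * y * ρ g⁻¹ := by
        simp only [mul_assoc]
    _ = ρ g * (x * y * ρ g⁻¹) := by rw [rho_inv_mul, mul_one]; simp only [mul_assoc]

theorem cj_add_one {g a : G} {x : AddMonoid.End M} (h : ρ a = 1 + x) :
    ρ (g * a * g⁻¹) = 1 + cj ρ g x := by
  rw [map_mul, map_mul, h, cj_apply, mul_add, mul_one, add_mul, rho_mul_inv, mul_assoc]

/-- The logarithms lie in the image. -/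
def Good (S : AddSubgroup (AddMonoid.End M)) : Prop :=
  SqZero S ∧ ∀ x ∈ S, ∃ g, ρ g = 1 + x

theorem Good.inv_eq {S : AddSubgroup (AddMonoid.End M)} (h : SqZero S) {g : G} {x : AddMonoid.End M}
    (hx : x ∈ S) (hg : ρ g = 1 + x) : ρ g⁻¹ = 1 + -x := by
  calc ρ g⁻¹ = ρ g⁻¹ * ((1 + x) * (1 + -x)) := by
        have e : (1 + x) * (1 + -x) = 1 - x * x := by noncomm_ring
        rw [e, h x hx x hx, sub_zero, mul_one]
    _ = 1 + -x := by rw [← hg, ← mul_assoc, rho_inv_mul, one_mul]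

/-- The subgroup with logarithms in `S`. -/
noncomputable def toSub (S : AddSubgroup (AddMonoid.End M)) (h : SqZero S) : Subgroup G where
  carrier := {g | ρ g - 1 ∈ S}
  one_mem' := by simp [S.zero_mem]
  mul_mem' := by
    intro a b ha hb
    show ρ (a * b) - 1 ∈ S
    have e : ρ (a * b) - 1 = (ρ a - 1) + (ρ b - 1) + (ρ a - 1) * (ρ b - 1) := by
      rw [map_mul]; noncomm_ring
    rw [e, h _ ha _ hb, add_zero]
    exact S.add_mem ha hb
  inv_mem' := by
    intro a ha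
    show ρ a⁻¹ - 1 ∈ S
    rw [Good.inv_eq ρ h ha (by abel : ρ a = 1 + (ρ a - 1)), add_sub_cancel_left]
    exact S.neg_mem ha

theorem mem_toSub {S : AddSubgroup (AddMonoid.End M)} {h : SqZero S} {g : G} :
    g ∈ toSub ρ S h ↔ ρ g - 1 ∈ S := Iff.rfl

theorem cj_mem_of_normalizer {S : AddSubgroup (AddMonoid.End M)} (h : Good ρ S) {g : G}
    (hg : g ∈ Subgroup.normalizer (toSub ρ S h.1 : Set G)) {x : AddMonoid.End M} (hx : x ∈ S) :
    cj ρ g x ∈ S := by
  obtain ⟨a, ha⟩ := h.2 x hx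
  have ha' : a ∈ toSub ρ S h.1 := by rw [mem_toSub, ha, add_sub_cancel_left]; exact hx
  have h1 := (Subgroup.mem_normalizer_iff.mp hg a).mp ha'
  rwa [mem_toSub, cj_add_one ρ ha, add_sub_cancel_left] at h1

theorem normalizer_of_cj_mem [Finite G] {S : AddSubgroup (AddMonoid.End M)} (h : Good ρ S) {g : G}
    (hg : ∀ x ∈ S, cj ρ g x ∈ S) : g ∈ Subgroup.normalizer (toSub ρ S h.1 : Set G) := by
  have hle : (toSub ρ S h.1).map (MulAut.conj g).toMonoidHom ≤ toSub ρ S h.1 := by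
    rintro _ ⟨a, ha, rfl⟩
    show ρ (g * a * g⁻¹) - 1 ∈ S
    rw [cj_add_one ρ (by abel : ρ a = 1 + (ρ a - 1)), add_sub_cancel_left]
    exact hg _ ha
  have heq := Subgroup.eq_of_le_of_card_ge hle
    (by rw [Subgroup.card_map_of_injective (MulEquiv.injective _)])
  rw [Subgroup.mem_normalizer_iff]
  intro a
  constructor
  · exact fun ha => hle ⟨a, ha, rfl⟩
  · intro ha
    rw [← heq] at ha
    obtain ⟨a', ha', e⟩ := ha
    have : a' = a := (MulAut.conj g).injective e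
    exact this ▸ ha'

theorem d_mem {W : AddSubgroup (AddMonoid.End M)} (m : ℕ) (hm : (2 : AddMonoid.End M) * (m : AddMonoid.End M) = 1)
    {b : G} {β : AddMonoid.End M} (hb : ρ b = 1 + β) (hβ : β * β = 0) {x : AddMonoid.End M}
    (h1 : cj ρ b x - x ∈ W) (h2 : cj ρ (b * b) x - x ∈ W) : d1 β x ∈ W ∧ d2 β x ∈ W := by
  have hS : SqZero (AddSubgroup.zmultiples β) := by
    intro u hu v hv
    obtain ⟨i, rfl⟩ := AddSubgroup.mem_zmultiples_iff.mp hu
    obtain ⟨j, rfl⟩ := AddSubgroup.mem_zmultiples_iff.mp hv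
    rw [smul_mul_assoc, mul_smul_comm, hβ, zsmul_zero, zsmul_zero]
  have hb' := Good.inv_eq ρ hS (AddSubgroup.mem_zmultiples β) hb
  have hbb : ρ (b * b) = 1 + (β + β) := by
    rw [map_mul, hb]
    calc (1 + β) * (1 + β) = 1 + (β + β) + β * β := by noncomm_ring
      _ = _ := by rw [hβ, add_zero]
  have hbb' := Good.inv_eq ρ hS (add_mem (AddSubgroup.mem_zmultiples β) (AddSubgroup.mem_zmultiples β)) hbb
  have e1 : cj ρ b x - x = d1 β x + d2 β x := by
    rw [cj_apply, hb, hb', d1, d2]; noncomm_ring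
  have e2 : cj ρ (b * b) x - x = (2 : ℕ) • d1 β x + (4 : ℕ) • d2 β x := by
    rw [cj_apply, hbb, hbb', d1, d2]; noncomm_ring
  have h3 : (2 : ℕ) • d2 β x ∈ W := by
    have e : (2 : ℕ) • d2 β x = (cj ρ (b * b) x - x) - (2 : ℕ) • (cj ρ b x - x) := by
      rw [e1, e2, nsmul_add]; abel
    rw [e]; exact W.sub_mem h2 (W.nsmul_mem h1 2)
  have h4 : d2 β x ∈ W := by
    have h5 := W.nsmul_mem h3 m
    rwa [nsmul_eq_mul, nsmul_eq_mul, ← mul_assoc, Nat.cast_ofNat, ← (Commute.ofNat_left 2 (m : AddMonoid.End M)).eq,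
      hm, one_mul] at h5
  refine ⟨?_, h4⟩
  have e : d1 β x = (cj ρ b x - x) - d2 β x := by rw [e1, add_sub_cancel_right]
  rw [e]
  exact W.sub_mem h1 h4

/-- Groups normalising each other give mutual normalisation of logarithms. -/
theorem mutual_of_cj {S T : AddSubgroup (AddMonoid.End M)} (hS : Good ρ S) (hT : Good ρ T) (m : ℕ)
    (hm : (2 : AddMonoid.End M) * (m : AddMonoid.End M) = 1)
    (h1 : ∀ t ∈ toSub ρ T hT.1, ∀ x ∈ S, cj ρ t x ∈ S)
    (h2 : ∀ s ∈ toSub ρ S hS.1, ∀ y ∈ T, cj ρ s y ∈ T) : Mutual S T := by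
  intro x hx y hy
  have key : ∀ {U V : AddSubgroup (AddMonoid.End M)} (hV : Good ρ V),
      (∀ v ∈ toSub ρ V hV.1, ∀ x ∈ U, cj ρ v x ∈ U) → ∀ u ∈ U, ∀ v ∈ V, d1 v u ∈ U := by
    intro U V hV hh u hu v hv
    obtain ⟨b, hb⟩ := hV.2 v hv
    have hb' : b ∈ toSub ρ V hV.1 := by rw [mem_toSub, hb, add_sub_cancel_left]; exact hv
    exact (d_mem ρ m hm hb (hV.1 v hv v hv) (U.sub_mem (hh b hb' u hu) hu)
      (U.sub_mem (hh _ (mul_mem hb' hb') u hu) hu)).1
  refine ⟨?_, key hS h2 y hy x hx⟩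
  have h := S.neg_mem (key hT h1 x hx y hy)
  rwa [d1, neg_sub] at h

/-- Fixed vectors. -/
def fixV (S : AddSubgroup (AddMonoid.End M)) : AddSubgroup M where
  carrier := {v | ∀ x ∈ S, x v = 0}
  zero_mem' := fun x _ => map_zero x
  add_mem' := fun ha hb x hx => by rw [map_add, ha x hx, hb x hx, add_zero]
  neg_mem' := fun ha x hx => by rw [map_neg, ha x hx, neg_zero]

/-- The right annihilator. -/
def annR (S : AddSubgroup (AddMonoid.End M)) : AddSubgroup (AddMonoid.End M) where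
  carrier := {y | ∀ x ∈ S, x * y = 0}
  zero_mem' := fun x _ => mul_zero x
  add_mem' := fun ha hb x hx => by rw [mul_add, ha x hx, hb x hx, add_zero]
  neg_mem' := fun ha x hx => by rw [mul_neg, ha x hx, neg_zero]

/-- The right annihilator consists of the maps into the fixed vectors. -/
def annEquiv (S : AddSubgroup (AddMonoid.End M)) : annR S ≃ (M →+ fixV S) where
  toFun y := AddMonoidHom.codRestrict y.1 (fixV S) fun v x hx => DFunLike.congr_fun (y.2 x hx) v
  invFun f := ⟨(fixV S).subtype.comp f, fun x hx => AddMonoidHom.ext fun v => (f v).2 x hx⟩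
  left_inv y := Subtype.ext (AddMonoidHom.ext fun v => rfl)
  right_inv f := AddMonoidHom.ext fun v => Subtype.ext rfl

variable {p : ℕ} [Fact p.Prime] (hM : ∀ v : M, p • v = 0)

theorem card_hom {ι V C : Type*} [AddCommGroup V] [AddCommGroup C] [Module (ZMod p) V]
    [Module (ZMod p) C] [Finite ι] (b : Module.Basis ι (ZMod p) V) :
    Nat.card (V →+ C) = Nat.card C ^ Nat.card ι := by
  let e1 : (V →+ C) ≃ (V →ₗ[ZMod p] C) :=
    { toFun := fun f => f.toZModLinearMap p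
      invFun := fun f => f.toAddMonoidHom
      left_inv := fun f => rfl
      right_inv := fun f => rfl }
  rw [Nat.card_congr (e1.trans (b.constr (ZMod p)).symm.toEquiv), Nat.card_fun]

include hM in
theorem exists_card_hom [Finite M] : ∃ n : ℕ, (Nontrivial M → n ≠ 0) ∧
    ∀ C : AddSubgroup M, Nat.card (M →+ C) = Nat.card C ^ n := by
  letI : Module (ZMod p) M := AddCommGroup.zmodModule hM
  let b := Module.Basis.ofVectorSpace (ZMod p) M
  refine ⟨Nat.card (Module.Basis.ofVectorSpaceIndex (ZMod p) M), fun hne h0 => ?_, fun C => ?_⟩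
  · have := b.index_nonempty
    exact Nat.card_pos.ne' h0
  · letI : Module (ZMod p) C := AddCommGroup.zmodModule fun v => Subtype.ext (by simpa using hM v)
    exact card_hom b

theorem finite_end [Finite M] : Finite (AddMonoid.End M) :=
  Finite.of_injective (fun f => (f : M → M)) DFunLike.coe_injective

include hM in
theorem exists_inverse {k : ℕ} (hk : ¬ p ∣ k) :
    ∃ m : ℕ, (k : AddMonoid.End M) * (m : AddMonoid.End M) = 1 := by
  have hp : (p : AddMonoid.End M) = 0 := AddMonoidHom.ext fun v => hM v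
  obtain ⟨m, hm⟩ : ∃ m : ℕ, (k * m) % p = 1 % p := by
    refine ⟨((k : ZMod p)⁻¹).val, ?_⟩
    refine (ZMod.natCast_eq_natCast_iff' _ 1 p).mp ?_
    push_cast
    rw [ZMod.natCast_zmod_val, mul_inv_cancel₀]
    rwa [Ne, ZMod.natCast_eq_zero_iff]
  refine ⟨m, ?_⟩
  rw [← Nat.cast_mul, ← Nat.div_add_mod (k * m) p, hm, Nat.cast_add, Nat.cast_mul p, hp, zero_mul,
    zero_add, Nat.mod_eq_of_lt (Fact.out : p.Prime).one_lt, Nat.cast_one]

/-- The fixed-point series. -/
noncomputable def ser : ℕ → AddSubgroup (AddMonoid.End M)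
  | 0 => ⊥
  | k + 1 => ⨅ g : G, (ser k).comap (cj ρ g - AddMonoidHom.id _)

theorem mem_ser_succ {k : ℕ} {x : AddMonoid.End M} :
    x ∈ ser ρ (k + 1) ↔ ∀ g : G, cj ρ g x - x ∈ ser ρ k := by
  simp [ser, AddSubgroup.mem_iInf]

theorem ser_inv : ∀ (k : ℕ) (g : G) (x : AddMonoid.End M), x ∈ ser ρ k → cj ρ g x ∈ ser ρ k := by
  intro k
  induction k with
  | zero => intro g x hx; rw [ser, AddSubgroup.mem_bot] at hx ⊢; rw [hx, map_zero]
  | succ k ih =>
    intro g x hx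
    rw [mem_ser_succ] at hx ⊢
    intro g'
    have e : cj ρ g' (cj ρ g x) - cj ρ g x = cj ρ g (cj ρ (g⁻¹ * g' * g) x - x) := by
      rw [map_sub, ← cj_mul, ← cj_mul]
      simp only [mul_assoc, mul_inv_cancel_left]
    rw [e]
    exact ih g _ (hx _)

theorem ser_mono : Monotone (ser ρ) :=
  monotone_nat_of_le_succ fun k x hx => (mem_ser_succ ρ).mpr fun g =>
    (ser ρ k).sub_mem (ser_inv ρ k g x hx) hx

include hM in
theorem ser_lt [Finite M] [Finite G] (hG : IsPGroup p G) {k : ℕ} (h : ser ρ k ≠ ⊤) :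
    ser ρ k < ser ρ (k + 1) := by
  have := finite_end (M := M)
  set W := ser ρ k with hW
  let X := AddMonoid.End M ⧸ W
  letI : SMul G X := ⟨fun g => QuotientAddGroup.map W W (cj ρ g) fun x hx => ser_inv ρ k g x hx⟩
  have hsmul : ∀ (g : G) (x : AddMonoid.End M),
      g • (QuotientAddGroup.mk x : X) = QuotientAddGroup.mk (cj ρ g x) := fun g x => rfl
  letI : MulAction G X :=
    { one_smul := fun q => by
        obtain ⟨x, rfl⟩ := QuotientAddGroup.mk_surjective q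
        rw [hsmul, cj_one]
      mul_smul := fun g g' q => by
        obtain ⟨x, rfl⟩ := QuotientAddGroup.mk_surjective q
        rw [hsmul, hsmul, hsmul, cj_mul] }
  obtain ⟨x, hx⟩ : ∃ x, x ∉ W := by
    by_contra hne
    push Not at hne
    exact h (eq_top_iff.mpr fun y _ => hne y)
  have hpX : p ∣ Nat.card X := by
    have hne : (QuotientAddGroup.mk x : X) ≠ 0 := by rwa [Ne, QuotientAddGroup.eq_zero_iff]
    have hdv : addOrderOf (QuotientAddGroup.mk x : X) ∣ p := by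
      apply addOrderOf_dvd_of_nsmul_eq_zero
      rw [← QuotientAddGroup.mk_nsmul]
      have : p • x = 0 := AddMonoidHom.ext fun v => hM (x v)
      rw [this, QuotientAddGroup.mk_zero]
    rcases (Fact.out : p.Prime).eq_one_or_self_of_dvd _ hdv with h1 | h1
    · exact absurd (AddMonoid.addOrderOf_eq_one_iff.mp h1) hne
    · exact h1 ▸ addOrderOf_dvd_natCard _
  have h0 : (QuotientAddGroup.mk 0 : X) ∈ MulAction.fixedPoints G X := fun g => by
    rw [hsmul, map_zero]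
  obtain ⟨q, hq, hne⟩ := hG.exists_fixed_point_of_prime_dvd_card_of_fixed_point X hpX h0
  obtain ⟨y, rfl⟩ := QuotientAddGroup.mk_surjective q
  refine lt_of_le_of_ne (ser_mono ρ (Nat.le_succ k)) fun e => hne ?_
  have hy : y ∈ ser ρ (k + 1) := (mem_ser_succ ρ).mpr fun g => by
    have h1 := hq g
    rw [hsmul, QuotientAddGroup.eq_iff_sub_mem] at h1
    exact h1
  rw [← e] at hy
  rw [QuotientAddGroup.mk_zero, eq_comm, QuotientAddGroup.eq_zero_iff]
  exact hy

include hM in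
theorem exists_ser_top [Finite M] [Finite G] (hG : IsPGroup p G) : ∃ N, ser ρ N = ⊤ := by
  have := finite_end (M := M)
  by_contra hne
  push Not at hne
  have hgrow : ∀ k, k < Nat.card (ser ρ k) := by
    intro k
    induction k with
    | zero => exact Nat.card_pos
    | succ k ih =>
      have hlt := ser_lt ρ hM hG (hne k)
      have : Nat.card (ser ρ k) < Nat.card (ser ρ (k + 1)) :=
        lt_of_not_ge fun hge => hlt.ne (AddSubgroup.eq_of_le_of_card_ge hlt.le hge)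
      omega
  have h1 := hgrow (Nat.card (AddMonoid.End M))
  have h2 : Nat.card (ser ρ (Nat.card (AddMonoid.End M))) ≤ Nat.card (AddMonoid.End M) :=
    Nat.card_le_card_of_injective Subtype.val Subtype.val_injective
  omega

/-- A conjugate normalises the subgroup generated by the conjugates normalising `A`. -/
theorem exists_normalizing_conj [Finite G] (hG : IsPGroup p G) (A : Subgroup G)
    (h : ∃ g a, a ∈ A ∧ g * a * g⁻¹ ∉ Subgroup.normalizer (A : Set G)) :
    ∃ R : Subgroup G, A ≤ R ∧ R ≤ Subgroup.normalizer (A : Set G) ∧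
      ∃ g a, a ∈ A ∧ g * a * g⁻¹ ∉ Subgroup.normalizer (A : Set G) ∧
        g * a * g⁻¹ ∈ Subgroup.normalizer (R : Set G) := by
  set N := Subgroup.normalizer (A : Set G) with hN
  let cA : G → Subgroup G := fun g => A.map (MulAut.conj g).toMonoidHom
  have hcA : ∀ g, ∀ a ∈ A, g * a * g⁻¹ ∈ cA g := fun g a ha => ⟨a, ha, rfl⟩
  set R := ⨆ g : {g : G // cA g ≤ N}, cA g with hR
  have hAR : A ≤ R := by
    intro a ha
    have h1 : cA 1 ≤ N := by
      rintro _ ⟨x, hx, rfl⟩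
      simpa using Subgroup.le_normalizer hx
    have h2 := hcA 1 a ha
    rw [one_mul, inv_one, mul_one] at h2
    exact Subgroup.mem_iSup_of_mem (⟨1, h1⟩ : {g : G // cA g ≤ N}) h2
  have hRN : R ≤ N := iSup_le fun g => g.2
  refine ⟨R, hAR, hRN, ?_⟩
  obtain ⟨g₀, a₀, ha₀, hg₀⟩ := h
  obtain ⟨H, -, hH⟩ := Finite.exists_le_minimal
    (p := fun H : Subgroup G => R ≤ H ∧ ∃ g, cA g ≤ H ∧ ¬ cA g ≤ N) (a := ⊤)
    ⟨le_top, g₀, le_top, fun hle => hg₀ (hle (hcA g₀ a₀ ha₀))⟩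
  obtain ⟨hRH, g, hgH, hgN⟩ := hH.1
  have hlt : R < H := lt_of_le_of_ne hRH fun e => hgN (hgH.trans (e ▸ hRN))
  obtain ⟨K, hRK, hKH, hHK⟩ := H79.exists_proper_normalized (hG.to_subgroup H) hlt
  have hin : ∀ g', cA g' ≤ K → cA g' ≤ N := by
    intro g' hg'
    by_contra hcon
    exact hKH.not_ge (hH.2 ⟨hRK, g', hg', hcon⟩ hKH.le)
  have hHR : H ≤ Subgroup.normalizer (R : Set G) := by
    intro x hx
    have hle : R.map (MulAut.conj x).toMonoidHom ≤ R := by
      rw [Subgroup.map_le_iff_le_comap]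
      refine iSup_le fun g' => ?_
      rintro _ ⟨a, ha, rfl⟩
      have hK : cA (x * g'.1) ≤ K := by
        rintro _ ⟨b, hb, rfl⟩
        have h2 : g'.1 * b * g'.1⁻¹ ∈ K := hRK (Subgroup.mem_iSup_of_mem g' (hcA g'.1 b hb))
        have h3 := (Subgroup.mem_normalizer_iff.mp (hHK hx) _).mp h2
        simpa [mul_assoc] using h3
      have h4 : x * g'.1 * a * (x * g'.1)⁻¹ ∈ R :=
        Subgroup.mem_iSup_of_mem (⟨x * g'.1, hin _ hK⟩ : {g : G // cA g ≤ N}) (hcA _ a ha)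
      simpa [mul_assoc] using h4
    have heq := Subgroup.eq_of_le_of_card_ge hle
      (by rw [Subgroup.card_map_of_injective (MulEquiv.injective _)])
    rw [Subgroup.mem_normalizer_iff]
    intro y
    refine ⟨fun hy => hle ⟨y, hy, rfl⟩, fun hy => ?_⟩
    rw [← heq] at hy
    obtain ⟨y', hy', e⟩ := hy
    have : y' = y := (MulAut.conj x).injective e
    exact this ▸ hy'
  obtain ⟨b, hb, hbN⟩ := SetLike.not_le_iff_exists.mp hgN
  obtain ⟨a, ha, rfl⟩ := hb
  exact ⟨g, a, ha, by simpa using hbN, hHR (hgH (hcA g a ha))⟩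

include hM in
/-- The replacement: an offender normal in its normal closure. -/
theorem replacement [Finite M] [Finite G] (hG : IsPGroup p G) (hp : 5 ≤ p)
    {S₀ : AddSubgroup (AddMonoid.End M)} (h₀ : Good ρ S₀) (hne₀ : S₀ ≠ ⊥)
    (hw₀ : Nat.card M ≤ Nat.card S₀ * Nat.card (fixV S₀)) :
    ∃ (S : AddSubgroup (AddMonoid.End M)) (h : Good ρ S), S ≠ ⊥ ∧
      Nat.card M ≤ Nat.card S * Nat.card (fixV S) ∧
      ∀ g : G, ∀ a ∈ toSub ρ S h.1, g * a * g⁻¹ ∈ Subgroup.normalizer (toSub ρ S h.1 : Set G) := by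
  classical
  have := finite_end (M := M)
  have hp2 : ¬ p ∣ 2 := fun h => by have := Nat.le_of_dvd (by norm_num) h; omega
  have hp3 : ¬ p ∣ 3 := fun h => by have := Nat.le_of_dvd (by norm_num) h; omega
  obtain ⟨m, hm⟩ := exists_inverse hM hp2
  obtain ⟨t, ht⟩ := exists_inverse hM hp3
  rw [Nat.cast_ofNat] at hm ht
  obtain ⟨n, hn0, hn⟩ := exists_card_hom (p := p) hM
  obtain ⟨N, hN⟩ := exists_ser_top ρ hM hG
  let Φ : AddSubgroup (AddMonoid.End M) → ℕ :=
    fun S => ∑ k ∈ Finset.range (N + 1), Nat.card ↥(S ⊓ ser ρ k)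
  obtain ⟨S, ⟨hS, hne, hw⟩, hmax⟩ := Set.exists_max_image
    {S : AddSubgroup (AddMonoid.End M) | Good ρ S ∧ S ≠ ⊥ ∧
      Nat.card M ≤ Nat.card S * Nat.card (fixV S)} Φ (Set.toFinite _) ⟨S₀, h₀, hne₀, hw₀⟩
  refine ⟨S, hS, hne, hw, fun g₀ a₀ ha₀ => ?_⟩
  by_contra hcon
  set A := toSub ρ S hS.1 with hA
  obtain ⟨R, hAR, hRN, g, a, ha, hbN, hbR⟩ := exists_normalizing_conj hG A ⟨g₀, a₀, ha₀, hcon⟩
  set b := g * a * g⁻¹ with hb
  set β := cj ρ g (ρ a - 1) with hβdef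
  have hρb : ρ b = 1 + β := cj_add_one ρ (by abel : ρ a = 1 + (ρ a - 1))
  have hβ : β * β = 0 := by rw [hβdef, cj_prod, hS.1 _ ha _ ha, map_zero]
  have hser : Series β (ser ρ) :=
    { bot := rfl
      mono := ser_mono ρ
      d1 := fun k x hx => (d_mem ρ m hm hρb hβ ((mem_ser_succ ρ).mp hx b)
        ((mem_ser_succ ρ).mp hx (b * b))).1
      d2 := fun k x hx => (d_mem ρ m hm hρb hβ ((mem_ser_succ ρ).mp hx b)
        ((mem_ser_succ ρ).mp hx (b * b))).2 }
  set S' := lim (conjTwist hβ) S with hS'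
  have hsq : SqZero S' := fun x hx y hy =>
    mul_lim_eq_zero (conj_r_mul_conj_l hβ) hS.1 hx hy
  -- the three conjugates
  let T : ℕ → AddSubgroup (AddMonoid.End M) := fun i => S.map (cj ρ (b ^ i))
  have hT : ∀ i, Good ρ (T i) := by
    intro i
    refine ⟨?_, ?_⟩
    · rintro _ ⟨x, hx, rfl⟩ _ ⟨y, hy, rfl⟩
      rw [cj_prod, hS.1 x hx y hy, map_zero]
    · rintro _ ⟨x, hx, rfl⟩
      obtain ⟨u, hu⟩ := hS.2 x hx
      exact ⟨b ^ i * u * (b ^ i)⁻¹, cj_add_one ρ hu⟩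
  have hTinv : ∀ i j, ∀ u ∈ toSub ρ (T i) (hT i).1, ∀ x ∈ T j, cj ρ u x ∈ T j := by
    intro i j u hu x hx
    obtain ⟨x', hx', rfl⟩ := hx
    refine ⟨cj ρ ((b ^ j)⁻¹ * u * b ^ j) x', cj_mem_of_normalizer ρ hS (hRN ?_) hx', ?_⟩
    · obtain ⟨y, hy, e⟩ := hu
      have hv : (b ^ i)⁻¹ * u * b ^ i ∈ R := by
        refine hAR ?_
        show ρ _ - 1 ∈ S
        have h1 := cj_add_one ρ (g := (b ^ i)⁻¹) (a := u) (x := ρ u - 1) (by abel)
        rw [inv_inv] at h1
        rw [h1, add_sub_cancel_left, ← e, cj_inv_cj]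
        exact hy
      have h2 := (Subgroup.mem_normalizer_iff.mp (pow_mem hbR i) _).mp hv
      have h3 := (Subgroup.mem_normalizer_iff.mp (inv_mem (pow_mem hbR j)) _).mp h2
      simpa [mul_assoc] using h3
    · rw [← cj_mul, ← cj_mul]
      simp [mul_assoc]
  have hU : S' ≤ T 0 ⊔ T 1 ⊔ T 2 := by
    have h0 : S ≤ T 0 ⊔ T 1 ⊔ T 2 := fun x hx =>
      AddSubgroup.mem_sup_left (AddSubgroup.mem_sup_left ⟨x, hx, by rw [pow_zero, cj_one]⟩)
    have hd : ∀ x ∈ S, d1 β x ∈ T 0 ⊔ T 1 ⊔ T 2 ∧ d2 β x ∈ T 0 ⊔ T 1 ⊔ T 2 := by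
      intro x hx
      refine d_mem ρ m hm hρb hβ (sub_mem ?_ (h0 hx)) (sub_mem ?_ (h0 hx))
      · exact AddSubgroup.mem_sup_left (AddSubgroup.mem_sup_right ⟨x, hx, by rw [pow_one]⟩)
      · exact AddSubgroup.mem_sup_right ⟨x, hx, by rw [pow_two]⟩
    exact lim_le _ fun P hP k =>
      coeff_app_mem' hβ h0 (fun w hw => (hd w hw).1) (fun w hw => (hd w hw).2) hP k
  have hgood : Good ρ S' := by
    refine ⟨hsq, fun y hy => ?_⟩
    obtain ⟨ab, hab, c, hc, rfl⟩ := AddSubgroup.mem_sup.mp (hU hy)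
    obtain ⟨a', ha', b', hb', rfl⟩ := AddSubgroup.mem_sup.mp hab
    have hmut := fun i j => mutual_of_cj ρ (hT i) (hT j) m hm (hTinv j i) (hTinv i j)
    have hΓ : ∀ i, ∀ x ∈ T i, 1 + x ∈ MonoidHom.mrange ρ := fun i x hx => (hT i).2 x hx
    exact exp_mem (MonoidHom.mrange ρ) (T 0) (T 1) (T 2) (hT 0).1 (hT 1).1 (hT 2).1 (hmut 0 1)
      (hmut 0 2) (hmut 1 2) (hΓ 0) (hΓ 1) (hΓ 2) m t hm ht ha' hb' hc (hsq _ hy _ hy)
  have hcard : Nat.card S ≤ Nat.card S' := card_le_card_lim _ _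
  have hne' : S' ≠ ⊥ := by
    intro h
    rw [h, AddSubgroup.card_bot] at hcard
    exact hne (AddSubgroup.eq_bot_of_card_le S hcard)
  have hfix : Nat.card (fixV S) ≤ Nat.card (fixV S') := by
    rcases subsingleton_or_nontrivial M with hs | hs
    · exact Nat.card_le_card_of_injective (fun _ => 0) fun a b _ => Subsingleton.elim a b
    · have hle : lim (leftTwist hβ) (annR S) ≤ annR S' := fun y hy x hx =>
        mul_lim_eq_zero (S := S) (W := annR S) (conj_r_mul_left_l hβ) (fun x hx w hw => hw x hx) hx hy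
      have h1 := (card_le_card_lim (leftTwist hβ) (annR S)).trans (AddSubgroup.card_le_of_le hle)
      rw [Nat.card_congr (annEquiv S), Nat.card_congr (annEquiv S'), hn, hn] at h1
      exact (Nat.pow_le_pow_iff_left (hn0 hs)).mp h1
  have hmem : S' ∈ {S : AddSubgroup (AddMonoid.End M) | Good ρ S ∧ S ≠ ⊥ ∧
      Nat.card M ≤ Nat.card S * Nat.card (fixV S)} :=
    ⟨hgood, hne', hw.trans (Nat.mul_le_mul hcard hfix)⟩
  have hterm : ∀ k, Nat.card ↥(S ⊓ ser ρ k) ≤ Nat.card ↥(S' ⊓ ser ρ k) := fun k =>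
    card_inf_le hβ (fun w hw => hser.stable1 k hw) (fun w hw => hser.stable2 k hw)
  have heq : ∀ k ≤ N, Nat.card ↥(S' ⊓ ser ρ k) ≤ Nat.card ↥(S ⊓ ser ρ k) := by
    intro k hk
    by_contra hlt
    push Not at hlt
    have h1 := hmax S' hmem
    have h2 : Φ S < Φ S' := Finset.sum_lt_sum (fun i _ => hterm i)
      ⟨k, Finset.mem_range.mpr (by omega), hlt⟩
    omega
  have hinv := invariant_of_card_eq hβ hser hN heq
  refine hbN (normalizer_of_cj_mem ρ hS fun x hx => ?_)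
  obtain ⟨h1, h2⟩ := hinv x hx
  have hS2 : SqZero (AddSubgroup.zmultiples β) := by
    intro u hu v hv
    obtain ⟨i, rfl⟩ := AddSubgroup.mem_zmultiples_iff.mp hu
    obtain ⟨j, rfl⟩ := AddSubgroup.mem_zmultiples_iff.mp hv
    rw [smul_mul_assoc, mul_smul_comm, hβ, zsmul_zero, zsmul_zero]
  have e : cj ρ b x = x + d1 β x + d2 β x := by
    rw [cj_apply, hρb, Good.inv_eq ρ hS2 (AddSubgroup.mem_zmultiples β) hρb, d1, d2]
    noncomm_ring
  rw [e]
  exact S.add_mem (S.add_mem hx h1) h2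

end Cfsg.Agent.H9.AG
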