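import Cfsg.Agent.H10.FFStructure
import Cfsg.Agent.H10.Offender
import Cfsg.Agent.H10.OffenderBasics
import Cfsg.Agent.H9.SFreeAct

/-!
An abelian `2`-offender in a faithful group with self-centralizing `2'`-core is elementary abelian.
-/

set_option autoImplicit false
set_option linter.style.haveILetI false

open Cfsg
open scoped commutatorElement

namespace Cfsg.Agent.H9.AbelOff

variable {G : Type*} [Group G] [Finite G] {V H : Subgroup G}

omit [Finite G] in
theorem sq_mem_of_quadratic {A : Subgroup G} (hV : IsElementaryAbelian 2 V)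
    (hAV : A ≤ Subgroup.normalizer (V : Set G))
    (h : A ≤ Subgroup.centralizer ((⁅V, A⁆ : Subgroup G) : Set G)) {a : G} (ha : a ∈ A) :
    a ^ 2 ∈ Subgroup.centralizer (V : Set G) := by
  rw [Subgroup.mem_centralizer_iff]
  intro v hv
  have hc : ⁅v, a⁆ ∈ ⁅V, A⁆ := Subgroup.commutator_mem_commutator hv ha
  have h1 : a * ⁅v, a⁆ * a⁻¹ = ⁅v, a⁆ :=
    mul_inv_eq_iff_eq_mul.mpr (Subgroup.mem_centralizer_iff.mp (h ha) _ hc).symm
  have hcV : ⁅v, a⁆ ∈ V := H10.comm_mem_of_norm hAV hv ha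
  have e : a * v * a⁻¹ = ⁅v, a⁆⁻¹ * v := by rw [commutatorElement_def]; group
  have h2 : a ^ 2 * v * (a ^ 2)⁻¹ = v := by
    calc a ^ 2 * v * (a ^ 2)⁻¹ = a * (a * v * a⁻¹) * a⁻¹ := by rw [pow_two]; group
      _ = a * (⁅v, a⁆⁻¹ * v) * a⁻¹ := by rw [e]
      _ = (a * ⁅v, a⁆ * a⁻¹)⁻¹ * (a * v * a⁻¹) := by simp [mul_assoc]
      _ = (⁅v, a⁆⁻¹ * ⁅v, a⁆⁻¹) * v := by rw [h1, e, mul_assoc]
      _ = v := by
        have h3 : ⁅v, a⁆⁻¹ ^ 2 = 1 := hV.2 _ (inv_mem hcV)
        rw [← pow_two, h3, one_mul]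
  exact (mul_inv_eq_iff_eq_mul.mp h2).symm

omit [Finite G] in
/-- Commutators with a transvection pair: the fixed line absorbs the commutators. -/
theorem plane_comm_mem {P L : Subgroup G} (hLP : L ≤ P) (hP : Nat.card P = 4) (hL : Nat.card L = 2)
    {a v : G} (haP : a ∈ Subgroup.normalizer (P : Set G))
    (haL : ∀ l ∈ L, a * l * a⁻¹ = l) (hv : v ∈ P) : ⁅v, a⁆ ∈ L := by
  by_cases hvL : v ∈ L
  · have h := haL v⁻¹ (inv_mem hvL)
    have : ⁅v, a⁆ = 1 := by
      rw [commutatorElement_def]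
      calc v * a * v⁻¹ * a⁻¹ = v * (a * v⁻¹ * a⁻¹) := by group
        _ = 1 := by rw [h, mul_inv_cancel]
    rw [this]; exact one_mem _
  have hv' : a * v⁻¹ * a⁻¹ ∈ P := SFree.conj_mem haP (inv_mem hv)
  have hnL : a * v⁻¹ * a⁻¹ ∉ L := fun h => by
    have h1 := haL _ h
    have h2 : a * v⁻¹ * a⁻¹ = v⁻¹ := mul_left_cancel (mul_right_cancel h1)
    exact hvL (inv_inv v ▸ inv_mem (h2 ▸ h))
  have hidx : (L.subgroupOf P).index = 2 := by
    have h := Subgroup.relIndex_mul_relIndex ⊥ L P bot_le hLP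
    rw [Subgroup.relIndex_bot_left, Subgroup.relIndex_bot_left, hP, hL] at h
    show L.relIndex P = 2
    omega
  have h := (Subgroup.mul_mem_iff_of_index_two hidx (a := ⟨v, hv⟩) (b := ⟨_, hv'⟩)).mpr
    ⟨fun h => absurd (Subgroup.mem_subgroupOf.mp h) hvL,
      fun h => absurd (Subgroup.mem_subgroupOf.mp h) hnL⟩
  rw [Subgroup.mem_subgroupOf] at h
  rw [commutatorElement_def]
  simpa [mul_assoc] using h

omit [Finite G] in
/-- The commutators with one element which lie in a given subgroup. -/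
theorem commutator_le_of_comm {A U W : Subgroup G} (hV : IsElementaryAbelian 2 V)
    (hAV : A ≤ Subgroup.normalizer (V : Set G)) {S : Set G}
    (hS : W ≤ Subgroup.closure S) (hSV : S ⊆ V)
    (h : ∀ v ∈ S, ∀ a ∈ A, ⁅v, a⁆ ∈ U) : ⁅W, A⁆ ≤ U := by
  rw [Subgroup.commutator_le]
  intro v hv a ha
  have key : v ∈ V ∧ ⁅v, a⁆ ∈ U := by
    refine Subgroup.closure_induction (p := fun x _ => x ∈ V ∧ ⁅x, a⁆ ∈ U) ?_ ?_ ?_ ?_ (hS hv)
    · exact fun x hx => ⟨hSV hx, h x hx a ha⟩
    · exact ⟨one_mem _, by rw [commutatorElement_one_left]; exact one_mem _⟩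
    · intro x y _ _ hx hy
      exact ⟨mul_mem hx.1 hy.1, by rw [H10.comm_mul_left hV hAV hx.1 hy.1 ha]; exact mul_mem hx.2 hy.2⟩
    · intro x _ hx
      have : x⁻¹ = x := inv_eq_of_mul_eq_one_right (by rw [← pow_two]; exact hV.2 x hx.1)
      rw [this]; exact hx
  exact key.2

theorem abelian_offender_aux (h : H10.FFHyp 2 V H) :
    ∀ n, ∀ A : Subgroup G, Nat.card A = n → A ≤ H → IsMulCommutative A → IsPGroup 2 A →
      H10.offWeight V A ≤ Nat.card V ∧ (Nat.card V ≤ H10.offWeight V A → IsElementaryAbelian 2 A) := by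
  haveI : Fact (Nat.Prime 2) := ⟨Nat.prime_two⟩
  intro n
  induction n using Nat.strong_induction_on with
  | _ n ih =>
  intro A hn hAH hA hP
  subst hn
  by_cases hmax : ∃ B : Subgroup G, B ≤ A ∧ H10.offWeight V A < H10.offWeight V B
  · obtain ⟨B, hBA, hlt⟩ := hmax
    have hBne : B ≠ A := fun e => by rw [e] at hlt; exact lt_irrefl _ hlt
    have hcard : Nat.card B < Nat.card A := by
      rcases lt_or_eq_of_le (Subgroup.card_le_of_le hBA) with h1 | h1
      · exact h1
      · exact absurd (Subgroup.eq_of_le_of_card_ge hBA h1.ge) hBne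
    obtain ⟨h1, -⟩ := ih _ hcard B rfl (hBA.trans hAH) (H11.isMulCommutative_of_le hA hBA)
      (hP.to_le hBA)
    exact ⟨hlt.le.trans h1, fun h2 => absurd h2 (by omega)⟩
  push Not at hmax
  have hAV : A ≤ Subgroup.normalizer (V : Set G) := hAH.trans h.hHV
  have hab : ⁅A, A⁆ ≤ Subgroup.centralizer (V : Set G) := by
    rw [Subgroup.commutator_le]
    intro a ha b hb
    rw [commutatorElement_eq_one_iff_mul_comm.mpr (H11.comm_of_mulCommutative hA ha hb).eq]
    exact one_mem _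
  obtain ⟨hw, hc⟩ := H10.replacement h.hV hAV hab hmax V le_rfl
  set B := A ⊓ Subgroup.centralizer ((⁅V, A⁆ : Subgroup G) : Set G) with hBdef
  by_cases hBA : B = A
  · have hquad : A ≤ Subgroup.centralizer ((⁅V, A⁆ : Subgroup G) : Set G) :=
      hBA.ge.trans inf_le_right
    have he : IsElementaryAbelian 2 A := ⟨hA, fun a ha => Subgroup.mem_bot.mp (h.hf ▸
      (⟨pow_mem (hAH ha) 2, sq_mem_of_quadratic h.hV hAV hquad ha⟩ :
        a ^ 2 ∈ H ⊓ Subgroup.centralizer (V : Set G)))⟩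
    exact ⟨(h.chain hAH he).card_mul_le, fun _ => he⟩
  have hBle : B ≤ A := inf_le_left
  have hcard : Nat.card B < Nat.card A := by
    rcases lt_or_eq_of_le (Subgroup.card_le_of_le hBle) with h1 | h1
    · exact h1
    · exact absurd (Subgroup.eq_of_le_of_card_ge hBle h1.ge) hBA
  obtain ⟨h1, h2⟩ := ih _ hcard B rfl (hBle.trans hAH) (H11.isMulCommutative_of_le hA hBle)
    (hP.to_le hBle)
  refine ⟨hw ▸ h1, fun hV' => ?_⟩
  exfalso
  have hwB : Nat.card V ≤ H10.offWeight V B := hw.symm ▸ hV'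
  have hBe := h2 hwB
  have hOff : H10.IsOff 2 V H B := ⟨hBle.trans hAH, hBe, hwB⟩
  -- the factors of the transvection subgroups in `B`
  classical
  haveI : Fintype (Subgroup G) := Fintype.ofFinite _
  set T := (Finset.univ : Finset (Subgroup G)).filter (fun t => t ≤ B ∧ H10.IsTv 2 V H t) with hTdef
  set s := T.image (H10.eGroup 2 H) with hsdef
  have hs : ∀ E ∈ s, ∃ t, H10.IsTv 2 V H t ∧ E = H10.eGroup 2 H t := by
    intro E hE
    obtain ⟨t, ht, rfl⟩ := Finset.mem_image.mp hE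
    exact ⟨t, (Finset.mem_filter.mp ht).2.2, rfl⟩
  have hBs : B ≤ s.sup id := (h.exists_tv_le hOff).trans (sSup_le fun t ht =>
    le_trans (le_sup_right : t ≤ H10.eGroup 2 H t) (Finset.le_sup (f := id)
      (Finset.mem_image_of_mem _ (Finset.mem_filter.mpr ⟨Finset.mem_univ _, ht⟩))))
  have hcomm : ∀ a ∈ A, ∀ t ∈ T, ∀ x ∈ t, a * x * a⁻¹ = x := by
    intro a ha t ht x hx
    rw [mul_inv_eq_iff_eq_mul]
    exact (H11.comm_of_mulCommutative hA ha (hBle ((Finset.mem_filter.mp ht).2.1 hx))).eq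
  have hnormE : ∀ a ∈ A, ∀ t ∈ T,
      a ∈ Subgroup.normalizer (H10.eGroup 2 H t : Set G) := by
    intro a ha t ht
    rw [Subgroup.mem_normalizer_iff_map_conj_eq]
    refine (H10.map_eGroup (hAH ha) t).trans (congrArg (H10.eGroup 2 H) ?_)
    exact H10.map_conj_eq_self (Subgroup.centralizer_le_normalizer _ (Subgroup.mem_centralizer_iff.mpr
      fun x hx => (mul_inv_eq_iff_eq_mul.mp (hcomm a ha t ht x hx)).symm))
  set F := V ⊓ Subgroup.centralizer ((s.sup id : Subgroup G) : Set G) with hFdef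
  have hFB : F ≤ V ⊓ Subgroup.centralizer (B : Set G) :=
    inf_le_inf_left _ (Subgroup.centralizer_le (SetLike.coe_subset_coe.mpr hBs))
  have hAF : A ≤ Subgroup.normalizer (F : Set G) := by
    intro a ha
    refine Subgroup.mem_normalizer_fintype ?_
    intro x hx
    obtain ⟨hxV, hxC⟩ := Subgroup.mem_inf.mp hx
    refine Subgroup.mem_inf.mpr ⟨SFree.conj_mem (hAV ha) hxV, Subgroup.mem_centralizer_iff.mpr ?_⟩
    suffices s.sup id ≤ Subgroup.centralizer ({a * x * a⁻¹} : Set G) from fun y hy =>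
      (Subgroup.mem_centralizer_singleton_iff.mp (this hy))
    refine Finset.sup_le fun E hE y hy => ?_
    obtain ⟨t, ht, rfl⟩ := Finset.mem_image.mp hE
    rw [Subgroup.mem_centralizer_singleton_iff]
    have hy' : a⁻¹ * y * a ∈ s.sup id :=
      Finset.le_sup (f := id) hE (SFree.conj_mem' (hnormE a ha t ht) hy)
    have := Subgroup.mem_centralizer_iff.mp hxC _ hy'
    calc y * (a * x * a⁻¹) = a * ((a⁻¹ * y * a) * x) * a⁻¹ := by group
      _ = a * (x * (a⁻¹ * y * a)) * a⁻¹ := by rw [this]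
      _ = _ := by group
  have hFAle : ⁅F, A⁆ ≤ F := H1.commutator_le_left_of_le_normalizer hAF
  set U := ⁅F, A⁆ ⊔ (V ⊓ Subgroup.centralizer (A : Set G)) with hUdef
  have hVAU : ⁅V, A⁆ ≤ U := by
    refine commutator_le_of_comm h.hV hAV
      (S := (F : Set G) ∪ ⋃ t ∈ T, (H10.planeOf 2 V H t : Set G)) ?_ ?_ ?_
    · refine (h.le_fixed_sup_planes s hs).trans (sup_le ?_ ?_)
      · exact fun x hx => Subgroup.subset_closure (Or.inl hx)
      · refine Finset.sup_le fun E hE x hx => ?_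
        obtain ⟨t, ht, rfl⟩ := Finset.mem_image.mp hE
        exact Subgroup.subset_closure (Or.inr (Set.mem_biUnion ht hx))
    · rintro x (hx | hx)
      · exact (Subgroup.mem_inf.mp hx).1
      · obtain ⟨t, ht, hx⟩ := Set.mem_iUnion₂.mp hx
        exact (h.factorFacts (Finset.mem_filter.mp ht).2.2).plane_le hx
    · rintro x (hx | hx) a ha
      · exact Subgroup.mem_sup_left (Subgroup.commutator_mem_commutator hx ha)
      · obtain ⟨t, ht, hx⟩ := Set.mem_iUnion₂.mp hx
        have htv := (Finset.mem_filter.mp ht).2.2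
        have F' := h.factorFacts htv
        obtain ⟨hL2, -⟩ := h.commutator_of_isTv htv
        have hLfix : ∀ b ∈ A, ∀ l ∈ ⁅V, t⁆, b * l * b⁻¹ = l := by
          intro b hb l hl
          have hnb : b ∈ Subgroup.normalizer ((⁅V, t⁆ : Subgroup G) : Set G) := by
            rw [Subgroup.mem_normalizer_iff_map_conj_eq]
            refine (Subgroup.map_commutator _ _ _).trans (congrArg₂ _ (h.map_V (hAH hb)) ?_)
            exact H10.map_conj_eq_self (Subgroup.centralizer_le_normalizer _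
              (Subgroup.mem_centralizer_iff.mpr
                fun x hx => (mul_inv_eq_iff_eq_mul.mp (hcomm b hb t ht x hx)).symm))
          by_cases hl1 : l = 1
          · simp [hl1]
          by_contra hne
          obtain ⟨y, -, huniq⟩ := (Nat.card_eq_two_iff' (1 : (⁅V, t⁆ : Subgroup G))).mp hL2
          have e1 := huniq ⟨l, hl⟩ fun e => hl1 (congrArg Subtype.val e)
          have e2 := huniq ⟨_, SFree.conj_mem hnb hl⟩ fun e =>
            hl1 (conj_eq_one_iff.mp (congrArg Subtype.val e))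
          exact hne (congrArg Subtype.val (e2.trans e1.symm))
        refine Subgroup.mem_sup_right (Subgroup.mem_inf.mpr ⟨H10.comm_mem_of_norm hAV
          (F'.plane_le hx) ha, ?_⟩)
        have hP4 : Nat.card ↥(H10.planeOf 2 V H t) = 4 := by rw [F'.card_plane]; norm_num
        have hm : ⁅x, a⁆ ∈ ⁅V, t⁆ := plane_comm_mem F'.comm_plane_le hP4 hL2
          (h.plane_norm_of_normalizer (hAH ha) (hnormE a ha t ht)) (hLfix a ha) hx
        exact Subgroup.mem_centralizer_iff.mpr fun b hb =>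
          mul_inv_eq_iff_eq_mul.mp (hLfix b hb _ hm)
  have hCB : V ⊓ Subgroup.centralizer (B : Set G) ≤ U := hc.le.trans (sup_le hVAU le_sup_right)
  have hFA : ⁅F, A⁆ = ⊥ := by
    have hFV : F ≤ V := inf_le_left
    have hsplit : F ≤ ⁅F, A⁆ ⊔ (F ⊓ Subgroup.centralizer (A : Set G)) := by
      intro x hx
      have hxU : x ∈ U := hCB (hFB hx)
      have hn : ⁅F, A⁆ ≤ Subgroup.normalizer ((V ⊓ Subgroup.centralizer (A : Set G) : Subgroup G) : Set G) := by
        intro y hy
        refine Subgroup.centralizer_le_normalizer _ (Subgroup.mem_centralizer_iff.mpr fun z hz => ?_)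
        exact H10.comm_of_elem h.hV (Subgroup.mem_inf.mp hz).1 (hFV (hFAle hy))
      obtain ⟨f, hf, c, hc', rfl⟩ := H10.exists_mul_of_mem_sup hn hxU
      have hcF : c ∈ F := by
        have := mul_mem (inv_mem (hFAle hf)) hx
        simpa using this
      exact mul_mem (Subgroup.mem_sup_left hf)
        (Subgroup.mem_sup_right (Subgroup.mem_inf.mpr ⟨hcF, hc'.2⟩))
    have h1 : ⁅F, A⁆ ≤ ⁅⁅F, A⁆, A⁆ := by
      calc ⁅F, A⁆ ≤ ⁅⁅F, A⁆ ⊔ (F ⊓ Subgroup.centralizer (A : Set G)), A⁆ :=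
            Subgroup.commutator_mono hsplit le_rfl
        _ = ⁅⁅F, A⁆, A⁆ := by
            rw [H10.commutator_sup_left h.hV hAV (hFAle.trans hFV) (inf_le_left.trans hFV),
              Subgroup.commutator_eq_bot_iff_le_centralizer.mpr inf_le_right, sup_bot_eq]
    by_contra hne
    have hWp : IsPGroup 2 ↥⁅F, A⁆ :=
      H10.isPGroup_of_elementary (H10.elementaryAbelian_of_le h.hV (hFAle.trans hFV))
    exact absurd h1 (H1.commutator_lt_of_isPGroup hP hWp H1.right_le_normalizer_commutator hne).not_ge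
  have hEq : V ⊓ Subgroup.centralizer (B : Set G) ≤ V ⊓ Subgroup.centralizer (A : Set G) :=
    hCB.trans (by rw [hUdef, hFA, bot_sup_eq])
  have : Nat.card A * Nat.card ↥(V ⊓ Subgroup.centralizer (A : Set G)) ≤
      Nat.card B * Nat.card ↥(V ⊓ Subgroup.centralizer (A : Set G)) :=
    (le_of_eq hw.symm).trans (Nat.mul_le_mul_left _ (Subgroup.card_le_of_le hEq))
  exact absurd (Nat.le_of_mul_le_mul_right this Nat.card_pos) (by omega)

/-- An abelian `2`-offender is elementary abelian. -/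
theorem abelian_offender (h : H10.FFHyp 2 V H) {A : Subgroup G} (hAH : A ≤ H)
    (hA : IsMulCommutative A) (hP : IsPGroup 2 A)
    (hoff : Nat.card V ≤ Nat.card A * Nat.card ↥(V ⊓ Subgroup.centralizer (A : Set G))) :
    H10.IsOff 2 V H A :=
  ⟨hAH, (abelian_offender_aux h _ A rfl hAH hA hP).2 hoff, hoff⟩

end Cfsg.Agent.H9.AbelOff
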