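import Cfsg.Agent.H85.Normal
import Mathlib.GroupTheory.Commutator.Basic

/-!
Saturated fusion systems over a 2-group in which every element is conjugate into the centre:
the underlying group is abelian (helper9).

The real elements have order at most two; hence, by induction on `k`, the elements killed by
`2 ^ k` form a strongly closed subgroup with a strongly closed central series, which is therefore
normal in the system; extending the map that moves `y` into the centre to this subgroup shows that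
it is centralized by `y`.
-/

set_option autoImplicit false

open Cfsg Cfsg.FusionSystem
open scoped commutatorElement

namespace Cfsg.Agent.H9.CentralFusion

variable {Ω : Type*} [Group Ω] {S : Subgroup Ω}

/-- Every element of `S` is conjugate in the system to a central element. -/
def IntoCentre (F : FusionSystem S) : Prop :=
  ∀ x ∈ S, ∃ z ∈ S ⊓ Subgroup.centralizer (S : Set Ω), F.IsConjElt x z

/-- A central element is not conjugate to its inverse unless it squares to one. -/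
theorem central_inverted [Finite S] (hS : IsPGroup 2 S) {F : FusionSystem S}
    (hF : F.IsSaturated 2) {W : Subgroup Ω} (hWS : W ≤ S)
    (hW : W ≤ Subgroup.centralizer (S : Set Ω)) {α : MulAut W} (hα : α ∈ F.autGroup W)
    (h2 : α ^ 2 = 1) : α = 1 := by
  obtain ⟨Q, hQ, ⟨hQS, R, hR⟩, hrec⟩ := hF W hWS
  obtain ⟨e, he⟩ := H85.isConj_iff.1 hQ
  obtain ⟨N, ψ, hψ, hext, hCN, hNS⟩ : ∃ (N : Subgroup Ω) (ψ : N →* Ω), ψ ∈ F.Hom N ∧
      (∀ (x : Ω) (hP : x ∈ W) (hN : x ∈ N), ψ ⟨x, hN⟩ = (e ⟨x, hP⟩ : Ω)) ∧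
      centralizerIn S W ≤ N ∧ N ≤ S := by
    obtain ⟨ψ, hψ, hext⟩ := H85.receptive_extend hrec he
    exact ⟨_, ψ, hψ, hext, H85.centralizerIn_le_extender _ _, H85.extender_le _ _⟩
  have hSN : S ≤ N := fun g hg => hCN
    (H85.mem_centralizerIn.2 ⟨hg, fun x hx => (Subgroup.mem_centralizer_iff.1 (hW hx) g hg).symm⟩)
  haveI := H85.finite_of_le hQS
  haveI : Finite N := H85.finite_of_le hNS
  -- the extension is a bijection of `S`
  have hbij : Function.Bijective (fun g : S => (⟨ψ (Subgroup.inclusion hSN g),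
      H85.map_mem hψ _⟩ : S)) :=
    Finite.injective_iff_bijective.1 fun a b hab =>
      Subgroup.inclusion_injective hSN (F.injective_of_mem hψ (congrArg Subtype.val hab))
  have hQc : ∀ g ∈ S, ∀ q : Q, g * (q : Ω) = (q : Ω) * g := by
    intro g hg q
    obtain ⟨h, hh⟩ := hbij.2 ⟨g, hg⟩
    have hh' : ψ (Subgroup.inclusion hSN h) = g := congrArg Subtype.val hh
    have hq : ψ ⟨(e.symm q : W), hSN (hWS (e.symm q).2)⟩ = (q : Ω) := by
      rw [hext _ (e.symm q).2]
      simp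
    rw [← hh', ← hq, ← map_mul, ← map_mul]
    exact congrArg ψ (Subtype.ext (Subgroup.mem_centralizer_iff.1 (hW (e.symm q).2) h h.2))
  have hbot : autInducedBy S Q = ⊥ := by
    rw [eq_bot_iff]
    intro β hβ
    obtain ⟨g, hg, hgβ⟩ := H85.mem_autInducedBy.1 hβ
    rw [Subgroup.mem_bot]
    refine MulEquiv.ext fun q => Subtype.ext ?_
    rw [hgβ q, hQc g hg q, mul_inv_cancel_right]
    rfl
  have hRbot : (R : Subgroup (F.autGroup Q)) = ⊥ := by
    rw [hR, hbot, Subgroup.bot_subgroupOf]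
  let β : MulAut Q := e.symm.trans (α.trans e)
  have hβ : β ∈ F.autGroup Q :=
    (H85.mem_autGroup hQS).2 (he.symm.trans (((H85.mem_autGroup hWS).1 hα).trans he))
  have hα2 : ∀ w, α (α w) = w := by
    intro w
    have := DFunLike.congr_fun h2 w
    rwa [pow_two, MulAut.mul_apply, MulAut.one_apply] at this
  have hβ2 : (⟨β, hβ⟩ : F.autGroup Q) ^ 2 = 1 := by
    refine Subtype.ext (MulEquiv.ext fun q => ?_)
    simp [β, pow_two, MulAut.mul_apply, hα2]
  have hβ1 : (⟨β, hβ⟩ : F.autGroup Q) = 1 := by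
    have hp : IsPGroup 2 (Subgroup.zpowers (⟨β, hβ⟩ : F.autGroup Q)) := by
      rintro ⟨x, n, rfl⟩
      refine ⟨1, Subtype.ext ?_⟩
      show ((⟨β, hβ⟩ : F.autGroup Q) ^ n) ^ (2 ^ 1) = 1
      rw [pow_one, ← zpow_natCast, ← zpow_mul, mul_comm, zpow_mul, zpow_natCast, hβ2, one_zpow]
    obtain ⟨T, hT⟩ := hp.exists_le_sylow
    have hT1 : (T : Subgroup (F.autGroup Q)) = ⊥ := by
      rw [← Subgroup.card_eq_one, T.card_eq_multiplicity, ← R.card_eq_multiplicity, hRbot]
      exact Subgroup.card_eq_one.2 rfl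
    have := hT (Subgroup.mem_zpowers _)
    rwa [hT1, Subgroup.mem_bot] at this
  refine MulEquiv.ext fun w => e.injective ?_
  have := DFunLike.congr_fun (congrArg Subtype.val hβ1) (e w)
  simpa [β] using this

/-- A real element of `S` squares to one. -/
theorem real_sq [Finite S] (hS : IsPGroup 2 S) {F : FusionSystem S} (hF : F.IsSaturated 2)
    (h : IntoCentre F) {u x : Ω} (hu : u ∈ S) (hx : x ∈ S) (hux : x * u * x⁻¹ = u⁻¹) :
    u ^ 2 = 1 := by
  obtain ⟨z, hz, φ, hφ, hφu⟩ := h u hu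
  let e := H85.isoOf φ hφ rfl
  have he : H85.IsFIso F e := H85.isFIso_isoOf φ hφ rfl
  have hU : Subgroup.zpowers u ≤ S := H85.source_le hφ
  have hxN : x ∈ Subgroup.normalizer (Subgroup.zpowers u : Set Ω) := by
    haveI := H85.finite_of_le hU
    refine H85.mem_normalizer_of_conj fun y hy => ?_
    obtain ⟨n, rfl⟩ := Subgroup.mem_zpowers_iff.1 hy
    rw [← conj_zpow, hux]
    exact Subgroup.zpow_mem _ (Subgroup.inv_mem _ (Subgroup.mem_zpowers u)) n
  let c := H85.conjAut S (Subgroup.zpowers u) ⟨x, hx, hxN⟩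
  have hc : c ∈ F.autGroup (Subgroup.zpowers u) :=
    H85.autInducedBy_le_autGroup F hU (H85.conjAut_range S _ ▸ ⟨_, rfl⟩)
  have hcinv : ∀ y, c y = y⁻¹ := by
    rintro ⟨y, hy⟩
    obtain ⟨n, rfl⟩ := Subgroup.mem_zpowers_iff.1 hy
    refine Subtype.ext ?_
    show x * u ^ n * x⁻¹ = (u ^ n)⁻¹
    rw [← conj_zpow, hux, inv_zpow]
  have hW : φ.range ≤ Subgroup.centralizer (S : Set Ω) := by
    rintro y ⟨⟨v, hv⟩, rfl⟩
    obtain ⟨n, rfl⟩ := Subgroup.mem_zpowers_iff.1 hv
    have : φ ⟨u ^ n, hv⟩ = z ^ n := by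
      rw [← hφu, ← map_zpow]
      rfl
    rw [this]
    exact Subgroup.zpow_mem _ hz.2 n
  have hα : (e.symm.trans (c.trans e) : MulAut φ.range) ∈ F.autGroup φ.range :=
    (H85.mem_autGroup he.right_le).2 (he.symm.trans (((H85.mem_autGroup hU).1 hc).trans he))
  have h1 := central_inverted hS hF he.right_le hW hα (MulEquiv.ext fun w => by
    simp [pow_two, MulAut.mul_apply, hcinv])
  have h2 := DFunLike.congr_fun h1 (e ⟨u, Subgroup.mem_zpowers u⟩)
  rw [MulAut.one_apply, MulEquiv.trans_apply, MulEquiv.trans_apply, MulEquiv.symm_apply_apply,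
    hcinv] at h2
  have h3 : u⁻¹ = u := congrArg Subtype.val (e.injective h2)
  rw [pow_two]
  exact eq_inv_iff_mul_eq_one.1 h3.symm

theorem pow_killed_stronglyClosed {F : FusionSystem S} {B : Subgroup Ω} (n : ℕ)
    (hB : ∀ x, x ∈ B ↔ x ∈ S ∧ x ^ n = 1) : F.StronglyClosed B := by
  refine ⟨fun x hx => ((hB x).1 hx).1, fun R hR φ hφ x => (hB _).2 ⟨H85.map_mem hφ x, ?_⟩⟩
  have : x ^ n = 1 := Subtype.ext (by simpa using ((hB _).1 (hR x.2)).2)
  rw [← map_pow, this, map_one]

/-- For every `k` the elements killed by `2 ^ k` form a central subgroup. -/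
theorem killed_central [Finite S] (hS : IsPGroup 2 S) {F : FusionSystem S} (hF : F.IsSaturated 2)
    (h : IntoCentre F) (k : ℕ) :
    ∃ B : Subgroup Ω, (∀ x, x ∈ B ↔ x ∈ S ∧ x ^ 2 ^ k = 1) ∧
      B ≤ Subgroup.centralizer (S : Set Ω) := by
  induction k with
  | zero =>
    refine ⟨⊥, fun x => ?_, bot_le⟩
    rw [Subgroup.mem_bot, pow_zero, pow_one]
    exact ⟨fun hx => ⟨hx ▸ S.one_mem, hx⟩, fun hx => hx.2⟩
  | succ k ih =>
    obtain ⟨A, hA, hAc⟩ := ih
    have hsq : ∀ x ∈ S, x ^ 2 ^ (k + 1) = 1 → ∀ g ∈ S, g * x ^ 2 = x ^ 2 * g := by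
      intro x hx hx1 g hg
      have : x ^ 2 ∈ A := (hA _).2 ⟨S.pow_mem hx 2, by rwa [← pow_mul, ← pow_succ']⟩
      exact Subgroup.mem_centralizer_iff.1 (hAc this) g hg
    have hcomm : ∀ x ∈ S, ∀ y ∈ S, x ^ 2 ^ (k + 1) = 1 → y ^ 2 ^ (k + 1) = 1 →
        ⁅x, y⁆ ^ 2 ^ k = 1 ∧ (x * y) ^ 2 ^ (k + 1) = 1 := by
      intro x hx y hy hx1 hy1
      have hcx := hsq x hx hx1
      have hcy := hsq y hy hy1
      have hrS : ⁅x, y⁆ ∈ S := by
        rw [commutatorElement_def]
        exact S.mul_mem (S.mul_mem (S.mul_mem hx hy) (S.inv_mem hx)) (S.inv_mem hy)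
      have hreal : x * ⁅x, y⁆ * x⁻¹ = ⁅x, y⁆⁻¹ := by
        rw [commutatorElement_def]
        calc x * (x * y * x⁻¹ * y⁻¹) * x⁻¹ = x ^ 2 * y * x⁻¹ * y⁻¹ * x⁻¹ := by
              rw [pow_two]; group
          _ = y * x ^ 2 * x⁻¹ * y⁻¹ * x⁻¹ := by rw [hcx y hy]
          _ = _ := by rw [pow_two]; group
      have hr2 := real_sq hS hF h hrS hx hreal
      have hprod : (x * y) ^ 2 = ⁅x, y⁆ * (x ^ 2 * y ^ 2) := by
        calc (x * y) ^ 2 = x * y * x⁻¹ * (x ^ 2 * y) := by rw [pow_two, pow_two]; group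
          _ = x * y * x⁻¹ * (y * x ^ 2) := by rw [hcx y hy]
          _ = x * y * x⁻¹ * y⁻¹ * (y ^ 2 * x ^ 2) := by rw [pow_two y]; group
          _ = _ := by rw [commutatorElement_def, hcx (y ^ 2) (S.pow_mem hy 2)]
      have hcsq : ∀ g ∈ S, Commute g (x ^ 2 * y ^ 2) :=
        fun g hg => Commute.mul_right (hcx g hg) (hcy g hg)
      have hc1 : (x ^ 2 * y ^ 2) ^ 2 ^ k = 1 := by
        rw [Commute.mul_pow (hcy _ (S.pow_mem hx 2)), ← pow_mul, ← pow_mul, ← pow_succ', hx1, hy1,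
          mul_one]
      have hr : ⁅x, y⁆ ^ 2 ^ k = 1 := by
        rcases k.eq_zero_or_pos with rfl | hk
        · have hxx : x * x = 1 := by simpa [pow_two] using hx1
          have hyy : y * y = 1 := by simpa [pow_two] using hy1
          have hv : x * (x * y) * x⁻¹ = (x * y)⁻¹ := by
            rw [mul_inv_rev, inv_eq_of_mul_eq_one_right hxx, inv_eq_of_mul_eq_one_right hyy,
              ← mul_assoc x x y, hxx, one_mul]
          have h1 := real_sq hS hF h (S.mul_mem hx hy) hx hv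
          rw [hprod, show x ^ 2 = 1 by rw [pow_two, hxx], show y ^ 2 = 1 by rw [pow_two, hyy],
            mul_one, mul_one] at h1
          rwa [pow_zero, pow_one]
        · obtain ⟨j, rfl⟩ := Nat.exists_eq_succ_of_ne_zero hk.ne'
          rw [pow_succ', pow_mul, hr2, one_pow]
      refine ⟨hr, ?_⟩
      rw [pow_succ', pow_mul, hprod, Commute.mul_pow (hcsq _ hrS), hr, hc1, one_mul]
    let B : Subgroup Ω :=
      { carrier := {x | x ∈ S ∧ x ^ 2 ^ (k + 1) = 1}
        one_mem' := ⟨S.one_mem, one_pow _⟩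
        mul_mem' := fun {a b} ha hb =>
          ⟨S.mul_mem ha.1 hb.1, (hcomm a ha.1 b hb.1 ha.2 hb.2).2⟩
        inv_mem' := fun {a} ha => ⟨S.inv_mem ha.1, by rw [inv_pow, ha.2, inv_one]⟩ }
    have hB : ∀ x, x ∈ B ↔ x ∈ S ∧ x ^ 2 ^ (k + 1) = 1 := fun x => Iff.rfl
    have hBS : B ≤ S := fun x hx => hx.1
    refine ⟨B, hB, ?_⟩
    have hn : F.IsNormal B := by
      have hn' := H85.isNormal_of_chain hS hF 2
        (fun i => match i with | 0 => ⊥ | 1 => A | _ => B) rfl
        (fun i _ => by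
          match i with
          | 0 => exact H85.stronglyClosed_bot F
          | 1 => exact pow_killed_stronglyClosed _ hA
          | _ + 2 => exact pow_killed_stronglyClosed _ hB)
        (fun i hi => by
          match i, hi with
          | 0, _ =>
            show ⁅B, A⁆ ≤ ⊥
            rw [Subgroup.commutator_le]
            intro a ha b hb
            rw [Subgroup.mem_bot, commutatorElement_eq_one_iff_mul_comm]
            exact Subgroup.mem_centralizer_iff.1 (hAc hb) a (hBS ha)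
          | 1, _ =>
            show ⁅B, B⁆ ≤ A
            rw [Subgroup.commutator_le]
            intro a ha b hb
            refine (hA _).2 ⟨?_, (hcomm a ha.1 b hb.1 ha.2 hb.2).1⟩
            rw [commutatorElement_def]
            exact S.mul_mem (S.mul_mem (S.mul_mem ha.1 hb.1) (S.inv_mem ha.1)) (S.inv_mem hb.1))
      exact hn'
    intro b hb
    rw [Subgroup.mem_centralizer_iff]
    intro y hy
    obtain ⟨z, hz, φ, hφ, hφy⟩ := h y hy
    obtain ⟨ψ, hψ, hext, -⟩ := hn.2 _ φ hφ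
    have hy' : y ∈ Subgroup.zpowers y ⊔ B := le_sup_left (α := Subgroup Ω) (Subgroup.mem_zpowers y)
    have hb' : b ∈ Subgroup.zpowers y ⊔ B := le_sup_right (α := Subgroup Ω) hb
    have hψy : ψ ⟨y, hy'⟩ = z := (hext ⟨y, Subgroup.mem_zpowers y⟩).trans hφy
    have h1 : (⟨y, hy'⟩ * ⟨b, hb'⟩ : ↥(Subgroup.zpowers y ⊔ B)) = ⟨b, hb'⟩ * ⟨y, hy'⟩ := by
      refine F.injective_of_mem hψ ?_
      rw [map_mul, map_mul, hψy]
      exact (Subgroup.mem_centralizer_iff.1 hz.2 _ (H85.map_mem hψ _)).symm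
    exact congrArg Subtype.val h1

theorem isMulCommutative_of_intoCentre [Finite S] (hS : IsPGroup 2 S) {F : FusionSystem S}
    (hF : F.IsSaturated 2) (h : IntoCentre F) : IsMulCommutative S := by
  refine ⟨⟨fun a b => Subtype.ext ?_⟩⟩
  obtain ⟨k, hk⟩ := hS a
  obtain ⟨B, hB, hBc⟩ := killed_central hS hF h k
  have ha : (a : Ω) ∈ B := (hB _).2 ⟨a.2, by simpa using congrArg Subtype.val hk⟩
  exact (Subgroup.mem_centralizer_iff.1 (hBc ha) b b.2).symm

end Cfsg.Agent.H9.CentralFusion
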