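import Cfsg.Agent.H9.NormalE2

set_option autoImplicit false

namespace Cfsg.Agent.H9

variable {P : Type*} [Group P] {p : ℕ}

/-- The commuting relation on elementary abelian subgroups of order at least p^2. -/
def SqRel (p : ℕ) (A B : Subgroup P) : Prop :=
  Cfsg.IsElementaryAbelian p A ∧ p ^ 2 ≤ Nat.card ↥A ∧ Cfsg.IsElementaryAbelian p B ∧
    p ^ 2 ≤ Nat.card ↥B ∧ ∀ a ∈ A, ∀ b ∈ B, a * b = b * a

theorem sqRel_symm {A B : Subgroup P} (h : SqRel p A B) : SqRel p B A :=
  ⟨h.2.2.1, h.2.2.2.1, h.1, h.2.1, fun a ha b hb => (h.2.2.2.2 b hb a ha).symm⟩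

theorem sqRel_path_symm {A B : Subgroup P} (h : Relation.ReflTransGen (SqRel p) A B) :
    Relation.ReflTransGen (SqRel p) B A := by
  induction h with
  | refl => exact .refl
  | tail _ h2 ih => exact .head (sqRel_symm h2) ih

/-- The centralizer of a normal subgroup of order p^2 has index at most p. -/
theorem card_le_mul_inf_centralizer [Fact p.Prime] [Finite P] (hP : IsPGroup p P) (U : Subgroup P)
    [U.Normal] (hUc : IsMulCommutative ↥U) (hU : Nat.card ↥U = p ^ 2) (Y : Subgroup P) :
    Nat.card ↥Y ≤ p * Nat.card ↥(Y ⊓ Subgroup.centralizer (U : Set P)) := by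
  classical
  have hp : p.Prime := Fact.out
  obtain ⟨Z, hZn, -, hZU, hZc⟩ := exists_normal_between hP U 1
    (by rw [hU]; exact Nat.pow_le_pow_right hp.pos (by norm_num)) ⊥ inferInstance bot_le
    (by rw [Subgroup.card_bot]; exact Nat.one_le_pow _ _ hp.pos)
  haveI := hZn
  have hlt : Z < U := lt_of_le_of_ne hZU fun h => by
    rw [h, hU] at hZc
    exact absurd (Nat.pow_right_injective hp.two_le hZc) (by norm_num)
  obtain ⟨M, -, hZM, hMU, hMcard, u, hu, huZ, hMx⟩ := exists_normal_succ hP Z U hlt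
  have hMeq : M = U := Subgroup.eq_of_le_of_card_ge hMU (by rw [hMcard, hZc, hU]; ring_nf; rfl)
  -- `Z` is central
  have hZcen : ∀ z ∈ Z, ∀ g : P, g * z = z * g := by
    intro z hz g
    obtain ⟨M', -, hb, hM'Z, hM'c, x, hx, hx1, hM'x⟩ := exists_normal_succ hP ⊥ (Z ⊓ Subgroup.center P)
      (bot_lt_iff_ne_bot.2 fun h => by
        -- the center meets a nontrivial normal subgroup
        haveI : Nontrivial ↥Z := Finite.one_lt_card_iff_nontrivial.1 (by rw [hZc, pow_one]; exact hp.one_lt)
        obtain ⟨n, hn, hcard⟩ := (hP.to_subgroup Z).nontrivial_iff_card.1 ‹_›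
        obtain ⟨b, hb, hb1⟩ :=
          (hP.of_equiv ConjAct.toConjAct).exists_fixed_point_of_prime_dvd_card_of_fixed_point
            ↥Z (hcard ▸ dvd_pow_self p (by omega)) (a := (1 : ↥Z)) (fun g => smul_one g)
        apply hb1
        have hbc : (b : P) ∈ Z ⊓ Subgroup.center P := by
          refine ⟨b.2, Subgroup.mem_center_iff.2 fun g => ?_⟩
          have := congrArg Subtype.val (hb (ConjAct.toConjAct g))
          rw [ConjAct.Subgroup.val_conj_smul, ConjAct.smul_def, ConjAct.ofConjAct_toConjAct] at this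
          calc g * (b : P) = g * b * g⁻¹ * g := by group
            _ = b * g := by rw [this]
        rw [h, Subgroup.mem_bot] at hbc
        exact (Subtype.ext hbc).symm)
    have hM'eq : M' = Z := Subgroup.eq_of_le_of_card_ge (hM'Z.trans inf_le_left)
      (by rw [hM'c, Subgroup.card_bot, hZc]; simp)
    exact Subgroup.mem_center_iff.1 ((hM'Z.trans inf_le_right) (hM'eq ▸ hz)) g
  -- commutators with `u` lie in `Z`
  have hcomm : ∀ g : P, g * u * g⁻¹ * u⁻¹ ∈ Z := by
    have hQ : IsPGroup p (P ⧸ Z) := hP.to_quotient Z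
    set q := QuotientGroup.mk' Z
    haveI : (U.map q).Normal := (inferInstance : U.Normal).map q (QuotientGroup.mk'_surjective Z)
    have hc : Nat.card ↥(U.map q) = p := by
      have hk : U.map q = Subgroup.zpowers (q u) := by
        rw [← hMeq, hMx, Subgroup.map_sup, MonoidHom.map_zpowers]
        rw [show Z.map q = ⊥ from (Subgroup.map_eq_bot_iff Z).2 (by rw [QuotientGroup.ker_mk']),
          bot_sup_eq]
      have h1 : (q u) ^ p = 1 := by
        rw [← map_pow]
        refine (QuotientGroup.eq_one_iff _).2 ?_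
        have hdiv : (q u) ^ (Nat.card ↥(U.map q)) = 1 := by
          exact orderOf_dvd_iff_pow_eq_one.1
            (Subgroup.orderOf_dvd_natCard _ (hk ▸ Subgroup.mem_zpowers _))
        -- `M / Z` has order `p`
        have hidx : (Z.subgroupOf U).index = p := by
          have h2 := (Z.subgroupOf U).card_mul_index
          rw [Nat.card_congr (Subgroup.subgroupOfEquivOfLe hZU).toEquiv, hZc, hU, pow_one,
            pow_two] at h2
          exact Nat.eq_of_mul_eq_mul_left hp.pos h2
        haveI : (Z.subgroupOf U).Normal := Subgroup.normal_subgroupOf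
        have := (Z.subgroupOf U).pow_index_mem (⟨u, hu⟩ : ↥U)
        rw [hidx] at this
        simpa [Subgroup.mem_subgroupOf] using this
      rw [hk, Nat.card_zpowers]
      exact orderOf_eq_prime h1 fun h => huZ ((QuotientGroup.eq_one_iff u).1 h)
    intro g
    have hfix : ∀ x : ↥(U.map q), x ∈ MulAction.fixedPoints (ConjAct (P ⧸ Z)) ↥(U.map q) := by
      haveI : Fintype ↥(U.map q) := Fintype.ofFinite _
      haveI : Nontrivial ↥(U.map q) := Finite.one_lt_card_iff_nontrivial.1 (by rw [hc]; exact hp.one_lt)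
      obtain ⟨b, hb, hb1⟩ :=
        (hQ.of_equiv ConjAct.toConjAct).exists_fixed_point_of_prime_dvd_card_of_fixed_point
          ↥(U.map q) (by rw [hc]) (a := (1 : ↥(U.map q))) (fun g => smul_one g)
      intro x g
      haveI : Fact (Nat.card ↥(U.map q)).Prime := ⟨hc ▸ hp⟩
      have hx : x ∈ Subgroup.zpowers b := mem_zpowers_of_prime_card hc (fun h => hb1 h.symm)
      obtain ⟨k, rfl⟩ := hx
      show g • b ^ k = b ^ k
      rw [smul_zpow', show g • b = b from hb g]
    have := congrArg Subtype.val (hfix ⟨q u, u, hu, rfl⟩ (ConjAct.toConjAct (q g)))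
    rw [ConjAct.Subgroup.val_conj_smul, ConjAct.smul_def, ConjAct.ofConjAct_toConjAct] at this
    refine (QuotientGroup.eq_one_iff _).1 ?_
    show q (g * u * g⁻¹ * u⁻¹) = 1
    rw [map_mul, map_mul, map_mul, map_inv, map_inv, mul_inv_eq_one]
    exact this
  let f : ↥Y →* ↥Z :=
    { toFun := fun y => ⟨(y : P) * u * (y : P)⁻¹ * u⁻¹, hcomm y⟩
      map_one' := Subtype.ext (by simp)
      map_mul' := fun a b => Subtype.ext (by
        simp only [Subgroup.coe_mul]
        have h := hZcen _ (hcomm b) (a : P)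
        calc (a : P) * b * u * ((a : P) * b)⁻¹ * u⁻¹
            = ((a : P) * ((b : P) * u * (b : P)⁻¹ * u⁻¹)) * (u * (a : P)⁻¹ * u⁻¹) := by group
          _ = ((b : P) * u * (b : P)⁻¹ * u⁻¹) * ((a : P) * u * (a : P)⁻¹ * u⁻¹) := by rw [h]; group
          _ = _ := by rw [hZcen _ (hcomm a) ((b : P) * u * (b : P)⁻¹ * u⁻¹)]) }
  have hker : f.ker = (Y ⊓ Subgroup.centralizer (U : Set P)).subgroupOf Y := by
    ext y
    rw [MonoidHom.mem_ker, Subgroup.mem_subgroupOf, Subgroup.mem_inf, Subgroup.mem_centralizer_iff]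
    constructor
    · intro h
      have h1 : (y : P) * u * (y : P)⁻¹ * u⁻¹ = 1 := congrArg Subtype.val h
      rw [mul_inv_eq_one] at h1
      refine ⟨y.2, fun x hx => ?_⟩
      have hyu : Commute (y : P) u := by
        calc (y : P) * u = y * u * (y : P)⁻¹ * y := by group
          _ = u * y := by rw [h1]
      rw [SetLike.mem_coe, ← hMeq, hMx] at hx
      have : Z ⊔ Subgroup.zpowers u ≤ Subgroup.centralizer {(y : P)} := by
        refine sup_le (fun z hz => Subgroup.mem_centralizer_singleton_iff.2 (hZcen z hz y).symm) ?_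
        rw [Subgroup.zpowers_le, Subgroup.mem_centralizer_singleton_iff]
        exact hyu.eq.symm
      exact Subgroup.mem_centralizer_singleton_iff.1 (this hx)
    · intro h
      apply Subtype.ext
      show (y : P) * u * (y : P)⁻¹ * u⁻¹ = 1
      rw [← h.2 u hu]
      group
  have h1 := f.ker.card_mul_index
  rw [Subgroup.index_ker, hker, Nat.card_congr (Subgroup.subgroupOfEquivOfLe inf_le_left).toEquiv] at h1
  rw [← h1, mul_comm p]
  refine Nat.mul_le_mul_left _ ?_
  calc Nat.card ↥f.range ≤ Nat.card ↥Z := Nat.card_le_card_of_injective _ Subtype.val_injective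
    _ = p := by rw [hZc, pow_one]

/-- Connectivity to a normal elementary abelian subgroup of order p^2. -/
theorem connected_to_normal_iff [Fact p.Prime] [Finite P] (hP : IsPGroup p P)
    (hrk : ∃ A : Subgroup P, Cfsg.IsElementaryAbelian p A ∧ p ^ 3 ≤ Nat.card ↥A)
    (U : Subgroup P) [U.Normal] (hUe : Cfsg.IsElementaryAbelian p U) (hU : Nat.card ↥U = p ^ 2)
    (X : Subgroup P) (hXe : Cfsg.IsElementaryAbelian p X) (hX : p ^ 2 ≤ Nat.card ↥X) :
    Relation.ReflTransGen (SqRel p) X U ↔
      ∃ A : Subgroup P, A ≤ Subgroup.centralizer (X : Set P) ∧ Cfsg.IsElementaryAbelian p A ∧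
        p ^ 2 < Nat.card ↥A := by
  have hp : p.Prime := Fact.out
  have hcU : ∀ Y : Subgroup P, Cfsg.IsElementaryAbelian p Y → p ^ 3 ≤ Nat.card ↥Y →
      Relation.ReflTransGen (SqRel p) Y U ∧
        ∃ V, Cfsg.IsElementaryAbelian p V ∧ U ≤ V ∧ p ^ 2 < Nat.card ↥V := by
    intro Y hY hY3
    set W := Y ⊓ Subgroup.centralizer (U : Set P) with hW
    have h1 := card_le_mul_inf_centralizer hP U hUe.1 hU Y
    rw [← hW] at h1
    have hW2 : p ^ 2 ≤ Nat.card ↥W := by
      refine Nat.le_of_mul_le_mul_left ?_ hp.pos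
      rw [← pow_succ']
      exact hY3.trans h1
    have hWe : Cfsg.IsElementaryAbelian p W := elemAb_le inf_le_left hY
    have hWU : ∀ a ∈ W, ∀ b ∈ U, a * b = b * a := fun a ha b hb =>
      (Subgroup.mem_centralizer_iff.1 (Subgroup.mem_inf.1 ha).2 b hb).symm
    refine ⟨Relation.ReflTransGen.head ⟨hY, le_trans (Nat.pow_le_pow_right hp.pos (by norm_num)) hY3,
      hWe, hW2, fun a ha b hb => comm_of hY.1 a ha b (Subgroup.mem_inf.1 hb).1⟩
      (.single ⟨hWe, hW2, hUe, hU.ge, hWU⟩), ?_⟩
    by_cases hWle : W ≤ U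
    · have hWeq : W = U := Subgroup.eq_of_le_of_card_ge hWle (by rw [hU]; exact hW2)
      refine ⟨Y, hY, hWeq ▸ inf_le_left, lt_of_lt_of_le ?_ hY3⟩
      exact Nat.pow_lt_pow_right hp.one_lt (by norm_num)
    · refine ⟨W ⊔ U, elemAb_sup hWe hUe hWU, le_sup_right, ?_⟩
      have hlt : U < W ⊔ U := lt_of_le_not_ge le_sup_right fun h => hWle (le_sup_left.trans h)
      calc p ^ 2 = Nat.card ↥U := hU.symm
        _ < Nat.card ↥(W ⊔ U) := lt_of_lt_of_le
            (lt_mul_left Nat.card_pos hp.one_lt) (lt_card_mul hP hlt)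
  constructor
  · intro h
    rcases Nat.lt_or_ge (p ^ 2) (Nat.card ↥X) with hgt | hle
    · exact ⟨X, fun a ha => Subgroup.mem_centralizer_iff.2 fun b hb =>
        comm_of hXe.1 b hb a ha, hXe, hgt⟩
    by_cases hXU : X = U
    · subst hXU
      obtain ⟨A, hA, hA3⟩ := hrk
      obtain ⟨-, V, hV, hUV, hVc⟩ := hcU A hA hA3
      exact ⟨V, fun a ha => Subgroup.mem_centralizer_iff.2 fun b hb =>
        comm_of hV.1 b (hUV hb) a ha, hV, hVc⟩
    -- the first step away from `X`
    induction h using Relation.ReflTransGen.head_induction_on with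
    | refl => exact absurd rfl hXU
    | @head X Y hXY _ ih =>
      by_cases hYX : Y = X
      · subst hYX
        exact ih hXe hX hle hXU
      obtain ⟨-, -, hYe, hY2, hc⟩ := hXY
      refine ⟨X ⊔ Y, ?_, elemAb_sup hXe hYe hc, ?_⟩
      · intro a ha
        refine Subgroup.mem_centralizer_iff.2 fun b hb => ?_
        exact comm_of (elemAb_sup hXe hYe hc).1 b (le_sup_left (α := Subgroup P) hb) a ha
      · by_contra hnot
        push Not at hnot
        have h1 : X = X ⊔ Y := Subgroup.eq_of_le_of_card_ge le_sup_left (hnot.trans hX)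
        have h2 : Y = X ⊔ Y := Subgroup.eq_of_le_of_card_ge le_sup_right (hnot.trans hY2)
        exact hYX (h2.trans h1.symm)
  · rintro ⟨A, hAC, hAe, hA2⟩
    have hc : ∀ x ∈ X, ∀ a ∈ A, x * a = a * x := fun x hx a ha =>
      Subgroup.mem_centralizer_iff.1 (hAC ha) x hx
    have hsup := elemAb_sup hXe hAe hc
    have h3 : p ^ 3 ≤ Nat.card ↥(X ⊔ A) :=
      (card_eq_pow_ge hP hA2).trans (Subgroup.card_le_of_le le_sup_right)
    refine Relation.ReflTransGen.head ⟨hXe, hX, hsup, le_trans (Nat.pow_le_pow_right hp.pos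
      (by norm_num)) h3, fun x hx y hy =>
        comm_of hsup.1 x (le_sup_left (α := Subgroup P) hx) y hy⟩ (hcU _ hsup h3).1

end Cfsg.Agent.H9
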