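import Cfsg.Agent.S2792
import Cfsg.Agent.H5.TateCor
import Cfsg.Prelude.Def_BaumannBlocks

/-!
The Hall–Wielandt theorem from the Wielandt–Yoshida transfer theorem and Tate's theorem.
-/

set_option autoImplicit false

namespace Cfsg.Agent.H9

open Subgroup
open scoped commutatorElement

variable {G : Type*} [Group G] [Finite G] {p : ℕ} [Fact p.Prime]

/-- A subgroup containing a Sylow subgroup and controlling the focal subgroup controls `O^p`. -/
theorem pResidualOf_eq_of_focal (P : Sylow p G) {H : Subgroup G} (hPH : (P : Subgroup G) ≤ H)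
    (h : commutator G ⊓ (P : Subgroup G) ≤ ⁅H, H⁆) :
    Cfsg.pResidualOf p H = Cfsg.pResidual p G ⊓ H := by
  refine le_antisymm (le_inf (H5.pResidual_subtype_map_le H) (Subgroup.map_subtype_le _)) ?_
  intro x hx
  haveI : (Cfsg.pResidual p ↥H).Normal := inferInstance
  have hsup := H5.pResidual_sup_sylow (P.subtype hPH)
  have h1 : (⟨x, hx.2⟩ : ↥H) ∈ Cfsg.pResidual p ↥H ⊔ ((P.subtype hPH : Sylow p ↥H) : Subgroup ↥H) := by
    rw [hsup]; exact Subgroup.mem_top _
  obtain ⟨a, ha, b, hb, hab⟩ := Subgroup.mem_sup_of_normal_left.mp h1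
  have hb' : (b : G) ∈ (P : Subgroup G) ⊓ Cfsg.pResidual p G := by
    refine ⟨hb, ?_⟩
    have e : (b : G) = (a : G)⁻¹ * x := by
      rw [eq_inv_mul_iff_mul_eq]; exact congrArg Subtype.val hab
    rw [e]
    exact (Cfsg.pResidual p G).mul_mem
      ((Cfsg.pResidual p G).inv_mem (H5.pResidual_subtype_map_le H ⟨a, ha, rfl⟩)) hx.1
  obtain ⟨b', hb'', hbb⟩ := H5.tate P hPH h hb'
  refine ⟨⟨x, hx.2⟩, ?_, rfl⟩
  rw [← hab, ← (Subtype.ext hbb : b' = b)]
  exact mul_mem ha hb''

/-- A weakly closed subgroup of a Sylow subgroup is normalised by it. -/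
theorem sylow_le_normalizer_weaklyClosed {P W : Subgroup G} (hW : Cfsg.IsWeaklyClosed W P) :
    P ≤ Subgroup.normalizer (W : Set G) := by
  intro s hs
  have h1 := hW.2 s (by
    rintro _ ⟨y, hy, rfl⟩
    exact mul_mem (mul_mem hs (hW.1 hy)) (inv_mem hs))
  rw [Subgroup.mem_normalizer_iff]
  intro w
  constructor
  · intro hw
    exact h1 ▸ (⟨w, hw, rfl⟩ : s * w * s⁻¹ ∈ W.map (MulAut.conj s).toMonoidHom)
  · intro hw
    rw [← h1] at hw
    obtain ⟨v, hv, hvw⟩ := hw
    exact (MulAut.conj s).injective hvw ▸ hv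

/-- Hall–Wielandt. -/
theorem hallWielandt (P : Sylow p G) (Q : Subgroup G) (hQ : Cfsg.IsWeaklyClosed Q (P : Subgroup G))
    (h : ∀ u ∈ (P : Subgroup G), ∀ z ∈ Q,
      (fun y : G => y⁻¹ * z⁻¹ * y * z)^[p - 1] u = 1) :
    Cfsg.pResidualOf p (Subgroup.normalizer (Q : Set G)) =
      Cfsg.pResidual p G ⊓ Subgroup.normalizer (Q : Set G) := by
  refine pResidualOf_eq_of_focal P (sylow_le_normalizer_weaklyClosed hQ) ?_
  by_contra hne
  obtain ⟨x, hx, z, hz, W₀, -, -, hnot⟩ := Cfsg.Agent.S2792.result P Q hQ fun he => hne (by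
    rw [inf_comm, he]; exact inf_le_right)
  rw [h x hx z hz] at hnot
  exact hnot (one_mem _)

/-- In a group whose lower central series stops before `p`, iterated commutators vanish. -/
theorem iterate_comm_mem_lowerCentralSeries (S : Subgroup G) {u z : G} (hu : u ∈ S) (hz : z ∈ S)
    (k : ℕ) :
    (fun y : G => y⁻¹ * z⁻¹ * y * z)^[k] u ∈ S.lowerCentralSeries k := by
  induction k with
  | zero => exact hu
  | succ k ih =>
    rw [Function.iterate_succ_apply', Subgroup.lowerCentralSeries_succ]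
    have e : ∀ a b : G, a⁻¹ * b⁻¹ * a * b = ⁅a⁻¹, b⁻¹⁆ := fun a b => by
      rw [commutatorElement_def, inv_inv, inv_inv]
    rw [e]
    exact Subgroup.commutator_mem_commutator (inv_mem ih) (inv_mem hz)

end Cfsg.Agent.H9
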