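import Cfsg.Agent.H9.Thompson
import Cfsg.Agent.H9.ExtLayer

set_option autoImplicit false

namespace Cfsg.Agent.H9

open Cfsg Cfsg.Comp

variable {H : Type*} [Group H]

/-- The fixed points of an automorphism. -/
def fixS (τ : H ≃* H) : Subgroup H where
  carrier := {x | τ x = x}
  one_mem' := map_one τ
  mul_mem' := fun {a b} ha hb => by
    show τ (a * b) = a * b
    rw [map_mul, show τ a = a from ha, show τ b = b from hb]
  inv_mem' := fun {a} ha => by
    show τ a⁻¹ = a⁻¹
    rw [map_inv, show τ a = a from ha]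

theorem mem_fixS {τ : H ≃* H} {x : H} : x ∈ fixS τ ↔ τ x = x := Iff.rfl

/-- The core of the fixed points, inside `H`. -/
def fixCore (τ : H ≃* H) : Subgroup H := (Cfsg.oddCore ↥(fixS τ)).map (fixS τ).subtype

theorem fixCore_le (τ : H ≃* H) : fixCore τ ≤ fixS τ := Subgroup.map_subtype_le _

theorem fixS_le_normalizer_fixCore (τ : H ≃* H) :
    fixS τ ≤ Subgroup.normalizer (fixCore τ : Set H) :=
  Subgroup.le_normalizer.trans (Cfsg.Comp.le_normalizer_map_subtype _)

variable [Finite H]

theorem odd_orderOf_fixCore {τ : H ≃* H} {y : H} (hy : y ∈ fixCore τ) : Odd (orderOf y) := by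
  haveI : Fact (Nat.Prime 2) := ⟨Nat.prime_two⟩
  obtain ⟨y', hy', rfl⟩ := hy
  rw [show orderOf ((fixS τ).subtype y') = orderOf y' from Subgroup.orderOf_coe y',
    Nat.odd_iff, ← Nat.two_dvd_ne_zero]
  exact fun h => not_dvd_card_pPrimeCore 2 (G := ↥(fixS τ))
    (h.trans (Subgroup.orderOf_dvd_natCard _ hy'))

/-- An element of odd and two-power order is trivial. -/
theorem eq_one_of_odd_of_two_pow {x : H} {j n : ℕ} (hn : Odd n) (h1 : x ^ n = 1)
    (h2 : x ^ 2 ^ j = 1) : x = 1 :=
  orderOf_eq_one_iff.mp (Nat.eq_one_of_dvd_coprimes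
    ((Nat.coprime_two_right.mpr hn).pow_right j)
    (orderOf_dvd_of_pow_eq_one h1) (orderOf_dvd_of_pow_eq_one h2))

/-- In a 2-group `T` invariant under an involution `τ` there is an element outside an invariant
proper subgroup `R` which `τ` fixes modulo `R`. -/
theorem exists_fixed_mod (τ : H ≃* H) (hτ : ∀ x, τ (τ x) = x) (T R : Subgroup H)
    (hT : IsPGroup 2 ↥T) (hTτ : ∀ x ∈ T, τ x ∈ T) (hne : ¬ T ≤ R) :
    ∃ v ∈ T, v ∉ R ∧ v⁻¹ * τ v ∈ R := by
  obtain ⟨n, hnT, hnR⟩ := SetLike.not_le_iff_exists.mp hne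
  by_cases hu : n⁻¹ * τ n ∈ R
  · exact ⟨n, hnT, hnR, hu⟩
  set u := n⁻¹ * τ n with hudef
  have huT : u ∈ T := mul_mem (inv_mem hnT) (hTτ n hnT)
  have huinv : τ u = u⁻¹ := by rw [hudef, map_mul, map_inv, hτ]; group
  classical
  have hex : ∃ j, u ^ 2 ^ j ∈ R := by
    obtain ⟨k, hk⟩ := hT ⟨u, huT⟩
    exact ⟨k, (show u ^ 2 ^ k = 1 from congrArg Subtype.val hk) ▸ one_mem R⟩
  set j := Nat.find hex with hj
  obtain ⟨i, hi⟩ : ∃ i, j = i + 1 := by
    refine ⟨j - 1, ?_⟩
    have h0 : j ≠ 0 := fun h => hu (by simpa [← hj, h] using Nat.find_spec hex)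
    omega
  refine ⟨u ^ 2 ^ i, pow_mem huT _, Nat.find_min hex (by omega), ?_⟩
  have h := Nat.find_spec hex
  rw [← hj, hi, pow_succ, pow_mul, pow_two] at h
  rw [map_pow, huinv, inv_pow, ← mul_inv_rev]
  exact inv_mem h

/-- Elements of the core of the fixed points centralize `O_2(H)`. -/
theorem fixCore_centralizes_twoCore (τ : H ≃* H) (hτ : ∀ x, τ (τ x) = x) :
    fixCore τ ≤ Subgroup.centralizer (Cfsg.pCore 2 H : Set H) := by
  haveI : Fact (Nat.Prime 2) := ⟨Nat.prime_two⟩
  intro y hy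
  set U := Cfsg.pCore 2 H with hU
  have hUp : IsPGroup 2 ↥U := pCore_isPGroup 2
  have hUn : U.Normal := Cfsg.pCore_normal 2 H
  have hUτ : ∀ x ∈ U, τ x ∈ U := fun x hx => by
    have h := (Subgroup.characteristic_iff_map_le.mp (pCore_characteristic 2 : U.Characteristic)) τ
    exact h ⟨x, hx, rfl⟩
  have hyfix : τ y = y := fixCore_le τ hy
  have hodd : Odd (orderOf y) := odd_orderOf_fixCore hy
  have hfixed : U ⊓ fixS τ ≤ Subgroup.centralizer {y} := by
    intro c hc
    obtain ⟨hcU, hcτ⟩ := Subgroup.mem_inf.mp hc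
    have hcomm : c * y * c⁻¹ * y⁻¹ ∈ U ⊓ fixCore τ := by
      refine Subgroup.mem_inf.mpr ⟨?_, ?_⟩
      · have := mul_mem hcU (hUn.conj_mem c⁻¹ (inv_mem hcU) y)
        simpa [mul_assoc] using this
      · exact mul_mem ((Subgroup.mem_normalizer_iff.mp (fixS_le_normalizer_fixCore τ hcτ) y).mp hy)
          (inv_mem hy)
    obtain ⟨h1, h2⟩ := Subgroup.mem_inf.mp hcomm
    obtain ⟨k, hk⟩ := hUp ⟨_, h1⟩
    have := eq_one_of_odd_of_two_pow (odd_orderOf_fixCore h2) (pow_orderOf_eq_one _)
      (congrArg Subtype.val hk)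
    rw [mul_inv_eq_one, mul_inv_eq_iff_eq_mul] at this
    exact Subgroup.mem_centralizer_singleton_iff.mpr this
  set R := U ⊓ Subgroup.centralizer {y}
  suffices h : U ≤ R by
    rw [Subgroup.mem_centralizer_iff]
    exact fun x hx => Subgroup.mem_centralizer_singleton_iff.mp (Subgroup.mem_inf.mp (h hx)).2
  by_contra hne
  -- a subgroup strictly above `R` normalizing it
  set T := U ⊓ Subgroup.normalizer (R : Set H) with hT
  have hRT : R ≤ T := le_inf inf_le_left Subgroup.le_normalizer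
  have hTR : ¬ T ≤ R := by
    haveI : Group.IsNilpotent ↥U := hUp.isNilpotent
    have hlt : R.subgroupOf U < ⊤ := by
      rw [lt_top_iff_ne_top, Ne, Subgroup.subgroupOf_eq_top]; exact hne
    obtain ⟨n, hn1, hn2⟩ := SetLike.exists_of_lt (Group.normalizerCondition_of_isNilpotent _ hlt)
    intro h
    apply hn2
    rw [Subgroup.mem_subgroupOf]
    refine h (Subgroup.mem_inf.mpr ⟨n.2, ?_⟩)
    rw [Subgroup.mem_normalizer_iff] at hn1 ⊢
    intro x
    constructor
    · intro hx
      have := (hn1 ⟨x, inf_le_left (b := Subgroup.centralizer {y}) hx⟩).mp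
        (Subgroup.mem_subgroupOf.mpr hx)
      simpa [Subgroup.mem_subgroupOf] using this
    · intro hx
      have hxU : x ∈ U := by
        have := mul_mem (mul_mem (inv_mem n.2) (inf_le_left (b := Subgroup.centralizer {y}) hx)) n.2
        simpa [mul_assoc] using this
      have := (hn1 ⟨x, hxU⟩).mpr (Subgroup.mem_subgroupOf.mpr hx)
      simpa [Subgroup.mem_subgroupOf] using this
  have hmemR : ∀ x, x ∈ R ↔ x ∈ U ∧ x * y = y * x := fun x => by
    simp [R, Subgroup.mem_inf, Subgroup.mem_centralizer_singleton_iff]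
  have hRτ : ∀ x ∈ R, τ x ∈ R := by
    intro x hx
    obtain ⟨hxU, hxy⟩ := (hmemR x).mp hx
    refine (hmemR _).mpr ⟨hUτ x hxU, ?_⟩
    have h := congrArg τ hxy
    rwa [map_mul, map_mul, hyfix] at h
  have hTτ : ∀ x ∈ T, τ x ∈ T := by
    intro x hx
    obtain ⟨hxU, hxN⟩ := Subgroup.mem_inf.mp hx
    refine Subgroup.mem_inf.mpr ⟨hUτ x hxU, Subgroup.mem_normalizer_iff.mpr fun r => ?_⟩
    have e := Subgroup.mem_normalizer_iff.mp hxN (τ r)
    constructor
    · intro hr
      have := hRτ _ (e.mp (hRτ r hr))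
      simpa [map_mul, hτ] using this
    · intro hr
      have h2 : x * τ r * x⁻¹ ∈ R := by
        have := hRτ _ hr
        simpa [map_mul, hτ] using this
      simpa [hτ] using hRτ _ (e.mpr h2)
  obtain ⟨n, hnT, hnR, hnfix⟩ := exists_fixed_mod τ hτ T R (hUp.to_le inf_le_left) hTτ hTR
  have hnU : n ∈ U := (Subgroup.mem_inf.mp hnT).1
  -- the commutator of `y` and `n` is fixed, hence central for `y`
  set r := n⁻¹ * τ n with hr
  have hry : r * y = y * r := ((hmemR r).mp hnfix).2
  set c := y * n * y⁻¹ * n⁻¹ with hc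
  have hcU : c ∈ U := mul_mem (hUn.conj_mem n hnU y) (inv_mem hnU)
  have hcτ : τ c = c := by
    have hτn : τ n = n * r := by rw [hr]; group
    rw [hc, map_mul, map_mul, map_mul, map_inv, map_inv, hyfix, hτn]
    have hry' : r * y⁻¹ = y⁻¹ * r := (show Commute r y from hry).inv_right.eq
    calc y * (n * r) * y⁻¹ * (n * r)⁻¹ = y * n * (r * y⁻¹) * r⁻¹ * n⁻¹ := by group
      _ = y * n * (y⁻¹ * r) * r⁻¹ * n⁻¹ := by rw [hry']
      _ = y * n * y⁻¹ * n⁻¹ := by group
  have hcy : c * y = y * c :=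
    Subgroup.mem_centralizer_singleton_iff.mp (hfixed (Subgroup.mem_inf.mpr ⟨hcU, hcτ⟩))
  have hpow : ∀ k : ℕ, y ^ k * n * (y ^ k)⁻¹ = c ^ k * n := by
    intro k
    induction k with
    | zero => simp
    | succ k ih =>
      have hck : Commute y (c ^ k) := (show Commute c y from hcy).symm.pow_right k
      calc y ^ (k + 1) * n * (y ^ (k + 1))⁻¹ = y * (y ^ k * n * (y ^ k)⁻¹) * y⁻¹ := by
            rw [pow_succ']; group
        _ = y * c ^ k * n * y⁻¹ := by rw [ih]; group
        _ = c ^ k * (y * n * y⁻¹ * n⁻¹) * n := by rw [hck.eq]; group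
        _ = c ^ (k + 1) * n := by rw [← hc, ← pow_succ]
  obtain ⟨k, hk⟩ := hUp ⟨c, hcU⟩
  have hc1 : c = 1 := by
    refine eq_one_of_odd_of_two_pow hodd ?_ (congrArg Subtype.val hk)
    have := hpow (orderOf y)
    rw [pow_orderOf_eq_one] at this
    simpa using this.symm
  apply hnR
  refine (hmemR n).mpr ⟨hnU, ?_⟩
  rw [hc, mul_inv_eq_one, mul_inv_eq_iff_eq_mul] at hc1
  exact hc1.symm

/-- The centre of a component lies in `O_2(H)` when the core is trivial. -/
theorem component_center_le_twoCore (hO : Cfsg.oddCore H = ⊥) {E : Subgroup H}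
    (hE : IsComponent E) {z : H} (hz : z ∈ E) (hzc : ∀ e ∈ E, e * z = z * e) :
    z ∈ Cfsg.pCore 2 H := by
  haveI : Fact (Nat.Prime 2) := ⟨Nat.prime_two⟩
  have hmem : (⟨z, hz⟩ : ↥E) ∈ Subgroup.center ↥E :=
    Subgroup.mem_center_iff.mpr fun e => Subtype.ext (hzc e e.2)
  have hle : (Subgroup.center ↥E).map E.subtype ≤ fittingSubgroup H :=
    le_fitting_of_subnormal
      (Subgroup.IsSubnormal.trans' (inferInstance : (Subgroup.center ↥E).Normal).isSubnormal hE.1)
      (isNilpotent_of_commutator_commutator (by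
        have hab : ⁅(Subgroup.center ↥E).map E.subtype, (Subgroup.center ↥E).map E.subtype⁆ = ⊥ := by
          refine Subgroup.commutator_eq_bot_iff_le_centralizer.mpr ?_
          rintro _ ⟨a, ha, rfl⟩
          refine Subgroup.mem_centralizer_iff.mpr ?_
          rintro _ ⟨b, _, rfl⟩
          exact congrArg Subtype.val (Subgroup.mem_center_iff.mp ha b)
        rw [hab, Subgroup.commutator_bot_left]))
  have hF : fittingSubgroup H ≤ Cfsg.pCore 2 H := by
    rw [fitting_eq_iSup_pCore]
    refine iSup_le fun q => ?_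
    by_cases hq : (q : ℕ) = 2
    · rw [hq]
    · haveI := Fact.mk q.2
      refine le_trans ?_ ((le_of_eq hO).trans bot_le)
      refine Cfsg.Comp.le_pPrimeCore inferInstance ?_
      obtain ⟨n, hn⟩ := (pCore_isPGroup (G := H) (q : ℕ)).exists_card_eq
      rw [hn]
      exact Nat.Coprime.pow_left _ ((Nat.coprime_primes q.2 Nat.prime_two).2 hq)
  exact hF (hle ⟨_, hmem, rfl⟩)

/-- A 2-element of `E` outside the centre. -/
theorem exists_two_element (hO : Cfsg.oddCore H = ⊥) {E : Subgroup H} (hE : IsComponent E) :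
    ∃ s ∈ E, (∃ j : ℕ, s ^ 2 ^ j = 1) ∧ ¬ ∀ e ∈ E, e * s = s * e := by
  haveI : Fact (Nat.Prime 2) := ⟨Nat.prime_two⟩
  obtain ⟨P⟩ : Nonempty (Sylow 2 ↥E) := inferInstance
  have hne : ¬ (P : Subgroup ↥E) ≤ Subgroup.center ↥E := fun h =>
    P.not_dvd_index ((dvd_index_center_component hO hE).trans (Subgroup.index_dvd_of_le h))
  obtain ⟨s, hs, hsc⟩ := SetLike.not_le_iff_exists.mp hne
  refine ⟨s, s.2, ?_, fun h => hsc (Subgroup.mem_center_iff.mpr fun e => Subtype.ext (h e e.2))⟩
  obtain ⟨j, hj⟩ := P.2 ⟨s, hs⟩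
  exact ⟨j, by simpa [Subtype.ext_iff] using hj⟩

/-- A product `a * s` of odd order with `a` centralizing `E` and `s` a 2-element of `E`
forces `s` to be central in `E`. -/
theorem central_of_odd_mul {E : Subgroup H} {a s : H} {n j : ℕ} (hs : s ∈ E)
    (ha : ∀ e ∈ E, e * a = a * e) (hn : Odd n) (h : (a * s) ^ n = 1) (hj : s ^ 2 ^ j = 1) :
    ∀ e ∈ E, e * s = s * e := by
  intro e he
  have hcomm : Commute a s := (ha s hs).symm
  rw [hcomm.mul_pow] at h
  have h1 : Commute e (a ^ n) := (show Commute e a from ha e he).pow_right n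
  have h2 : a ^ n = (s ^ n)⁻¹ := eq_inv_of_mul_eq_one_left h
  have h3 : Commute e (s ^ n) := by
    rw [h2] at h1; simpa using h1.inv_right
  obtain ⟨k, hk⟩ : ∃ k, (s ^ n) ^ k = s := by
    obtain ⟨k, hk⟩ := exists_pow_eq_self_of_coprime (x := s) (n := n)
      ((Nat.coprime_two_right.mpr hn).pow_right j |>.of_dvd_right (orderOf_dvd_of_pow_eq_one hj))
    exact ⟨k, hk⟩
  rw [← hk]
  exact (h3.pow_right k).eq

/-- If `y` normalizes a component `E` and all `[y, e]` lie in a proper normal subgroup, `y`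
centralizes `E`. -/
theorem centralizes_component {E : Subgroup H} (hE : IsComponent E) (N : Subgroup ↥E) (hN : N.Normal)
    (hNtop : N ≠ ⊤) {y : H} (hy : ∀ e : ↥E, ∃ n ∈ N, y * e * y⁻¹ * (e : H)⁻¹ = (n : H)) :
    ∀ e ∈ E, y * e = e * y := by
  have hNc : N ≤ Subgroup.center ↥E :=
    (normal_eq_top_or_le_center hE.2 hN).resolve_left hNtop
  choose f hf hfe using hy
  haveI : IsMulCommutative ↥(Subgroup.center ↥E) := inferInstance
  let φ : ↥E →* ↥(Subgroup.center ↥E) := MonoidHom.mk' (fun e => ⟨f e, hNc (hf e)⟩) fun a b => by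
    apply Subtype.ext
    apply Subtype.ext
    show ((f (a * b) : ↥E) : H) = ((f a * f b : ↥E) : H)
    have hb : (a : H) * (f b : H) = (f b : H) * a :=
      congrArg Subtype.val (Subgroup.mem_center_iff.mp (hNc (hf b)) a)
    rw [Subgroup.coe_mul, ← hfe (a * b), ← hfe a, Subgroup.coe_mul]
    calc y * ((a : H) * b) * y⁻¹ * ((a : H) * b)⁻¹
        = y * a * y⁻¹ * ((y * b * y⁻¹ * (b : H)⁻¹) * (a : H)⁻¹) := by group
      _ = y * a * y⁻¹ * ((f b : H) * (a : H)⁻¹) := by rw [hfe b]
      _ = y * a * y⁻¹ * ((a : H)⁻¹ * (f b : H)) := by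
          congr 1
          calc (f b : H) * (a : H)⁻¹ = (a : H)⁻¹ * ((a : H) * (f b : H)) * (a : H)⁻¹ := by group
            _ = _ := by rw [hb]; group
      _ = _ := by group
  intro e he
  have hker : ∀ x : ↥E, φ x = 1 := fun x => by
    have hx : x ∈ commutator ↥E := by rw [perfect_of_quasisimple hE.2]; trivial
    letI : CommGroup ↥(Subgroup.center ↥E) := { (inferInstance : Group ↥(Subgroup.center ↥E)) with
      mul_comm := fun a b => Subtype.ext (Subgroup.mem_center_iff.mp b.2 a) }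
    exact Abelianization.commutator_subset_ker φ hx
  have h1 : f ⟨e, he⟩ = 1 := congrArg Subtype.val (hker ⟨e, he⟩)
  have h2 := hfe ⟨e, he⟩
  rw [h1, OneMemClass.coe_one, mul_inv_eq_one, mul_inv_eq_iff_eq_mul] at h2
  exact h2

variable (τ : H ≃* H) (hτ : ∀ x, τ (τ x) = x) (hO : Cfsg.oddCore H = ⊥) {E : Subgroup H}
  (hE : IsComponent E)

include hτ hO hE

/-- If `τ` moves the component `E`, the core of the fixed points centralizes `E`; otherwise it
normalizes `E`. -/
theorem fixCore_normalizes {y : H} (hy : y ∈ fixCore τ) :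
    E.map (MulAut.conj y).toMonoidHom = E ∧
      (E.map τ.toMonoidHom ≠ E → ∀ e ∈ E, y * e = e * y) := by
  classical
  haveI : Fact (Nat.Prime 2) := ⟨Nat.prime_two⟩
  obtain ⟨s, hs, ⟨j, hj⟩, hsnc⟩ := exists_two_element hO hE
  set cy : Subgroup H → Subgroup H := fun A => A.map (MulAut.conj y).toMonoidHom with hcy
  have hyfix : τ y = y := fixCore_le τ hy
  by_cases hmove : E.map τ.toMonoidHom = E
  · refine ⟨?_, fun h => absurd hmove h⟩
    -- a 2-element fixed by `τ` modulo the centre of `E`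
    obtain ⟨v, hv, ⟨i, hi⟩, hvnc, hvfix⟩ : ∃ v ∈ E, (∃ i : ℕ, v ^ 2 ^ i = 1) ∧
        (¬ ∀ e ∈ E, e * v = v * e) ∧ v⁻¹ * τ v ∈ Cfsg.pCore 2 H := by
      have hEτ : ∀ x ∈ E, τ x ∈ E := fun x hx => hmove.le ⟨x, hx, rfl⟩
      let τE : ↥E ≃* ↥E :=
        { toFun := fun x => ⟨τ x, hEτ x x.2⟩
          invFun := fun x => ⟨τ x, hEτ x x.2⟩
          left_inv := fun x => Subtype.ext (hτ x)
          right_inv := fun x => Subtype.ext (hτ x)
          map_mul' := fun x z => Subtype.ext (map_mul τ _ _) }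
      let A : Subgroup (MulAut ↥E) := Subgroup.zpowers (τE : MulAut ↥E)
      have hA : IsPGroup 2 ↥A := by
        refine IsPGroup.of_card_dvd_pow (n := 1) ?_
        rw [Nat.card_zpowers, pow_one]
        refine orderOf_dvd_of_pow_eq_one (MulEquiv.ext fun x => ?_)
        rw [pow_two]
        exact Subtype.ext (hτ x)
      obtain ⟨P, hP⟩ := hA.nonempty_fixed_point_of_prime_not_dvd_card (Sylow 2 ↥E)
        (not_dvd_card_sylow 2 ↥E)
      have hPτ : ∀ x ∈ (P : Subgroup ↥E), τE x ∈ (P : Subgroup ↥E) := by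
        intro x hx
        have h1 := hP ⟨τE, Subgroup.mem_zpowers _⟩
        rw [← h1]
        exact ⟨x, hx, rfl⟩
      have hne : ¬ (P : Subgroup ↥E) ≤ Subgroup.center ↥E := fun h =>
        P.not_dvd_index ((dvd_index_center_component hO hE).trans (Subgroup.index_dvd_of_le h))
      obtain ⟨v, hv, hvc, hvfix⟩ := exists_fixed_mod τE (fun x => Subtype.ext (hτ x)) _ _ P.2 hPτ hne
      obtain ⟨i, hi⟩ := P.2 ⟨v, hv⟩
      refine ⟨v, v.2, ⟨i, by simpa [Subtype.ext_iff] using hi⟩,
        fun h => hvc (Subgroup.mem_center_iff.mpr fun e => Subtype.ext (h e e.2)), ?_⟩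
      exact component_center_le_twoCore hO hE (mul_mem (inv_mem v.2) (hEτ v v.2))
        fun e he => congrArg Subtype.val (Subgroup.mem_center_iff.mp hvfix ⟨e, he⟩)
    by_contra hne
    have hcomm : ⁅E, cy E⁆ = ⊥ :=
      (component_eq_or_commute hE (isComponent_conj hE y)).resolve_left fun h => hne h.symm
    set C1 := fixS τ ⊓ Subgroup.centralizer (Cfsg.pCore 2 H : Set H) with hC1
    haveI : (Subgroup.centralizer (Cfsg.pCore 2 H : Set H)).Normal := inferInstance
    have hvO : v ∈ Subgroup.centralizer (Cfsg.pCore 2 H : Set H) :=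
      ((Subgroup.commutator_eq_bot_iff_le_centralizer.mp (commutator_component_fitting hE)).trans
        (Subgroup.centralizer_le (SetLike.coe_subset_coe.mpr (pCore_le_fitting 2)))) hv
    set z := v⁻¹ * τ v with hz
    have hvC1 : C1.map (MulAut.conj v).toMonoidHom = C1 := by
      refine Subgroup.eq_of_le_of_card_ge ?_
        (Subgroup.card_map_of_injective (MulAut.conj v).injective).ge
      rintro _ ⟨c, hc, rfl⟩
      obtain ⟨hc1, hc2⟩ := Subgroup.mem_inf.mp hc
      refine Subgroup.mem_inf.mpr ⟨?_, ?_⟩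
      · show τ (v * c * v⁻¹) = v * c * v⁻¹
        have hτv : τ v = v * z := by rw [hz]; group
        have hcz : z * c = c * z := Subgroup.mem_centralizer_iff.mp hc2 z hvfix
        rw [map_mul, map_mul, map_inv, hτv, mem_fixS.mp hc1]
        calc v * z * c * (v * z)⁻¹ = v * (z * c) * z⁻¹ * v⁻¹ := by group
          _ = _ := by rw [hcz]; group
      · exact mul_mem (mul_mem hvO hc2) (inv_mem hvO)
    have hD1 : fixCore τ ≤ C1 := le_inf (fixCore_le τ) (fixCore_centralizes_twoCore τ hτ)
    -- the core of `C1` is the core of the fixed points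
    set D1 := (Cfsg.oddCore ↥C1).map C1.subtype with hD1def
    have h2 : fixCore τ ≤ D1 := by
      intro x hx
      refine ⟨⟨x, hD1 hx⟩, Cfsg.Comp.le_pPrimeCore (N := (fixCore τ).subgroupOf C1) ?_ ?_ hx, rfl⟩
      · exact Subgroup.normal_subgroupOf_of_le_normalizer
          (inf_le_left.trans (fixS_le_normalizer_fixCore τ))
      · rw [Cfsg.Comp.card_subgroupOf hD1, Cfsg.Comp.coprime_iff_not_dvd, fixCore,
          card_map_subtype]
        exact not_dvd_card_pPrimeCore 2
    have h3 : D1 ≤ fixCore τ := by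
      have hle : D1 ≤ fixS τ := (Subgroup.map_subtype_le _).trans inf_le_left
      intro x hx
      refine ⟨⟨x, hle hx⟩, Cfsg.Comp.le_pPrimeCore (N := D1.subgroupOf (fixS τ)) ?_ ?_ hx, rfl⟩
      · refine Subgroup.normal_subgroupOf_of_le_normalizer fun c hc => ?_
        have hcC1 : c ∈ Subgroup.normalizer (C1 : Set H) :=
          inf_le_normalizer Subgroup.le_normalizer le_normalizer_of_normal hc
        exact Cfsg.Comp.mem_normalizer_of_map_conj_eq (Subgroup.eq_of_le_of_card_ge (by
          rintro _ ⟨_, ⟨w, hw, rfl⟩, rfl⟩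
          let e : ↥C1 ≃* ↥C1 := ((MulAut.conj c).subgroupMap C1).trans
            (MulEquiv.subgroupCongr (map_conj_eq_of_mem_normalizer hcC1))
          exact ⟨e w, map_pPrimeCore_le 2 e ⟨w, hw, rfl⟩, rfl⟩)
          (Subgroup.card_map_of_injective (MulAut.conj c).injective).ge)
      · rw [Cfsg.Comp.card_subgroupOf hle, Cfsg.Comp.coprime_iff_not_dvd, hD1def, card_map_subtype]
        exact not_dvd_card_pPrimeCore 2
    have hx : y * v * y⁻¹ * v⁻¹ ∈ fixCore τ := by
      refine h3 ?_
      obtain ⟨w, hw, hwy⟩ := h2 (inv_mem hy)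
      let e : ↥C1 ≃* ↥C1 := ((MulAut.conj v).subgroupMap C1).trans (MulEquiv.subgroupCongr hvC1)
      have h4 : v * y⁻¹ * v⁻¹ ∈ D1 := by
        refine ⟨e w, map_pPrimeCore_le 2 e ⟨w, hw, rfl⟩, ?_⟩
        show v * (w : H) * v⁻¹ = _
        rw [show (w : H) = y⁻¹ from hwy]
      have := mul_mem (h2 hy) h4
      simpa [mul_assoc] using this
    apply hvnc
    intro e he
    have ha : ∀ e ∈ E, e * (y * v * y⁻¹) = y * v * y⁻¹ * e := fun e he =>
      commute_of_commutator_eq_bot hcomm he ⟨v, hv, rfl⟩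
    have hinv := central_of_odd_mul (E := E) (s := v⁻¹) (inv_mem hv) ha
      (odd_orderOf_fixCore hx) (pow_orderOf_eq_one _) (j := i) (by rw [inv_pow, hi, inv_one]) e he
    exact ((show Commute e v⁻¹ from hinv).inv_right |> fun h => by simpa using h : Commute e v).eq
  · set F := E.map τ.toMonoidHom with hF
    have hFc : IsComponent F := isComponent_map_equiv τ hE
    have hEF : ⁅E, F⁆ = ⊥ :=
      (component_eq_or_commute hE hFc).resolve_left fun h => hmove h.symm
    have hφmul : ∀ a b, a ∈ E → b ∈ E → a * b * τ (a * b) = (a * τ a) * (b * τ b) := by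
      intro a b ha hb
      rw [map_mul]
      have h1 : b * τ a = τ a * b := commute_of_commutator_eq_bot hEF hb ⟨a, ha, rfl⟩
      calc a * b * (τ a * τ b) = a * (b * τ a) * τ b := by group
        _ = _ := by rw [h1]; group
    have hfix : ∀ a ∈ E, a * τ a ∈ fixS τ := by
      intro a ha
      show τ (a * τ a) = a * τ a
      rw [map_mul, hτ]
      exact (commute_of_commutator_eq_bot hEF ha ⟨a, ha, rfl⟩).symm
    have hyE : cy E = E ∨ cy E = F := by
      by_contra hne
      push Not at hne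
      have h1 : ⁅E, cy E⁆ = ⊥ :=
        (component_eq_or_commute hE (isComponent_conj hE y)).resolve_left fun h => hne.1 h.symm
      have h2 : ⁅E, cy F⁆ = ⊥ := by
        refine (component_eq_or_commute hE (isComponent_conj hFc y)).resolve_left fun h => hne.2 ?_
        ext x
        constructor
        · rintro ⟨a, ha, rfl⟩
          refine ⟨y * τ a * y⁻¹, h.ge ⟨τ a, ⟨a, ha, rfl⟩, rfl⟩, ?_⟩
          show τ (y * τ a * y⁻¹) = y * a * y⁻¹
          rw [map_mul, map_mul, map_inv, hyfix, hτ]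
        · rintro ⟨b, hb, rfl⟩
          obtain ⟨_, ⟨a, ha, rfl⟩, hab⟩ := h.le hb
          refine ⟨a, ha, ?_⟩
          show y * a * y⁻¹ = τ b
          rw [← show y * τ a * y⁻¹ = b from hab, map_mul, map_mul, map_inv, hyfix, hτ]
      apply hsnc
      intro e he
      set d := s * τ s with hd
      have hxD : y * d * y⁻¹ * d⁻¹ ∈ fixCore τ := by
        have h := mul_mem hy ((Subgroup.mem_normalizer_iff.mp
          (fixS_le_normalizer_fixCore τ (hfix s hs)) y⁻¹).mp (inv_mem hy))
        rw [← hd] at h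
        simpa [mul_assoc] using h
      set a := y * d * y⁻¹ * (τ s)⁻¹
      have ha : ∀ e ∈ E, e * a = a * e := by
        intro e he
        have c1 : Commute e (y * s * y⁻¹) := commute_of_commutator_eq_bot h1 he ⟨s, hs, rfl⟩
        have c2 : Commute e (y * τ s * y⁻¹) :=
          commute_of_commutator_eq_bot h2 he ⟨τ s, ⟨s, hs, rfl⟩, rfl⟩
        have c3 : Commute e (τ s)⁻¹ :=
          (show Commute e (τ s) from commute_of_commutator_eq_bot hEF he ⟨s, hs, rfl⟩).inv_right
        have heq : a = (y * s * y⁻¹) * (y * τ s * y⁻¹) * (τ s)⁻¹ := by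
          simp only [a, hd]; group
        rw [heq]
        exact ((c1.mul_right c2).mul_right c3).eq
      have h := pow_orderOf_eq_one (y * d * y⁻¹ * d⁻¹)
      rw [show y * d * y⁻¹ * d⁻¹ = a * s⁻¹ by simp only [a, hd]; group] at h
      have hinv := central_of_odd_mul (E := E) (s := s⁻¹) (inv_mem hs) ha
        (by simpa [a, hd, mul_assoc] using odd_orderOf_fixCore hxD) h (j := j)
        (by rw [inv_pow, hj, inv_one]) e he
      exact ((show Commute e s⁻¹ from hinv).inv_right |> fun h => by simpa using h : Commute e s).eq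
    have hyE' : cy E = E := by
      refine hyE.resolve_right fun h => hmove ?_
      -- odd powers of `y` would then send `E` to `F`
      have hFE : cy F = E := by
        refine Subgroup.eq_of_le_of_card_ge ?_ ?_
        · rintro _ ⟨_, ⟨a, ha, rfl⟩, rfl⟩
          obtain ⟨b, hb, hbe⟩ := h.le ⟨a, ha, rfl⟩
          show y * τ a * y⁻¹ ∈ E
          have h5 : τ (τ b) = τ (y * a * y⁻¹) := congrArg τ hbe
          rw [hτ, map_mul, map_mul, map_inv, hyfix] at h5
          rw [← h5]
          exact hb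
        · rw [Subgroup.card_map_of_injective (MulAut.conj y).injective,
            Subgroup.card_map_of_injective τ.injective]
      have hpow : ∀ k : ℕ, E.map (MulAut.conj (y ^ k)).toMonoidHom = if Even k then E else F := by
        intro k
        induction k with
        | zero => ext x; simp
        | succ k ih =>
          have : E.map (MulAut.conj (y ^ (k + 1))).toMonoidHom =
              cy (E.map (MulAut.conj (y ^ k)).toMonoidHom) := by
            show _ = (E.map _).map _
            rw [Subgroup.map_map, pow_succ']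
            congr 1
            ext x
            simp [mul_assoc]
          rw [this, ih]
          by_cases hk : Even k
          · rw [if_pos hk, if_neg (by simpa [Nat.even_add_one] using hk)]
            exact h
          · rw [if_neg hk, if_pos (by simpa [Nat.even_add_one] using hk)]
            exact hFE
      have := hpow (orderOf y)
      rw [pow_orderOf_eq_one, if_neg (Nat.not_even_iff_odd.mpr (odd_orderOf_fixCore hy))] at this
      rw [← this]
      ext x
      simp
    refine ⟨hyE', fun _ => ?_⟩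
    let φ : ↥E →* ↥(fixS τ) := MonoidHom.mk' (fun a => ⟨(a : H) * τ a, hfix a a.2⟩)
      fun a b => Subtype.ext (hφmul a b a.2 b.2)
    let N : Subgroup ↥E := (Cfsg.oddCore ↥(fixS τ)).comap φ
    have hND : ∀ a : ↥E, a ∈ N ↔ (a : H) * τ a ∈ fixCore τ := by
      intro a
      constructor
      · intro h; exact ⟨φ a, h, rfl⟩
      · rintro ⟨c, hc, hca⟩
        refine Subgroup.mem_comap.mpr ?_
        rw [show φ a = c from Subtype.ext hca.symm]
        exact hc
    have hN : N.Normal := (pPrimeCore_normal 2).comap φ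
    refine centralizes_component hE N hN ?_ fun e => ?_
    · intro htop
      apply hsnc
      intro e he
      have hmem : (⟨s, hs⟩ : ↥E) ∈ N := by rw [htop]; trivial
      have hD : τ s * s ∈ fixCore τ := by
        have h6 := (hND _).mp hmem
        rwa [show s * τ s = τ s * s from
          commute_of_commutator_eq_bot hEF hs ⟨s, hs, rfl⟩] at h6
      exact central_of_odd_mul hs
        (fun e he => commute_of_commutator_eq_bot hEF he ⟨s, hs, rfl⟩)
        (odd_orderOf_fixCore hD) (pow_orderOf_eq_one _) hj e he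
    · have hye : y * e * y⁻¹ ∈ E := hyE'.le ⟨e, e.2, rfl⟩
      refine ⟨⟨y * e * y⁻¹ * (e : H)⁻¹, mul_mem hye (inv_mem e.2)⟩, (hND _).mpr ?_, rfl⟩
      have hτe : τ (e : H) ∈ F := ⟨e, e.2, rfl⟩
      have c1 : Commute (e : H)⁻¹ (y * τ e * y⁻¹) := by
        refine (show Commute (e : H) _ from commute_of_commutator_eq_bot hEF e.2 ?_).inv_left
        refine ⟨y * e * y⁻¹, hye, ?_⟩
        show τ (y * e * y⁻¹) = y * τ e * y⁻¹
        rw [map_mul, map_mul, map_inv, hyfix]
      have c2 : Commute (e : H) (τ e) := commute_of_commutator_eq_bot hEF e.2 hτe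
      have h : y * ((e : H) * τ e) * y⁻¹ * ((e : H) * τ e)⁻¹ ∈ fixCore τ := by
        have h := mul_mem hy ((Subgroup.mem_normalizer_iff.mp
          (fixS_le_normalizer_fixCore τ (hfix e e.2)) y⁻¹).mp (inv_mem hy))
        simpa [mul_assoc] using h
      show y * e * y⁻¹ * (e : H)⁻¹ * τ (y * e * y⁻¹ * (e : H)⁻¹) ∈ fixCore τ
      rw [map_mul, map_mul, map_mul, map_inv, map_inv, hyfix]
      have heq : y * e * y⁻¹ * (e : H)⁻¹ * (y * τ e * y⁻¹ * (τ e)⁻¹) =
          y * ((e : H) * τ e) * y⁻¹ * ((e : H) * τ e)⁻¹ := by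
        calc y * e * y⁻¹ * (e : H)⁻¹ * (y * τ e * y⁻¹ * (τ e)⁻¹)
            = y * e * y⁻¹ * ((e : H)⁻¹ * (y * τ e * y⁻¹)) * (τ e)⁻¹ := by group
          _ = y * e * y⁻¹ * ((y * τ e * y⁻¹) * (e : H)⁻¹) * (τ e)⁻¹ := by rw [c1.eq]
          _ = y * ((e : H) * τ e) * y⁻¹ * (τ e * (e : H))⁻¹ := by group
          _ = _ := by rw [c2.eq]
      rw [heq]
      exact h

/-- If `τ` centralizes the component `E`, so does the core of the fixed points. -/
theorem fixCore_centralizes_fixed (hfixE : ∀ e ∈ E, τ e = e) {y : H} (hy : y ∈ fixCore τ) :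
    ∀ e ∈ E, y * e = e * y := by
  obtain ⟨s, hs, ⟨j, hj⟩, hsnc⟩ := exists_two_element hO hE
  have hle : E ≤ fixS τ := hfixE
  let N : Subgroup ↥E := (fixCore τ).subgroupOf E
  have hN : N.Normal :=
    Subgroup.normal_subgroupOf_of_le_normalizer (hle.trans (fixS_le_normalizer_fixCore τ))
  refine centralizes_component hE N hN ?_ fun e => ?_
  · intro htop
    have hsD : s ∈ fixCore τ := (Subgroup.subgroupOf_eq_top.mp htop) hs
    exact hsnc (fun e _ => by
      rw [eq_one_of_odd_of_two_pow (odd_orderOf_fixCore hsD) (pow_orderOf_eq_one s) hj]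
      simp)
  · have hye : y * e * y⁻¹ ∈ E := (fixCore_normalizes τ hτ hO hE hy).1.le ⟨e, e.2, rfl⟩
    refine ⟨⟨y * e * y⁻¹ * (e : H)⁻¹, mul_mem hye (inv_mem e.2)⟩,
      Subgroup.mem_subgroupOf.mpr ?_, rfl⟩
    have h := mul_mem hy ((Subgroup.mem_normalizer_iff.mp
      (fixS_le_normalizer_fixCore τ (hle e.2)) y⁻¹).mp (inv_mem hy))
    simpa [mul_assoc] using h

omit hE in
/-- Some component is normalized, and not centralized, by `τ` and a nontrivial subgroup of the
core of the fixed points. -/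
theorem exists_component_moved {Y : Subgroup H} (hY : Y ≤ fixCore τ) (hY1 : Y ≠ ⊥) :
    ∃ E : Subgroup H, IsComponent E ∧ E.map τ.toMonoidHom = E ∧
      (∀ y ∈ Y, E.map (MulAut.conj y).toMonoidHom = E) ∧ (¬ ∀ e ∈ E, τ e = e) ∧
      ¬ ∀ y ∈ Y, ∀ e ∈ E, y * e = e * y := by
  haveI : Fact (Nat.Prime 2) := ⟨Nat.prime_two⟩
  by_contra hno
  push Not at hno
  apply hY1
  have hcent : ∀ E, IsComponent E → ∀ y ∈ Y, ∀ e ∈ E, y * e = e * y := by
    intro E hE y hy
    by_cases h1 : E.map τ.toMonoidHom = E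
    · by_cases h2 : ∀ e ∈ E, τ e = e
      · exact fixCore_centralizes_fixed τ hτ hO hE h2 (hY hy)
      · push Not at h2
        exact hno E hE h1 (fun y hy => (fixCore_normalizes τ hτ hO hE (hY hy)).1) h2 y hy
    · exact (fixCore_normalizes τ hτ hO hE (hY hy)).2 h1
  have hY2 : Y ≤ Subgroup.centralizer (Cfsg.pCore 2 H : Set H) :=
    hY.trans (fixCore_centralizes_twoCore τ hτ)
  have hFp : fittingSubgroup H ≤ Cfsg.pCore 2 H := by
    rw [fitting_eq_iSup_pCore]
    refine iSup_le fun q => ?_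
    by_cases hq : (q : ℕ) = 2
    · rw [hq]
    · haveI := Fact.mk q.2
      refine le_trans ?_ ((le_of_eq hO).trans bot_le)
      refine Cfsg.Comp.le_pPrimeCore inferInstance ?_
      obtain ⟨n, hn⟩ := (pCore_isPGroup (G := H) (q : ℕ)).exists_card_eq
      rw [hn]
      exact Nat.Coprime.pow_left _ ((Nat.coprime_primes q.2 Nat.prime_two).2 hq)
  set C := Subgroup.centralizer (generalizedFittingSubgroup H : Set H) with hC
  have hYC : Y ≤ C := by
    rw [hC, Subgroup.le_centralizer_iff]
    refine sup_le (layer_le_iff.mpr fun E hE e he => ?_) ?_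
    · rw [Subgroup.mem_centralizer_iff]
      exact fun y hy => hcent E hE y hy e he
    · exact hFp.trans (Subgroup.le_centralizer_iff.mp hY2)
  have hCF : C ≤ fittingSubgroup H := by
    refine le_fitting_of_subnormal (inferInstance : C.Normal).isSubnormal ?_
    refine isNilpotent_of_commutator_commutator ?_
    have hab : ⁅C, C⁆ = ⊥ := Subgroup.commutator_eq_bot_iff_le_centralizer.mpr
      (Subgroup.le_centralizer_iff.mp (centralizer_fStar_le.trans
        (Subgroup.le_centralizer_iff.mp le_rfl)))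
    rw [hab, Subgroup.commutator_bot_left]
  rw [Subgroup.eq_bot_iff_forall]
  intro y hy
  obtain ⟨j, hj⟩ := pCore_isPGroup (G := H) 2 ⟨y, hFp (hCF (hYC hy))⟩
  exact eq_one_of_odd_of_two_pow (odd_orderOf_fixCore (hY hy)) (pow_orderOf_eq_one y)
    (by simpa [Subtype.ext_iff] using hj)

end Cfsg.Agent.H9
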