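import Mathlib
import Cfsg.Agent.H1.Cores
import Cfsg.Agent.H6.Extraspecial
import Cfsg.Agent.H6.Transfer

/-!
An involution `z` whose centralizer has an extraspecial `2`-core `E` with `C_G(E) ≤ E`.
-/

set_option autoImplicit false

namespace Cfsg.Agent.H9

open Subgroup
open scoped commutatorElement Classical

variable {G : Type*} [Group G]

/-- The involution `z`, `H = C_G(z)`, and `E = O_2(H)` extraspecial with `C_G(E) ≤ E`. -/
structure LargeData (z : G) (E : Subgroup G) : Prop where
  hz : orderOf z = 2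
  hE : E = (Cfsg.pCore 2 ↥(centralizer ({z} : Set G))).map (centralizer ({z} : Set G)).subtype
  hext : Cfsg.IsExtraspecial 2 ↥E
  hcent : centralizer (E : Set G) ≤ E

namespace LargeData

variable {z : G} {E : Subgroup G}

theorem le_H (L : LargeData z E) : E ≤ centralizer ({z} : Set G) := by
  rw [L.hE]; exact map_subtype_le _

theorem z_mem_H (z : G) : z ∈ centralizer ({z} : Set G) :=
  mem_centralizer_singleton_iff.2 rfl

theorem commute_z (L : LargeData z E) {e : G} (he : e ∈ E) : e * z = z * e :=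
  mem_centralizer_singleton_iff.1 (L.le_H he)

theorem z_mem (L : LargeData z E) : z ∈ E :=
  L.hcent (mem_centralizer_iff.2 fun e he => L.commute_z he)

theorem zz (L : LargeData z E) : z * z = 1 := by
  rw [← sq, ← L.hz]; exact pow_orderOf_eq_one z

theorem z_ne_one (L : LargeData z E) : z ≠ 1 := fun h => by
  have := L.hz; rw [h, orderOf_one] at this; omega

theorem isPGroup_E (L : LargeData z E) : IsPGroup 2 E := L.hext.1.1

theorem normalizer_E (L : LargeData z E) :
    centralizer ({z} : Set G) ≤ normalizer (E : Set G) := by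
  intro h hh
  rw [mem_normalizer_iff]
  have key : ∀ c ∈ centralizer ({z} : Set G), ∀ e ∈ E, c * e * c⁻¹ ∈ E := by
    intro c hc e he
    rw [L.hE] at he ⊢
    obtain ⟨b, hb, rfl⟩ := he
    exact ⟨⟨c, hc⟩ * b * ⟨c, hc⟩⁻¹, (H1.pCore_normal' 2 _).conj_mem b hb _, rfl⟩
  refine fun e => ⟨fun he => key h hh e he, fun he => ?_⟩
  have := key h⁻¹ (inv_mem hh) _ he
  simpa [mul_assoc] using this

theorem conj_mem (L : LargeData z E) {c e : G} (hc : c ∈ centralizer ({z} : Set G)) (he : e ∈ E) :
    c * e * c⁻¹ ∈ E :=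
  (mem_normalizer_iff.1 (L.normalizer_E hc) e).1 he

theorem eq_one_or_z_of_central (L : LargeData z E) {c : G} (hcE : c ∈ E)
    (hc : ∀ e ∈ E, e * c = c * e) : c = 1 ∨ c = z := by
  have h2 := L.hext.2
  rw [Nat.card_eq_two_iff] at h2
  obtain ⟨a, b, hab, huniv⟩ := h2
  have hz' : (⟨z, L.z_mem⟩ : E) ∈ center E :=
    Subgroup.mem_center_iff.2 fun e => Subtype.ext (L.commute_z e.2)
  have hc' : (⟨c, hcE⟩ : E) ∈ center E :=
    Subgroup.mem_center_iff.2 fun e => Subtype.ext (hc e e.2)
  have h1 : (1 : E) ∈ center E := one_mem _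
  have hmem : ∀ x : center E, x = a ∨ x = b := fun x => by
    have : x ∈ ({a, b} : Set (center E)) := huniv ▸ Set.mem_univ x
    simpa using this
  by_contra hcon
  push Not at hcon
  rcases hmem ⟨_, hz'⟩ with e1 | e1 <;> rcases hmem ⟨_, hc'⟩ with e2 | e2 <;>
    rcases hmem ⟨_, h1⟩ with e3 | e3 <;>
    first
      | exact hcon.2 (congrArg (fun x : center E => ((x : E) : G)) (e2.trans e1.symm))
      | exact hcon.1 (congrArg (fun x : center E => ((x : E) : G)) (e2.trans e3.symm))
      | exact L.z_ne_one (congrArg (fun x : center E => ((x : E) : G)) (e1.trans e3.symm))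

theorem eq_one_or_z_of_centralizes (L : LargeData z E) {c : G}
    (hc : ∀ e ∈ E, e * c = c * e) : c = 1 ∨ c = z :=
  L.eq_one_or_z_of_central (L.hcent (mem_centralizer_iff.2 hc)) hc

theorem comm_cases (L : LargeData z E) {a b : G} (ha : a ∈ E) (hb : b ∈ E) :
    ⁅a, b⁆ = 1 ∨ ⁅a, b⁆ = z := by
  have h := H6.extraspecial_commutator_mem_center L.hext (⟨a, ha⟩ : E) ⟨b, hb⟩
  refine L.eq_one_or_z_of_central (SetLike.coe_mem (⁅(⟨a, ha⟩ : E), ⟨b, hb⟩⁆)) fun e he => ?_
  exact congrArg Subtype.val (Subgroup.mem_center_iff.1 h ⟨e, he⟩)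

/-- Two elements of `E` either commute or conjugate each other to their product with `z`. -/
theorem conj_cases (L : LargeData z E) {a b : G} (ha : a ∈ E) (hb : b ∈ E) :
    a * b = b * a ∨ a * b * a⁻¹ = z * b := by
  rcases L.comm_cases ha hb with h | h
  · exact Or.inl (commutatorElement_eq_one_iff_mul_comm.1 h)
  · right
    rw [commutatorElement_def] at h
    calc a * b * a⁻¹ = a * b * a⁻¹ * b⁻¹ * b := by group
      _ = z * b := by rw [h]

theorem z_mul_ne (L : LargeData z E) (b : G) : z * b ≠ b := fun h =>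
  L.z_ne_one (mul_eq_right.1 h)

theorem sq_cases (L : LargeData z E) {a : G} (ha : a ∈ E) : a * a = 1 ∨ a * a = z := by
  haveI : Fact (Nat.Prime 2) := ⟨Nat.prime_two⟩
  refine L.eq_one_or_z_of_central (mul_mem ha ha) fun e he => ?_
  rcases L.conj_cases ha he with h | h
  · calc e * (a * a) = (e * a) * a := by group
      _ = (a * e) * a := by rw [h]
      _ = a * (e * a) := by group
      _ = a * (a * e) := by rw [h]
      _ = a * a * e := by group
  · have hzc : a * z = z * a := L.commute_z ha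
    calc e * (a * a) = e * a * a := by group
      _ = z * (z * (e * a * a)) := by rw [← mul_assoc z z, L.zz, one_mul]
      _ = z * ((z * e) * a * a) := by group
      _ = z * ((a * e * a⁻¹) * a * a) := by rw [h]
      _ = (z * a) * (e * a) := by group
      _ = (a * z) * (e * a) := by rw [hzc]
      _ = a * ((z * e) * a) := by group
      _ = a * ((a * e * a⁻¹) * a) := by rw [h]
      _ = a * a * e := by group

/-- An abelian subgroup of index two can occur only for width one. -/
theorem card_abelian_le [Finite G] (L : LargeData z E) {M : Subgroup G} (hME : M ≤ E)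
    (hMc : ∀ a ∈ M, ∀ b ∈ M, a * b = b * a) {x : G} (hxE : x ∈ E)
    (hgen : ∀ e ∈ E, e ∈ M ∨ x⁻¹ * e ∈ M) : Nat.card M ≤ 4 := by
  let φ : M →* G := MonoidHom.mk' (fun m => ⁅x, (m : G)⁆) (fun a b => by
    show ⁅x, (a : G) * b⁆ = ⁅x, (a : G)⁆ * ⁅x, (b : G)⁆
    rcases L.comm_cases hxE (hME b.2) with h | h <;> rw [h]
    · rw [mul_one]
      have hxb := commutatorElement_eq_one_iff_mul_comm.1 h
      rw [commutatorElement_def, commutatorElement_def]
      calc x * ((a : G) * b) * x⁻¹ * ((a : G) * b)⁻¹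
          = x * a * (b * x⁻¹ * (b : G)⁻¹) * (a : G)⁻¹ := by group
        _ = x * a * x⁻¹ * (a : G)⁻¹ := by
          have : (b : G) * x⁻¹ * (b : G)⁻¹ = x⁻¹ :=
            (mul_inv_eq_iff_eq_mul.2 (by rw [eq_comm, inv_mul_eq_iff_eq_mul, ← mul_assoc, hxb]; group))
          rw [this]
    · have hzc : (a : G) * z = z * a := L.commute_z (hME a.2)
      rw [commutatorElement_def] at h ⊢
      rw [commutatorElement_def]
      calc x * ((a : G) * b) * x⁻¹ * ((a : G) * b)⁻¹
          = x * a * x⁻¹ * ((x * b * x⁻¹ * (b : G)⁻¹) * (a : G)⁻¹) := by group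
        _ = x * a * x⁻¹ * (z * (a : G)⁻¹) := by rw [h]
        _ = x * a * x⁻¹ * ((a : G)⁻¹ * z) := by
          congr 1
          rw [eq_inv_mul_iff_mul_eq, ← mul_assoc, hzc, mul_inv_cancel_right]
        _ = x * a * x⁻¹ * (a : G)⁻¹ * z := by group)
  have hr : (φ.range : Set G) ⊆ {1, z} := by
    rintro _ ⟨m, rfl⟩
    exact L.comm_cases hxE (hME m.2)
  have hk : φ.ker.map M.subtype ≤ zpowers z := by
    rintro _ ⟨m, hm, rfl⟩
    have hxm : x * (m : G) = m * x := commutatorElement_eq_one_iff_mul_comm.1 hm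
    rcases L.eq_one_or_z_of_central (hME m.2) (fun e he => by
      rcases hgen e he with he' | he'
      · exact hMc e he' m m.2
      · have h3 := hMc _ he' m m.2
        calc e * (m : G) = x * (x⁻¹ * e * m) := by group
          _ = x * (m * (x⁻¹ * e)) := by rw [h3]
          _ = (x * m) * (x⁻¹ * e) := by group
          _ = (m * x) * (x⁻¹ * e) := by rw [hxm]
          _ = m * e := by group) with h | h <;> show (m : G) ∈ _ <;> rw [h]
    · exact one_mem _
    · exact mem_zpowers z
  have h1 : Nat.card φ.range ≤ 2 := by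
    have h2 := Nat.card_mono (Set.toFinite ({1, z} : Set G)) hr
    have h3 : Nat.card ({1, z} : Set G) ≤ 2 := by
      rw [Nat.card_coe_set_eq]
      exact (Set.ncard_insert_le _ _).trans (by rw [Set.ncard_singleton])
    exact le_trans h2 h3
  have h2 : Nat.card φ.ker ≤ 2 := by
    rw [← card_map_of_injective M.subtype_injective]
    exact (card_le_of_le hk).trans (by rw [Nat.card_zpowers, L.hz])
  rw [← φ.ker.card_mul_index, index_ker]
  exact Nat.mul_le_mul h2 h1

/-- An abelian subgroup of index at most two can occur only for width one. -/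
theorem not_comm_of_card_gt [Finite G] (L : LargeData z E) {M : Subgroup G} (hME : M ≤ E)
    (hMc : ∀ a ∈ M, ∀ b ∈ M, a * b = b * a) {x : G} (hxE : x ∈ E)
    (hgen : ∀ e ∈ E, e ∈ M ∨ x⁻¹ * e ∈ M) : Nat.card E ≤ 8 := by
  have h1 := L.card_abelian_le hME hMc hxE hgen
  let φ : Bool × M → E := fun q => if q.1 then ⟨q.2, hME q.2.2⟩ else ⟨x, hxE⟩ * ⟨q.2, hME q.2.2⟩
  have hφ : Function.Surjective φ := by
    intro e
    rcases hgen e e.2 with h | h
    · exact ⟨(true, ⟨e, h⟩), by simp [φ]⟩
    · exact ⟨(false, ⟨_, h⟩), Subtype.ext (by simp [φ])⟩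
  have h2 := Nat.card_le_card_of_surjective φ hφ
  rw [Nat.card_prod, Nat.card_eq_fintype_card (α := Bool), Fintype.card_bool] at h2
  omega

end LargeData

/-- An involution of odd cycle count on the cosets of a subgroup gives a normal subgroup of index two. -/
theorem exists_index_two_of_fixed [Finite G] (Q : Subgroup G) (m : ℕ) (hm : Odd m)
    (hQ : Q.index = 2 * m) (u : G) (hu : u * u = 1)
    (hfix : 4 ∣ Nat.card {q : G ⧸ Q | u • q = q}) :
    ∃ M : Subgroup G, M.Normal ∧ M.index = 2 ∧ u ∉ M := by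
  haveI : Fintype (G ⧸ Q) := Fintype.ofFinite _
  let π : G →* Equiv.Perm (G ⧸ Q) := MulAction.toPermHom G (G ⧸ Q)
  let f : G →* ℤˣ := Equiv.Perm.sign.comp π
  have hcard : (π u).support.card + Nat.card {q : G ⧸ Q | u • q = q} = 2 * m := by
    rw [← hQ, Subgroup.index_eq_card, Nat.card_eq_fintype_card (α := G ⧸ Q),
      ← Finset.card_add_card_compl (π u).support]
    congr 1
    rw [Nat.card_coe_set_eq, ← Set.ncard_coe_finset]
    congr 1
    ext q
    simp [π]
  obtain ⟨k, hk⟩ := hfix
  obtain ⟨j, hj⟩ := hm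
  have hne : π u ≠ 1 := fun h1 => by
    rw [h1, Equiv.Perm.support_one, Finset.card_empty] at hcard
    omega
  have hord : orderOf (π u) = 2 :=
    orderOf_eq_prime (by rw [← map_pow, sq, hu, map_one]) hne
  obtain ⟨n, hn⟩ := Equiv.Perm.cycleType_prime_order (σ := π u) (hord.symm ▸ Nat.prime_two)
  have hsum := Equiv.Perm.sum_cycleType (π u)
  rw [hn, hord, Multiset.sum_replicate, smul_eq_mul] at hsum
  have hfu : f u = -1 := by
    show Equiv.Perm.sign (π u) = -1
    rw [Equiv.Perm.sign_of_cycleType, hn, hord, Multiset.sum_replicate, Multiset.card_replicate,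
      smul_eq_mul]
    apply Odd.neg_one_pow
    exact ⟨(3 * (n + 1) - 1) / 2, by omega⟩
  refine ⟨f.ker, inferInstance, ?_, fun h => ?_⟩
  · rw [Subgroup.index_ker]
    have : f.range = ⊤ := by
      rw [eq_top_iff]
      rintro x -
      rcases Int.units_eq_one_or x with rfl | rfl
      · exact ⟨1, map_one f⟩
      · exact ⟨u, hfu⟩
    rw [this, Subgroup.card_top, Nat.card_eq_fintype_card, Fintype.card_units_int]
  · rw [MonoidHom.mem_ker, hfu] at h
    exact absurd h (by decide)

/-- A maximal `p`-subgroup inside a subgroup, above a given one. -/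
theorem exists_maximal_pGroup_le [Finite G] {p : ℕ} [Fact p.Prime] (A P : Subgroup G)
    (hP : IsPGroup p P) (hPA : P ≤ A) :
    ∃ R : Subgroup G, P ≤ R ∧ IsPGroup p R ∧ R ≤ A ∧
      ∀ Q : Subgroup G, IsPGroup p Q → R ≤ Q → Q ≤ A → Q = R := by
  obtain ⟨S, hS⟩ := IsPGroup.exists_le_sylow (hP.comap_subtype (K := A))
  refine ⟨(S : Subgroup A).map A.subtype, ?_, S.2.map _, map_subtype_le _, fun Q hQ hle hQA => ?_⟩
  · intro x hx
    exact ⟨⟨x, hPA hx⟩, hS hx, rfl⟩
  · have h1 : Q.subgroupOf A = S := S.3 (hQ.comap_subtype (K := A)) (fun x hx => hle ⟨x, hx, rfl⟩)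
    rw [← h1]
    exact (map_subgroupOf_eq_of_le hQA).symm

/-- In a `p`-group a proper subgroup is properly contained in its normalizer. -/
theorem exists_normalizing_not_mem [Finite G] {p : ℕ} [Fact p.Prime] {R Q : Subgroup G}
    (hQ : IsPGroup p Q) (hle : R ≤ Q) (hne : Q ≠ R) :
    ∃ g ∈ Q, g ∉ R ∧ g ∈ normalizer (R : Set G) := by
  haveI : Group.IsNilpotent Q := hQ.isNilpotent
  have hlt : R.subgroupOf Q < ⊤ := by
    rw [lt_top_iff_ne_top, Ne, subgroupOf_eq_top]
    exact fun h => hne (le_antisymm h hle)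
  obtain ⟨g, hg1, hg2⟩ := SetLike.exists_of_lt
    (Group.normalizerCondition_of_isNilpotent (R.subgroupOf Q) hlt)
  refine ⟨g, g.2, hg2, mem_normalizer_iff.2 fun x => ?_⟩
  constructor
  · intro hx
    exact (mem_normalizer_iff.1 hg1 ⟨x, hle hx⟩).1 hx
  · intro hx
    have hxQ : x ∈ Q := by
      have := mul_mem (mul_mem (inv_mem g.2) (hle hx)) g.2
      simpa [mul_assoc] using this
    exact (mem_normalizer_iff.1 hg1 ⟨x, hxQ⟩).2 hx

end Cfsg.Agent.H9
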