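import Cfsg.Agent.H9.OrbitTransfer

/-!
Under `O^2(G) = G` the largest abelian `2`-quotient of `C_G(z)` is elementary abelian when
`O_2(C_G(z))` is extraspecial and contains its centralizer.
-/

set_option autoImplicit false

namespace Cfsg.Agent.H9

open Subgroup
open scoped commutatorElement Classical

variable {G : Type*} [Group G]

theorem smul_out_mem (H : Subgroup G) (x : G) (q : G ⧸ H) :
    (x • q).out⁻¹ * (x * q.out) ∈ H := by
  rw [← QuotientGroup.eq, QuotientGroup.out_eq']
  conv_lhs => rw [← QuotientGroup.out_eq' q]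
  rfl

/-- The transfer cocycle. -/
noncomputable def transCocycle {H : Subgroup G} {B : Type*} [CommGroup B] (ψ : H →* B) (x : G)
    (q : G ⧸ H) : B :=
  ψ ⟨(x • q).out⁻¹ * (x * q.out), smul_out_mem H x q⟩

section

variable {H : Subgroup G} {B : Type*} [CommGroup B] (ψ : H →* B)

theorem transCocycle_mul (x y : G) (q : G ⧸ H) :
    transCocycle ψ (x * y) q = transCocycle ψ x (y • q) * transCocycle ψ y q := by
  unfold transCocycle
  rw [← map_mul]
  congr 1
  ext
  simp only [Subgroup.coe_mul, mul_smul]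
  group

theorem transCocycle_fixed {x : G} {q : G ⧸ H} (h : x • q = q) {w : G} (hw : w ∈ H)
    (he : q.out⁻¹ * x * q.out = w) : transCocycle ψ x q = ψ ⟨w, hw⟩ := by
  unfold transCocycle
  congr 1
  ext
  show (x • q).out⁻¹ * (x * q.out) = w
  rw [h, ← mul_assoc, he]

theorem mem_of_fixed {x : G} {q : G ⧸ H} (h : x • q = q) : q.out⁻¹ * x * q.out ∈ H := by
  have := smul_out_mem H x q
  rwa [h, ← mul_assoc] at this

theorem fixed_of_mem {x : G} {q : G ⧸ H} (h : q.out⁻¹ * x * q.out ∈ H) : x • q = q := by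
  conv_lhs => rw [← QuotientGroup.out_eq' q]
  conv_rhs => rw [← QuotientGroup.out_eq' q]
  show ((x * q.out : G) : G ⧸ H) = (q.out : G ⧸ H)
  refine (QuotientGroup.eq.2 ?_).symm
  rwa [← mul_assoc]

theorem prod_transCocycle_eq_one [Finite G] [Fintype (G ⧸ H)] (hres : Cfsg.pResidual 2 G = ⊤)
    (hB : ∀ b : B, b * b = 1) (x : G) : ∏ q : G ⧸ H, transCocycle ψ x q = 1 := by
  let τ : G →* B := MonoidHom.mk' (fun g => ∏ q : G ⧸ H, transCocycle ψ g q) (fun a b => by
    simp only [transCocycle_mul, Finset.prod_mul_distrib]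
    congr 1
    exact Equiv.prod_comp (MulAction.toPerm b) (fun q : G ⧸ H => transCocycle ψ a q))
  have hle : Cfsg.pResidual 2 G ≤ τ.ker := by
    unfold Cfsg.pResidual
    rw [Subgroup.closure_le]
    intro g hg
    have h1 : orderOf (τ g) ∣ orderOf g := orderOf_map_dvd τ g
    have h2 : orderOf (τ g) ∣ 2 := orderOf_dvd_of_pow_eq_one (by rw [sq]; exact hB _)
    exact orderOf_eq_one_iff.1 (Nat.eq_one_of_dvd_coprimes hg h1 h2)
  exact hle (hres ▸ mem_top x)

end

/-- If the transfer vanishes on every non-trivial orbit of `S`, then `ψ` vanishes on `S`. -/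
theorem eq_one_of_orbitTrivial [Finite G] {H : Subgroup G} {B : Type*} [CommGroup B] (ψ : H →* B)
    (hres : Cfsg.pResidual 2 G = ⊤) (hB : ∀ b : B, b * b = 1) (S : Subgroup G) (hSH : S ≤ H)
    (horb : ∀ q₀ : G ⧸ H, q₀ ≠ ((1 : G) : G ⧸ H) →
      OrbitTrivial (fun a : S => transCocycle ψ (a : G) q₀) (MulAction.stabilizer S q₀))
    (x : G) (hx : x ∈ S) : ψ ⟨x, hSH hx⟩ = 1 := by
  haveI : Fintype (G ⧸ H) := Fintype.ofFinite _
  haveI : Finite S := inferInstance
  -- the orbits of `S`
  let Ω := MulAction.orbitRel.Quotient S (G ⧸ H)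
  haveI : Fintype Ω := Fintype.ofFinite _
  haveI : ∀ ω : Ω, Fintype (S ⧸ MulAction.stabilizer S ω.out) := fun ω => Fintype.ofFinite _
  let Φ : (Σ ω : Ω, S ⧸ MulAction.stabilizer S ω.out) → G ⧸ H :=
    fun p => p.2.out • p.1.out
  have hbij : Function.Bijective Φ := by
    constructor
    · rintro ⟨ω, C⟩ ⟨ω', C'⟩ heq
      have h1 : ω = ω' := by
        have h2 : (⟦C.out • ω.out⟧ : Ω) = ⟦C'.out • ω'.out⟧ := congrArg (Quotient.mk _) heq
        have h3 : ∀ (ω : Ω) (a : S), (⟦a • ω.out⟧ : Ω) = ω := fun ω a =>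
          (Quotient.sound (show a • ω.out ∈ MulAction.orbit S ω.out from ⟨a, rfl⟩)).trans
            (Quotient.out_eq ω)
        exact (h3 ω C.out).symm.trans (h2.trans (h3 ω' C'.out))
      subst h1
      have h2 : C = C' := by
        rw [← QuotientGroup.out_eq' C, ← QuotientGroup.out_eq' C', QuotientGroup.eq,
          MulAction.mem_stabilizer_iff, mul_smul, inv_smul_eq_iff]
        exact heq.symm
      rw [h2]
    · intro q
      have h1 : q ∈ MulAction.orbit S (Quotient.mk _ q : Ω).out := by
        have := Quotient.exact (Quotient.out_eq (Quotient.mk _ q : Ω))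
        exact MulAction.mem_orbit_symm.1 this
      obtain ⟨a, ha⟩ := h1
      obtain ⟨⟨t, ht⟩, hat⟩ :=
        QuotientGroup.mk_out_eq_mul (MulAction.stabilizer S (Quotient.mk _ q : Ω).out) a
      refine ⟨⟨Quotient.mk _ q, (a : S ⧸ MulAction.stabilizer S _)⟩, ?_⟩
      show ((a : S ⧸ MulAction.stabilizer S _).out) • _ = q
      rw [hat, mul_smul, MulAction.mem_stabilizer_iff.1 ht]
      exact ha
  have htot := prod_transCocycle_eq_one ψ hres hB x
  rw [← (Equiv.ofBijective Φ hbij).prod_comp, Fintype.prod_sigma] at htot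
  let q₁ : G ⧸ H := ((1 : G) : G ⧸ H)
  have hq₁ : ∀ a : S, a • q₁ = q₁ := fun a => by
    show (((a : G) * 1 : G) : G ⧸ H) = _
    exact (QuotientGroup.eq.2 (by simpa using hSH a.2)).symm
  have hfix₁ : ∀ q : G ⧸ H, (⟦q⟧ : Ω) = ⟦q₁⟧ → q = q₁ := fun q h => by
    obtain ⟨a, ha⟩ := Quotient.exact h
    rw [← ha]; exact hq₁ a
  -- one orbit
  have horbit : ∀ ω : Ω, (∀ a : S, transCocycle ψ (x * (a : G)) ω.out *
      transCocycle ψ (a : G) ω.out = transCocycle ψ x ((a : S) • ω.out)) := fun ω a => by
    rw [transCocycle_mul, mul_assoc, hB, mul_one]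
    rfl
  have hother : ∀ ω : Ω, ω ≠ ⟦q₁⟧ →
      ∏ C : S ⧸ MulAction.stabilizer S ω.out, transCocycle ψ x (C.out • ω.out) = 1 := by
    intro ω hω
    have hne : ω.out ≠ q₁ := fun h => hω (by rw [← Quotient.out_eq ω, h])
    have := horb ω.out hne ⟨x, hx⟩
    rw [finprod_eq_prod_of_fintype] at this
    rw [← this]
    refine Finset.prod_congr rfl fun C _ => ?_
    exact (horbit ω C.out).symm
  simp only [Equiv.ofBijective_apply, Φ] at htot
  rw [Finset.prod_eq_single (⟦q₁⟧ : Ω) (fun ω _ hω => hother ω hω)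
    (fun h => absurd (Finset.mem_univ _) h)] at htot
  have hout : (⟦q₁⟧ : Ω).out = q₁ := hfix₁ _ (Quotient.out_eq _)
  have hst : MulAction.stabilizer S (⟦q₁⟧ : Ω).out = ⊤ := by
    rw [eq_top_iff]; intro a _; rw [MulAction.mem_stabilizer_iff, hout]; exact hq₁ a
  haveI : Subsingleton (S ⧸ MulAction.stabilizer S (⟦q₁⟧ : Ω).out) := by
    rw [hst]; exact QuotientGroup.subsingleton_quotient_top
  rw [Fintype.prod_subsingleton _ ((1 : S) : S ⧸ MulAction.stabilizer S (⟦q₁⟧ : Ω).out)] at htot
  rw [show (((1 : S) : S ⧸ MulAction.stabilizer S (⟦q₁⟧ : Ω).out).out • (⟦q₁⟧ : Ω).out) = q₁ by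
    rw [hout]; exact hq₁ _] at htot
  obtain ⟨⟨o, ho⟩, ho'⟩ := QuotientGroup.mk_out_eq_mul H (1 : G)
  rw [one_mul] at ho'
  have ho'' : q₁.out = o := ho'
  rw [transCocycle_fixed ψ (x := x) (hq₁ ⟨x, hx⟩) (mem_of_fixed (hq₁ ⟨x, hx⟩)) rfl] at htot
  have h1 := htot
  have h2 : (⟨q₁.out⁻¹ * x * q₁.out, mem_of_fixed (hq₁ ⟨x, hx⟩)⟩ : H) =
      ⟨o, ho⟩⁻¹ * ⟨x, hSH hx⟩ * ⟨o, ho⟩ := Subtype.ext (by
    show q₁.out⁻¹ * x * q₁.out = o⁻¹ * x * o
    rw [ho''])
  rw [h2, map_mul, map_mul, map_inv, mul_comm, mul_inv_cancel_left] at h1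
  exact h1


namespace LargeData

variable {z : G} {E : Subgroup G}

/-- The squaring map composed with a homomorphism onto an exponent four group dies on `S`. -/
theorem squared_hom_trivial [Finite G] (L : LargeData z E) (hres : Cfsg.pResidual 2 G = ⊤)
    {B : Type*} [CommGroup B] (φ : centralizer ({z} : Set G) →* B) (hB : ∀ b : B, b ^ 4 = 1)
    (S : Subgroup G) (hES : E ≤ S) (hS : IsPGroup 2 S) (hSH : S ≤ centralizer ({z} : Set G))
    (x : G) (hx : x ∈ S) : φ ⟨x, hSH hx⟩ ^ 2 = 1 := by
  let H := centralizer ({z} : Set G)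
  let B₂ : Subgroup B := (powMonoidHom 2 : B →* B).range
  let ψ : H →* B₂ := (powMonoidHom 2 : B →* B).rangeRestrict.comp φ
  have hB₂ : ∀ b : B₂, b * b = 1 := by
    rintro ⟨b, a, rfl⟩
    refine Subtype.ext ?_
    show a ^ 2 * a ^ 2 = 1
    rw [← pow_add]; exact hB a
  have hψ : ∀ h : H, (ψ h : B) = φ h ^ 2 := fun h => rfl
  have key : ψ ⟨x, hSH hx⟩ = 1 := by
    refine eq_one_of_orbitTrivial ψ hres hB₂ S hSH (fun q₀ hne => ?_) x hx
    set g := q₀.out with hg
    set T := MulAction.stabilizer S q₀ with hT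
    let r : S → B₂ := fun a => transCocycle ψ (a : G) q₀
    have hmem : ∀ a : S, a ∈ T → g⁻¹ * (a : G) * g ∈ H := fun a ha => mem_of_fixed ha
    have hr : RightEqui r T := fun t ht a => by
      show transCocycle ψ ((a : G) * t) q₀ = _
      rw [transCocycle_mul]
      congr 1
      rw [show ((t : G) • q₀) = q₀ from ht]
    haveI : (E.subgroupOf S).Normal :=
      ⟨fun e he a => L.conj_mem (hSH a.2) he⟩
    let zS : S := ⟨z, hES L.z_mem⟩
    -- the point is not fixed by `E`
    have hET : ¬ E.subgroupOf S ≤ T := by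
      intro hle
      have hfix : ∀ e ∈ E, e * (g * z * g⁻¹) = (g * z * g⁻¹) * e := by
        intro e he
        have h1 := mem_centralizer_singleton_iff.1
          (hmem ⟨e, hES he⟩ (hle (show (⟨e, hES he⟩ : S) ∈ E.subgroupOf S from he)))
        calc e * (g * z * g⁻¹) = g * ((g⁻¹ * e * g) * z) * g⁻¹ := by group
          _ = g * (z * (g⁻¹ * e * g)) * g⁻¹ := by rw [h1]
          _ = (g * z * g⁻¹) * e := by group
      rcases L.eq_one_or_z_of_centralizes hfix with h | h
      · exact L.z_ne_one (by
          calc z = g⁻¹ * (g * z * g⁻¹) * g := by group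
            _ = 1 := by rw [h]; group)
      · apply hne
        rw [← QuotientGroup.out_eq' q₀, ← hg]
        refine QuotientGroup.eq.2 ?_
        rw [mul_one]
        exact inv_mem (mem_centralizer_singleton_iff.2 (mul_inv_eq_iff_eq_mul.1 h))
    have hrz : zS ∈ T → r zS = 1 := by
      intro hzT
      show transCocycle ψ z q₀ = 1
      rw [transCocycle_fixed ψ (x := z) hzT (hmem zS hzT) rfl]
      refine Subtype.ext ?_
      rw [hψ, ← map_pow, show (⟨g⁻¹ * z * g, hmem zS hzT⟩ : H) ^ 2 = 1 from Subtype.ext (by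
        show (g⁻¹ * z * g) ^ 2 = 1
        rw [sq]
        calc g⁻¹ * z * g * (g⁻¹ * z * g) = g⁻¹ * (z * z) * g := by group
          _ = 1 := by rw [L.zz]; group), map_one]
      rfl
    have hidx : zS ∈ T → (∀ d ∈ E.subgroupOf S, d ∈ T → r d = 1) ∨
        ∀ f ∈ E.subgroupOf S, ∃ e ∈ E.subgroupOf S, e ∉ T ∧ f⁻¹ * e ∉ T := by
      intro hzT
      by_contra hcon
      push Not at hcon
      obtain ⟨⟨d, hdE, hdT, hrd⟩, f, hfE, hf⟩ := hcon
      change (d : G) ∈ E at hdE
      change (f : G) ∈ E at hfE
      have hfT : f ∉ T := fun h => hET fun e he => by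
        by_contra heT
        have := mul_mem h (hf e he heT)
        rw [mul_inv_cancel_left] at this
        exact heT this
      set w := g * z * g⁻¹ with hw
      have hiff : ∀ a : S, a ∈ T ↔ (a : G) * w = w * a := by
        intro a
        constructor
        · intro ha
          have h1 := mem_centralizer_singleton_iff.1 (hmem a ha)
          calc (a : G) * w = g * ((g⁻¹ * a * g) * z) * g⁻¹ := by rw [hw]; group
            _ = g * (z * (g⁻¹ * a * g)) * g⁻¹ := by rw [h1]
            _ = w * a := by rw [hw]; group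
        · intro ha
          refine fixed_of_mem (x := (a : G)) (mem_centralizer_singleton_iff.2 ?_)
          rw [← hg]
          calc g⁻¹ * (a : G) * g * z = g⁻¹ * ((a : G) * w) * g := by rw [hw]; group
            _ = g⁻¹ * (w * a) * g := by rw [ha]
            _ = z * (g⁻¹ * a * g) := by rw [hw]; group
      have hdd : (d : G) * d = z := by
        refine (L.sq_cases hdE).resolve_left fun h => hrd ?_
        show transCocycle ψ (d : G) q₀ = 1
        rw [transCocycle_fixed ψ (x := (d : G)) hdT (hmem d hdT) rfl]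
        refine Subtype.ext ?_
        rw [hψ, ← map_pow, show (⟨g⁻¹ * d * g, hmem d hdT⟩ : H) ^ 2 = 1 from Subtype.ext (by
          show (g⁻¹ * (d : G) * g) ^ 2 = 1
          rw [sq]
          calc g⁻¹ * (d : G) * g * (g⁻¹ * d * g) = g⁻¹ * ((d : G) * d) * g := by group
            _ = 1 := by rw [h]; group), map_one]
        rfl
      -- `E ∩ T` is abelian
      have hab : ∀ a ∈ E.subgroupOf S, a ∈ T → ∀ b ∈ E.subgroupOf S, b ∈ T →
          (a : G) * b = b * a := by
        intro a haE haT b hbE hbT
        change (a : G) ∈ E at haE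
        change (b : G) ∈ E at hbE
        rcases L.comm_cases haE hbE with h | h
        · exact commutatorElement_eq_one_iff_mul_comm.1 h
        · exfalso
          apply hrd
          show transCocycle ψ (d : G) q₀ = 1
          rw [transCocycle_fixed ψ (x := (d : G)) hdT (hmem d hdT) rfl]
          refine Subtype.ext ?_
          rw [hψ, ← map_pow,
            show (⟨g⁻¹ * d * g, hmem d hdT⟩ : H) ^ 2 =
              ⁅(⟨g⁻¹ * a * g, hmem a haT⟩ : H), ⟨g⁻¹ * b * g, hmem b hbT⟩⁆ from Subtype.ext (by
              show (g⁻¹ * (d : G) * g) ^ 2 = ⁅g⁻¹ * (a : G) * g, g⁻¹ * (b : G) * g⁆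
              rw [sq]
              calc g⁻¹ * (d : G) * g * (g⁻¹ * d * g) = g⁻¹ * ((d : G) * d) * g := by group
                _ = g⁻¹ * ⁅(a : G), (b : G)⁆ * g := by rw [hdd, h]
                _ = _ := by simp only [commutatorElement_def]; group),
            map_commutatorElement, commutatorElement_eq_one_iff_mul_comm.2 (mul_comm _ _)]
          rfl
      have hfdiv : ∀ e ∈ E.subgroupOf S, e ∉ T → f⁻¹ * e ∈ T := hf
      -- a commutator
      have hwH : w ∈ H := by
        refine mem_centralizer_singleton_iff.2 ?_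
        exact ((hiff zS).1 hzT).symm
      have hww : w * w = 1 := by
        rw [hw]
        calc g * z * g⁻¹ * (g * z * g⁻¹) = g * (z * z) * g⁻¹ := by group
          _ = 1 := by rw [L.zz]; group
      have hwinv : w⁻¹ = w := inv_eq_of_mul_eq_one_right hww
      let f' : S := ⟨w * f * w⁻¹, hES (L.conj_mem hwH hfE)⟩
      have hf'T : f' ∉ T := fun h => hfT ((hiff f).2 (by
        have h1 := (hiff f').1 h
        change w * f * w⁻¹ * w = w * (w * f * w⁻¹) at h1
        calc (f : G) * w = w⁻¹ * (w * f * w⁻¹ * w) * w := by group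
          _ = w⁻¹ * (w * (w * f * w⁻¹)) * w := by rw [h1]
          _ = w * f := by group))
      have hcT : f' * f⁻¹ ∈ T := by
        have h1 : f⁻¹ * f' ∈ T := hfdiv f' (L.conj_mem hwH hfE) hf'T
        rcases L.conj_cases (inv_mem hfE) (L.conj_mem hwH hfE) with h | h
        · rwa [show f' * f⁻¹ = f⁻¹ * f' from Subtype.ext h.symm]
        · rw [show f' * f⁻¹ = zS * (f⁻¹ * f') from Subtype.ext (by
            show w * (f : G) * w⁻¹ * (f : G)⁻¹ = z * ((f : G)⁻¹ * (w * (f : G) * w⁻¹))
            rw [inv_inv] at h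
            calc w * (f : G) * w⁻¹ * (f : G)⁻¹
                = (f : G) * ((f : G)⁻¹ * (w * f * w⁻¹) * f) * ((f : G)⁻¹ * (f : G)⁻¹) := by group
              _ = (f : G) * (z * (w * f * w⁻¹)) * ((f : G)⁻¹ * (f : G)⁻¹) := by rw [h]
              _ = ((f : G) * z) * ((w * f * w⁻¹) * ((f : G) * f)⁻¹) := by group
              _ = (z * f) * (((f : G) * f)⁻¹ * (w * f * w⁻¹)) := by
                rw [L.commute_z hfE]
                congr 1
                rcases L.sq_cases hfE with h2 | h2 <;> rw [h2]
                · group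
                · rw [inv_eq_of_mul_eq_one_right L.zz]
                  exact L.commute_z (L.conj_mem hwH hfE)
              _ = z * ((f : G)⁻¹ * (w * f * w⁻¹)) := by group)]
          exact mul_mem hzT h1
      set c : S := f' * f⁻¹ with hc
      have hcE : c ∈ E.subgroupOf S := mul_mem (L.conj_mem hwH hfE) (inv_mem hfE)
      have hcc : (c : G) * c = 1 := by
        have h1 : (c : G) * w = w * c := (hiff c).1 hcT
        have h2 : w * (c : G) * w⁻¹ = (c : G)⁻¹ := by
          show w * (w * (f : G) * w⁻¹ * (f : G)⁻¹) * w⁻¹ = (w * (f : G) * w⁻¹ * (f : G)⁻¹)⁻¹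
          calc w * (w * (f : G) * w⁻¹ * (f : G)⁻¹) * w⁻¹
              = (w * w) * f * w⁻¹ * (f : G)⁻¹ * w⁻¹ := by group
            _ = _ := by rw [hww]; simp only [mul_inv_rev, inv_inv, hwinv]; group
        rw [← h1, mul_inv_cancel_right] at h2
        exact mul_eq_one_iff_eq_inv.2 h2
      -- `E ∩ T` is cyclic of order four
      have hsmall : ∀ e ∈ E.subgroupOf S, e ∈ T → (e : G) * e = 1 → (e : G) = 1 ∨ (e : G) = z := by
        intro e heE heT hee
        change (e : G) ∈ E at heE
        refine L.eq_one_or_z_of_central heE fun v hv => ?_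
        by_contra hne'
        have hvT : (⟨v, hES hv⟩ : S) ∉ T := fun h => hne' (hab _ hv h _ heE heT)
        have hdv : (d : G) * v ≠ v * d := fun h => by
          have hdc : ∀ u ∈ E, u * (d : G) = d * u := by
            intro u hu
            by_cases huT : (⟨u, hES hu⟩ : S) ∈ T
            · exact hab _ hu huT _ hdE hdT
            · have h4 := hfdiv _ hu huT
              have h5 := hfdiv _ hv hvT
              have h6 := mul_mem (inv_mem h5) h4
              rw [mul_inv_rev, inv_inv, mul_assoc, mul_inv_cancel_left] at h6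
              have h7 := hab _ (mul_mem (inv_mem hv) hu) h6 _ hdE hdT
              simp only [Subgroup.coe_mul, Subgroup.coe_inv] at h7
              calc u * (d : G) = v * (v⁻¹ * u * d) := by group
                _ = v * (d * (v⁻¹ * u)) := by rw [h7]
                _ = (v * d) * (v⁻¹ * u) := by group
                _ = (d * v) * (v⁻¹ * u) := by rw [h]
                _ = d * u := by group
          rcases L.eq_one_or_z_of_central hdE hdc with h2 | h2
          · rw [h2, mul_one] at hdd; exact L.z_ne_one hdd.symm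
          · rw [h2, L.zz] at hdd; exact L.z_ne_one hdd.symm
        -- both `d` and `e` are moved by `v`, so their product is central
        have hde : (d : G) * e = e * d := hab _ hdE hdT _ heE heT
        have hmv : v * ((d : G) * e) = ((d : G) * e) * v := by
          have h2 := (L.conj_cases hv hdE).resolve_left (fun h => hdv h.symm)
          have h3 := (L.conj_cases hv heE).resolve_left hne'
          calc v * ((d : G) * e) = (v * d * v⁻¹) * (v * e * v⁻¹) * v := by group
            _ = (z * d) * (z * e) * v := by rw [h2, h3]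
            _ = ((d : G) * z) * (z * e) * v := by rw [L.commute_z hdE]
            _ = (d : G) * ((z * z) * e) * v := by group
            _ = (d : G) * e * v := by rw [L.zz, one_mul]
        rcases L.eq_one_or_z_of_central (mul_mem hdE heE) (fun u hu => by
          by_cases huT : (⟨u, hES hu⟩ : S) ∈ T
          · exact hab _ hu huT (d * e) (mul_mem hdE heE) (mul_mem hdT heT)
          · have h4 := hfdiv _ hu huT
            have h5 := hfdiv _ hv hvT
            have h6 := mul_mem (inv_mem h5) h4
            rw [mul_inv_rev, inv_inv, mul_assoc, mul_inv_cancel_left] at h6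
            have h7 := hab _ (mul_mem (inv_mem hv) hu) h6 (d * e) (mul_mem hdE heE)
              (mul_mem hdT heT)
            simp only [Subgroup.coe_mul, Subgroup.coe_inv] at h7
            calc u * ((d : G) * e) = v * (v⁻¹ * u * (d * e)) := by group
              _ = v * ((d * e) * (v⁻¹ * u)) := by rw [h7]
              _ = (v * ((d : G) * e)) * (v⁻¹ * u) := by group
              _ = (((d : G) * e) * v) * (v⁻¹ * u) := by rw [hmv]
              _ = (d : G) * e * u := by group) with h2 | h2
        all_goals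
          apply L.z_ne_one
          have h8 : ((d : G) * e) * ((d : G) * e) = z := by
            calc ((d : G) * e) * ((d : G) * e) = d * (e * d) * e := by group
              _ = d * (d * e) * e := by rw [hde]
              _ = (d * d) * (e * e) := by group
              _ = z := by rw [hdd, hee, mul_one]
          rw [← h8, h2]
          first
            | exact one_mul 1
            | exact L.zz
      rcases hsmall c hcE hcT hcc with hc1 | hc1
      · apply hfT
        rw [hiff]
        change w * (f : G) * w⁻¹ * (f : G)⁻¹ = 1 at hc1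
        have h1 := mul_inv_eq_iff_eq_mul.1 (mul_inv_eq_one.1 hc1)
        exact h1.symm
      · change w * (f : G) * w⁻¹ * (f : G)⁻¹ = z at hc1
        have h1 : w * (f : G) * w⁻¹ = z * f := by rw [← hc1]; group
        have hdf : (d : G) * f * (d : G)⁻¹ = z * f := by
          refine (L.conj_cases hdE hfE).resolve_left fun h => ?_
          rcases L.eq_one_or_z_of_central hdE (fun u hu => by
            by_cases huT : (⟨u, hES hu⟩ : S) ∈ T
            · exact hab _ hu huT _ hdE hdT
            · have h4 := hfdiv _ hu huT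
              have h7 := hab _ (mul_mem (inv_mem hfE) hu) h4 _ hdE hdT
              simp only [Subgroup.coe_mul, Subgroup.coe_inv] at h7
              calc u * (d : G) = (f : G) * ((f : G)⁻¹ * u * d) := by group
                _ = (f : G) * (d * ((f : G)⁻¹ * u)) := by rw [h7]
                _ = ((f : G) * d) * ((f : G)⁻¹ * u) := by group
                _ = (d * f) * ((f : G)⁻¹ * u) := by rw [h]
                _ = d * u := by group) with h2 | h2
          · rw [h2, mul_one] at hdd; exact L.z_ne_one hdd.symm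
          · rw [h2, L.zz] at hdd; exact L.z_ne_one hdd.symm
        have hfw : (w * d) * (f : G) * (w * d)⁻¹ = f := by
          calc (w * d) * (f : G) * (w * d)⁻¹ = w * ((d : G) * f * (d : G)⁻¹) * w⁻¹ := by group
            _ = w * (z * f) * w⁻¹ := by rw [hdf]
            _ = (w * z) * (f * w⁻¹) := by group
            _ = (z * w) * (f * w⁻¹) := by rw [mem_centralizer_singleton_iff.1 hwH]
            _ = z * (w * f * w⁻¹) := by group
            _ = (z * z) * f := by rw [h1, mul_assoc]
            _ = f := by rw [L.zz, one_mul]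
        have hall : ∀ u ∈ E, u * (w * d) = (w * d) * u := by
          have hTc : ∀ u ∈ E.subgroupOf S, u ∈ T → (u : G) * (w * d) = (w * d) * u := by
            intro u hu huT
            rw [← mul_assoc, (hiff u).1 huT, mul_assoc, hab u hu huT d hdE hdT, ← mul_assoc]
          intro u hu
          by_cases huT : (⟨u, hES hu⟩ : S) ∈ T
          · exact hTc _ hu huT
          · have h7 := hTc _ (mul_mem (inv_mem hfE) hu) (hfdiv _ hu huT)
            simp only [Subgroup.coe_mul, Subgroup.coe_inv] at h7
            calc u * (w * d) = (f : G) * ((f : G)⁻¹ * u * (w * d)) := by group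
              _ = (f : G) * ((w * d) * ((f : G)⁻¹ * u)) := by rw [h7]
              _ = ((f : G) * (w * d)) * ((f : G)⁻¹ * u) := by group
              _ = ((w * d) * f) * ((f : G)⁻¹ * u) := by rw [← mul_inv_eq_iff_eq_mul.1 hfw]
              _ = (w * d) * u := by group
        have hwd : (w * d) * (w * d) = 1 := by
          rcases L.eq_one_or_z_of_centralizes hall with h2 | h2 <;> rw [h2]
          · exact one_mul 1
          · exact L.zz
        apply L.z_ne_one
        calc z = (w * w) * ((d : G) * d) := by rw [hww, hdd, one_mul]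
          _ = w * (w * d) * d := by group
          _ = w * ((d : G) * w) * d := by rw [(hiff d).1 hdT]
          _ = 1 := by rw [← mul_assoc, mul_assoc]; exact hwd
    exact orbitTrivial_main (z := zS) (r := r) (T := T) (E := E.subgroupOf S) hB₂ hS
      (fun a => Subtype.ext (mem_centralizer_singleton_iff.1 (hSH a.2))) (Subtype.ext L.zz)
      (fun e he => (L.sq_cases he).imp (fun h => Subtype.ext h) (fun h => Subtype.ext h))
      (fun e he d hd => by
        change (e : G) ∈ E at he
        change (d : G) ∈ E at hd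
        rcases L.conj_cases (inv_mem he) hd with h | h
        · left; refine Subtype.ext ?_
          show (e : G)⁻¹ * d * e = d
          rw [h]; group
        · right; refine Subtype.ext ?_
          show (e : G)⁻¹ * d * e = z * d
          rwa [inv_inv] at h)
      hr hrz hET hidx
  have h1 := congrArg Subtype.val key
  rw [hψ] at h1
  exact h1

end LargeData

end Cfsg.Agent.H9

namespace Cfsg.Agent.H9.LargeData

open Subgroup

variable {G : Type*} [Group G] {z : G} {E : Subgroup G}

/-- Elements of `2`-power order of the abelianization of `C_G(z)` square to one. -/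
theorem abelianization_sq [Finite G] (L : LargeData z E) (hres : Cfsg.pResidual 2 G = ⊤)
    (q : Abelianization ↥(centralizer ({z} : Set G))) (hq : ∃ k : ℕ, orderOf q = 2 ^ k) :
    q ^ 2 = 1 := by
  haveI : Fact (Nat.Prime 2) := ⟨Nat.prime_two⟩
  let H := centralizer ({z} : Set G)
  let A := Abelianization H
  haveI : Finite A := Quotient.finite _
  obtain ⟨a, m, hm, hcard⟩ := Nat.exists_eq_two_pow_mul_odd (Nat.card_pos (α := A)).ne'
  obtain ⟨M, hM1, hM0⟩ := Nat.chineseRemainder (n := 2 ^ a) (m := m)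
    (Nat.Coprime.pow_left a (Nat.coprime_two_left.2 hm)) 1 0
  let P₁ : Subgroup A := (powMonoidHom M : A →* A).range
  have hP₁ : IsPGroup 2 P₁ := by
    rintro ⟨_, b, rfl⟩
    refine ⟨a, Subtype.ext ?_⟩
    show (b ^ M) ^ 2 ^ a = 1
    rw [← pow_mul]
    obtain ⟨c, rfl⟩ := Nat.modEq_zero_iff_dvd.1 hM0
    rw [show m * c * 2 ^ a = (2 ^ a * m) * c by ring, pow_mul, ← hcard, pow_card_eq_one',
      one_pow]
  let φ₁ : H →* P₁ := (powMonoidHom M : A →* A).rangeRestrict.comp Abelianization.of
  have hφ₁ : Function.Surjective φ₁ :=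
    (powMonoidHom M : A →* A).rangeRestrict_surjective.comp QuotientGroup.mk_surjective
  obtain ⟨S₀, hS₀⟩ := IsPGroup.exists_le_sylow (L.isPGroup_E.comap_subtype (K := H))
  have hmap : (S₀ : Subgroup H).map φ₁ = ⊤ := by
    rw [← Subgroup.index_eq_one]
    obtain ⟨k, hk⟩ := hP₁.exists_card_eq
    have h1 : ((S₀ : Subgroup H).map φ₁).index ∣ 2 ^ k :=
      hk ▸ Subgroup.index_dvd_card _
    obtain ⟨j, -, hj⟩ := (Nat.dvd_prime_pow Nat.prime_two).1 h1
    have h2 := Subgroup.index_map_dvd (H := (S₀ : Subgroup H)) hφ₁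
    rcases j with _ | j
    · rw [hj, pow_zero]
    · exact absurd ((dvd_pow_self 2 (Nat.succ_ne_zero j)).trans (hj ▸ h2)) S₀.not_dvd_index
  let B := P₁ ⧸ (powMonoidHom 4 : P₁ →* P₁).range
  let φ : H →* B := (QuotientGroup.mk' _).comp φ₁
  have hB : ∀ b : B, b ^ 4 = 1 := by
    intro b
    obtain ⟨p, rfl⟩ := QuotientGroup.mk_surjective b
    rw [← QuotientGroup.mk_pow, QuotientGroup.eq_one_iff]
    exact ⟨p, rfl⟩
  have hES : E ≤ (S₀ : Subgroup H).map H.subtype := fun e he =>
    ⟨⟨e, L.le_H he⟩, hS₀ (show (⟨e, L.le_H he⟩ : H) ∈ E.subgroupOf H from he), rfl⟩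
  have hkey : ∀ p : P₁, ∃ w : P₁, p ^ 2 = w ^ 4 := by
    intro p
    obtain ⟨s, hs, rfl⟩ : p ∈ (S₀ : Subgroup H).map φ₁ := hmap ▸ mem_top p
    have h1 := L.squared_hom_trivial hres φ hB _ hES (S₀.2.map _) (map_subtype_le _) (s : G)
      ⟨s, hs, rfl⟩
    have h2 : ((φ₁ s ^ 2 : P₁) : B) = 1 := h1
    rw [QuotientGroup.eq_one_iff] at h2
    obtain ⟨w, hw⟩ := h2
    exact ⟨w, hw.symm⟩
  let Q : Subgroup P₁ := (powMonoidHom 2 : P₁ →* P₁).range
  have hsurj : Function.Surjective (powMonoidHom 2 : Q →* Q) := by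
    rintro ⟨_, p, rfl⟩
    obtain ⟨w, hw⟩ := hkey p
    refine ⟨⟨w ^ 2, w, rfl⟩, Subtype.ext ?_⟩
    show (w ^ 2) ^ 2 = p ^ 2
    rw [← pow_mul, hw]
  have hQ : Subsingleton Q := by
    by_contra hne
    rw [not_subsingleton_iff_nontrivial] at hne
    obtain ⟨k, hk⟩ := (hP₁.to_subgroup Q).exists_card_eq
    have hk0 : k ≠ 0 := fun h => by
      rw [h, pow_zero, Nat.card_eq_one_iff_unique] at hk
      exact not_subsingleton Q hk.1
    obtain ⟨u, hu⟩ := exists_prime_orderOf_dvd_card' (G := Q) 2 (hk ▸ dvd_pow_self 2 hk0)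
    have h1 : u ^ 2 = 1 := hu ▸ pow_orderOf_eq_one u
    have h2 : u = 1 := (Finite.injective_iff_surjective.2 hsurj) (by simpa using h1)
    rw [h2, orderOf_one] at hu
    omega
  -- `q` lies in `P₁`
  obtain ⟨k, hk⟩ := hq
  have hka : 2 ^ k ∣ 2 ^ a := by
    have h1 : 2 ^ k ∣ 2 ^ a * m := hcard ▸ hk ▸ orderOf_dvd_natCard q
    exact (Nat.Coprime.pow_left k (Nat.coprime_two_left.2 hm)).dvd_of_dvd_mul_right h1
  have hqM : q ^ M = q := by
    conv_rhs => rw [← pow_one q]
    rw [pow_eq_pow_iff_modEq, hk]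
    exact hM1.of_dvd hka
  have h3 : ((⟨q, q, hqM⟩ : P₁) ^ 2) = 1 :=
    congrArg Subtype.val (Subsingleton.elim (⟨_, ⟨q, q, hqM⟩, rfl⟩ : Q) 1)
  exact congrArg Subtype.val h3

end Cfsg.Agent.H9.LargeData
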