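import Cfsg.Agent.H9.LargeExtraElementary

/-!
Under `O^2(G) = G`, if `C_G(z)` has a subgroup of index two and `O_2(C_G(z))` is extraspecial of
width at least three containing its centralizer, then `z` is fused to another element of it.
-/

set_option autoImplicit false

namespace Cfsg.Agent.H9

open Subgroup
open scoped commutatorElement Classical

namespace LargeData

variable {G : Type*} [Group G] {z : G} {E : Subgroup G}

/-- An involution of `C_G(z)` centralizing a hyperplane of `E` lies in `E`. -/
theorem mem_of_hyperplane [Finite G] (L : LargeData z E) {w f : G} (hwH : w ∈ centralizer ({z} : Set G))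
    (hww : w * w = 1) (hfE : f ∈ E) (hfw : f * w ≠ w * f)
    (hhyp : ∀ e ∈ E, e * w = w * e ∨ f⁻¹ * e * w = w * (f⁻¹ * e)) : w ∈ E := by
  haveI : Fact (Nat.Prime 2) := ⟨Nat.prime_two⟩
  have hwz : w * z = z * w := mem_centralizer_singleton_iff.1 hwH
  have hwinv : w⁻¹ = w := inv_eq_of_mul_eq_one_right hww
  have hfill : ∀ x : G, (∀ d ∈ E, d * w = w * d → d * x = x * d) → f * x = x * f →
      ∀ e ∈ E, e * x = x * e := by
    intro x hx hxf e he
    rcases hhyp e he with h | h
    · exact hx e he h
    · calc e * x = f * (f⁻¹ * e * x) := by group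
        _ = f * (x * (f⁻¹ * e)) := by rw [hx _ (mul_mem (inv_mem hfE) he) h]
        _ = (f * x) * (f⁻¹ * e) := by group
        _ = (x * f) * (f⁻¹ * e) := by rw [hxf]
        _ = x * e := by group
  set c := w * f * w⁻¹ * f⁻¹ with hc
  have hcE : c ∈ E := mul_mem (L.conj_mem hwH hfE) (inv_mem hfE)
  have hwf : w * f * w⁻¹ = c * f := by rw [hc]; group
  have hcD : ∀ d ∈ E, d * w = w * d → d * c = c * d := by
    intro d hd hdw
    have h1 : w * d * w⁻¹ = d := mul_inv_eq_iff_eq_mul.2 hdw.symm
    have h2 : w * (f * d * f⁻¹) * w⁻¹ = f * d * f⁻¹ := by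
      rcases L.conj_cases hfE hd with h | h
      · rw [mul_inv_eq_iff_eq_mul.2 h]; exact h1
      · rw [h]
        calc w * (z * d) * w⁻¹ = (w * z) * w⁻¹ * (w * d * w⁻¹) := by group
          _ = z * d := by rw [hwz, h1]; group
    have h3 : c * (f * d * f⁻¹) * c⁻¹ = f * d * f⁻¹ := by
      calc c * (f * d * f⁻¹) * c⁻¹ = (c * f) * d * (c * f)⁻¹ := by group
        _ = (w * f * w⁻¹) * d * (w * f * w⁻¹)⁻¹ := by rw [hwf]
        _ = w * (f * (w⁻¹ * (d * w)) * f⁻¹) * w⁻¹ := by group
        _ = w * (f * (w⁻¹ * (w * d)) * f⁻¹) * w⁻¹ := by rw [hdw]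
        _ = w * (f * d * f⁻¹) * w⁻¹ := by group
        _ = f * d * f⁻¹ := h2
    rcases L.conj_cases hfE hd with h | h
    · rw [mul_inv_eq_iff_eq_mul.2 h] at h3
      exact (mul_inv_eq_iff_eq_mul.1 h3).symm
    · rw [h] at h3
      have h4 := mul_inv_eq_iff_eq_mul.1 h3
      have hcz : c * z = z * c := L.commute_z hcE
      have h5 : z * (c * d) = z * (d * c) := by
        calc z * (c * d) = (z * c) * d := by group
          _ = c * (z * d) := by rw [← hcz, mul_assoc]
          _ = z * d * c := h4
          _ = z * (d * c) := by group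
      exact (mul_left_cancel h5).symm
  have hzw : z * w = w * z := hwz.symm
  by_cases hfc : f * c = c * f
  · rcases L.eq_one_or_z_of_central hcE (hfill c hcD hfc) with h | h
    · exact absurd (mul_inv_eq_iff_eq_mul.1 (by rw [hwf, h, one_mul])).symm hfw
    · -- `w` acts as an inner automorphism
      have hmul : ∀ a ∈ E, ∀ b ∈ E, a * b * w = w * (a * b) ↔
          (a * w = w * a ↔ b * w = w * b) := by
        have hnot : ∀ a ∈ E, ¬ a * w = w * a → w * a * w⁻¹ = z * a := by
          intro a ha haw
          have h1 := (hhyp a ha).resolve_left haw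
          calc w * a * w⁻¹ = (w * f * w⁻¹) * (w * (f⁻¹ * a) * w⁻¹) := by group
            _ = (z * f) * (f⁻¹ * a) := by rw [hwf, h, mul_inv_eq_iff_eq_mul.2 h1.symm]
            _ = z * a := by group
        have hyes : ∀ a : G, (a * w = w * a ↔ w * a * w⁻¹ = a) := fun a =>
          ⟨fun h => mul_inv_eq_iff_eq_mul.2 h.symm, fun h => (mul_inv_eq_iff_eq_mul.1 h).symm⟩
        intro a ha b hb
        rw [hyes (a * b), show w * (a * b) * w⁻¹ = (w * a * w⁻¹) * (w * b * w⁻¹) by group]
        by_cases haw : a * w = w * a <;> by_cases hbw : b * w = w * b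
        · rw [(hyes a).1 haw, (hyes b).1 hbw]; simp [haw, hbw]
        · rw [(hyes a).1 haw, hnot b hb hbw]
          simp only [haw, hbw, iff_false, not_true_eq_false]
          intro h1
          exact L.z_mul_ne b (mul_left_cancel h1)
        · rw [hnot a ha haw, (hyes b).1 hbw]
          simp only [haw, hbw, iff_true]
          exact iff_of_false (fun h1 => L.z_mul_ne a (mul_right_cancel h1)) not_false
        · rw [hnot a ha haw, hnot b hb hbw]
          simp only [haw, hbw, iff_self, iff_true]
          calc z * a * (z * b) = z * (a * z) * b := by group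
            _ = z * (z * a) * b := by rw [L.commute_z ha]
            _ = (z * z) * (a * b) := by group
            _ = a * b := by rw [L.zz, one_mul]
      let Z : center E := ⟨⟨z, L.z_mem⟩, Subgroup.mem_center_iff.2 fun e => Subtype.ext (L.commute_z e.2)⟩
      have hZ : Z * Z = 1 := Subtype.ext (Subtype.ext L.zz)
      let φ : E →* center E := MonoidHom.mk' (fun x => if (x : G) * w = w * x then 1 else Z)
        (fun a b => by
          have h1 := hmul a a.2 b b.2
          simp only [Subgroup.coe_mul]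
          by_cases haw : (a : G) * w = w * a <;> by_cases hbw : (b : G) * w = w * b <;>
            simp [haw, hbw, h1, hZ])
      obtain ⟨e, he⟩ := H6.extraspecial_exists_commutator_eq L.hext φ
      have he' : ∀ x : E, ((φ x : E) : G) = ⁅(e : G), (x : G)⁆ := fun x =>
        congrArg Subtype.val (he x)
      have heD : ∀ d ∈ E, d * w = w * d → d * (e : G) = e * d := fun d hd hdw => by
        have h1 := he' ⟨d, hd⟩
        simp only [φ, MonoidHom.mk'_apply, hdw, if_true] at h1
        exact (commutatorElement_eq_one_iff_mul_comm.1 h1.symm).symm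
      have hef : (e : G) * f * (e : G)⁻¹ = z * f := by
        have h1 := he' ⟨f, hfE⟩
        simp only [φ, MonoidHom.mk'_apply, hfw, if_false] at h1
        change z = _ at h1
        rw [h1, commutatorElement_def]; group
      have hall := hfill (w * e) (fun d hd hdw => by
        rw [← mul_assoc, hdw, mul_assoc, heD d hd hdw, ← mul_assoc]) (by
        symm
        rw [← mul_inv_eq_iff_eq_mul]
        calc w * e * f * (w * e)⁻¹ = w * ((e : G) * f * (e : G)⁻¹) * w⁻¹ := by group
          _ = w * (z * f) * w⁻¹ := by rw [hef]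
          _ = (w * z) * f * w⁻¹ := by group
          _ = (z * w) * f * w⁻¹ := by rw [hwz]
          _ = z * (w * f * w⁻¹) := by group
          _ = (z * z) * f := by rw [hwf, h, mul_assoc]
          _ = f := by rw [L.zz, one_mul])
      rcases L.eq_one_or_z_of_centralizes hall with h1 | h1
      · rw [eq_inv_of_mul_eq_one_left h1]; exact inv_mem e.2
      · rw [show w = z * (e : G)⁻¹ by rw [← h1]; group]
        exact mul_mem L.z_mem (inv_mem e.2)
  · exfalso
    have hfcz : f * c * f⁻¹ = z * c := (L.conj_cases hfE hcE).resolve_left hfc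
    -- `c` commutes with `w`
    have hcw : c * w = w * c := by
      rcases hhyp c hcE with h | h
      · exact h
      · exfalso
        have h1 := hcD _ (mul_mem (inv_mem hfE) hcE) h
        apply hfc
        calc f * c = f * (c * (f⁻¹ * c)) * c⁻¹ * f := by group
          _ = f * ((f⁻¹ * c) * c) * c⁻¹ * f := by rw [h1]
          _ = c * f := by group
    have hcc : c * c = 1 := by
      have h2 : w * c * w⁻¹ = c⁻¹ := by
        calc w * c * w⁻¹ = (w * w) * f * w⁻¹ * f⁻¹ * w⁻¹ := by rw [hc]; group
          _ = c⁻¹ := by rw [hww, hc]; simp only [mul_inv_rev, inv_inv, hwinv]; group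
      rw [← hcw, mul_inv_cancel_right] at h2
      exact mul_eq_one_iff_eq_inv.2 h2
    have hff : w * (f * f) * w⁻¹ = f * f := by
      rcases L.sq_cases hfE with h1 | h1 <;> rw [h1]
      · group
      · exact mul_inv_eq_iff_eq_mul.2 hwz
    have h1 : c * f * (c * f) = z * (f * f) := by
      calc c * f * (c * f) = c * (f * c * f⁻¹) * (f * f) := by group
        _ = c * (z * c) * (f * f) := by rw [hfcz]
        _ = (c * z) * c * (f * f) := by group
        _ = z * (c * c) * (f * f) := by rw [L.commute_z hcE]; group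
        _ = z * (f * f) := by rw [hcc, mul_one]
    refine L.z_mul_ne (f * f) ?_
    rw [← h1, ← hwf]
    exact Eq.trans (by group) hff

/-- An abelian subgroup of `E` of index at most four forces width at most two. -/
theorem card_le_of_four_cosets [Finite G] (L : LargeData z E) {D : Subgroup G} (hDE : D ≤ E)
    (hDc : ∀ a ∈ D, ∀ b ∈ D, a * b = b * a) {f f' : G} (hf : f ∈ E) (hf' : f' ∈ E)
    (hgen : ∀ e ∈ E, e ∈ D ∨ f⁻¹ * e ∈ D ∨ f'⁻¹ * e ∈ D ∨ (f' * f)⁻¹ * e ∈ D) :
    Nat.card E ≤ 32 := by
  haveI : Fintype D := Fintype.ofFinite _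
  haveI : Fintype E := Fintype.ofFinite _
  let s : G → D → Bool := fun x d => decide (x * (d : G) = d * x)
  have hs : ∀ x ∈ E, ∀ a b : D, s x a = s x b → x * ((a : G)⁻¹ * b) = (a : G)⁻¹ * b * x := by
    intro x hx a b hab
    have hab' : (x * (a : G) = a * x) ↔ (x * (b : G) = b * x) := by simpa [s] using hab
    rw [← mul_inv_eq_iff_eq_mul,
      show x * ((a : G)⁻¹ * b) * x⁻¹ = (x * a * x⁻¹)⁻¹ * (x * b * x⁻¹) by group]
    by_cases h : x * (a : G) = a * x
    · rw [mul_inv_eq_iff_eq_mul.2 h, mul_inv_eq_iff_eq_mul.2 (hab'.1 h)]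
    · rw [(L.conj_cases hx (hDE a.2)).resolve_left h,
        (L.conj_cases hx (hDE b.2)).resolve_left (fun h' => h (hab'.2 h'))]
      group
  have h8 : Fintype.card D ≤ 8 := by
    have h1 := Finset.card_le_mul_card_image (s := (Finset.univ : Finset D))
      (f := fun d => (s f d, s f' d)) 2 (fun v _ => by
        by_contra hlt
        push Not at hlt
        obtain ⟨a, b, c, ha, hb, hc, hab, hac, hbc⟩ := Finset.two_lt_card_iff.1 hlt
        simp only [Finset.mem_filter, Finset.mem_univ, true_and] at ha hb hc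
        have key : ∀ d : D, (s f d, s f' d) = v → (a : G)⁻¹ * d = 1 ∨ (a : G)⁻¹ * d = z := by
          intro d hd
          have e1 := hs f hf a d (congrArg Prod.fst (ha.trans hd.symm))
          have e2 := hs f' hf' a d (congrArg Prod.snd (ha.trans hd.symm))
          have hm : (a : G)⁻¹ * d ∈ D := mul_mem (inv_mem a.2) d.2
          refine L.eq_one_or_z_of_central (hDE hm) fun e he => ?_
          set k := (a : G)⁻¹ * d
          have hc1 : ∀ x : G, x * k = k * x → ∀ y : G, x⁻¹ * y ∈ D → y * k = k * y := by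
            intro x hx y hy
            calc y * k = x * (x⁻¹ * y * k) := by group
              _ = x * (k * (x⁻¹ * y)) := by rw [hDc _ hy k hm]
              _ = (x * k) * (x⁻¹ * y) := by group
              _ = (k * x) * (x⁻¹ * y) := by rw [hx]
              _ = k * y := by group
          rcases hgen e he with h | h | h | h
          · exact hDc e h k hm
          · exact hc1 f e1 e h
          · exact hc1 f' e2 e h
          · refine hc1 (f' * f) ?_ e h
            rw [mul_assoc, e1, ← mul_assoc, e2, mul_assoc]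
        rcases key b hb with h2 | h2
        · exact hab (Subtype.ext (inv_mul_eq_one.1 h2))
        rcases key c hc with h3 | h3
        · exact hac (Subtype.ext (inv_mul_eq_one.1 h3))
        exact hbc (Subtype.ext (mul_left_cancel (h2.trans h3.symm))))
    have h2 := Finset.card_le_univ ((Finset.univ : Finset D).image fun d => (s f d, s f' d))
    rw [Fintype.card_prod, Fintype.card_bool] at h2
    rw [Finset.card_univ] at h1
    omega
  let φ : Fin 4 × D → E := fun p =>
    ![1, (⟨f, hf⟩ : E), ⟨f', hf'⟩, ⟨f', hf'⟩ * ⟨f, hf⟩] p.1 * ⟨p.2, hDE p.2.2⟩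
  have hφ : Function.Surjective φ := by
    intro e
    rcases hgen e e.2 with h | h | h | h
    · exact ⟨(0, ⟨_, h⟩), Subtype.ext (by simp [φ])⟩
    · exact ⟨(1, ⟨_, h⟩), Subtype.ext (by simp [φ])⟩
    · exact ⟨(2, ⟨_, h⟩), Subtype.ext (by simp [φ])⟩
    · exact ⟨(3, ⟨_, h⟩), Subtype.ext (by simp [φ, mul_assoc])⟩
  have h3 := Fintype.card_le_of_surjective φ hφ
  rw [Fintype.card_prod, Fintype.card_fin] at h3
  rw [Nat.card_eq_fintype_card]
  omega

theorem exists_fused [Finite G] (L : LargeData z E) (hres : Cfsg.pResidual 2 G = ⊤)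
    {n : ℕ} (hn : 3 ≤ n) (hcard : Nat.card E = 2 ^ (2 * n + 1)) {K : Subgroup G}
    (hKi : K.relIndex (centralizer ({z} : Set G)) = 2) :
    ∃ g : G, g * z * g⁻¹ ∈ E ∧ g * z * g⁻¹ ≠ z := by
  haveI : Fact (Nat.Prime 2) := ⟨Nat.prime_two⟩
  by_contra hcon
  push Not at hcon
  let H := centralizer ({z} : Set G)
  have hmul : ∀ a b : H, ((a : G) * b ∈ K ↔ ((a : G) ∈ K ↔ (b : G) ∈ K)) := fun a b => by
    have := mul_mem_iff_of_index_two (H := K.subgroupOf H) hKi (a := a) (b := b)
    simpa [mem_subgroupOf] using this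
  let ψ : H →* ℤˣ := MonoidHom.mk' (fun h => if (h : G) ∈ K then 1 else -1) (fun a b => by
    simp only [Subgroup.coe_mul, hmul]
    by_cases ha : (a : G) ∈ K <;> by_cases hb : (b : G) ∈ K <;> simp [ha, hb])
  obtain ⟨S₀, hS₀⟩ := IsPGroup.exists_le_sylow (L.isPGroup_E.comap_subtype (K := H))
  set S := (S₀ : Subgroup H).map H.subtype with hSdef
  have hSH : S ≤ H := map_subtype_le _
  have hES : E ≤ S := fun e he =>
    ⟨⟨e, L.le_H he⟩, hS₀ (show (⟨e, L.le_H he⟩ : H) ∈ E.subgroupOf H from he), rfl⟩
  obtain ⟨x, hxS, hxK⟩ : ∃ x : H, x ∈ (S₀ : Subgroup H) ∧ (x : G) ∉ K := by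
    by_contra hall
    push Not at hall
    have h1 := index_dvd_of_le (show (S₀ : Subgroup H) ≤ K.subgroupOf H from hall)
    have h2 : (K.subgroupOf H).index = 2 := hKi
    rw [h2] at h1
    exact S₀.not_dvd_index h1
  have key := eq_one_of_orbitTrivial ψ hres Int.units_mul_self S hSH (fun q₀ hne => ?_) (x : G)
    ⟨x, hxS, rfl⟩
  · simp [ψ, hxK] at key
  set g := q₀.out with hg
  set T := MulAction.stabilizer S q₀ with hT
  let r : S → ℤˣ := fun a => transCocycle ψ (a : G) q₀
  have hmem : ∀ a : S, a ∈ T → g⁻¹ * (a : G) * g ∈ H := fun a ha => mem_of_fixed ha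
  have hr : RightEqui r T := fun t ht a => by
    show transCocycle ψ ((a : G) * t) q₀ = _
    rw [transCocycle_mul]
    congr 1
    rw [show ((t : G) • q₀) = q₀ from ht]
  haveI : (E.subgroupOf S).Normal := ⟨fun e he a => L.conj_mem (hSH a.2) he⟩
  let zS : S := ⟨z, hES L.z_mem⟩
  set w := g * z * g⁻¹ with hw
  have hiff : ∀ a : S, a ∈ T ↔ (a : G) * w = w * a := by
    intro a
    constructor
    · intro ha
      have h1 := mem_centralizer_singleton_iff.1 (hmem a ha)
      calc (a : G) * w = g * ((g⁻¹ * a * g) * z) * g⁻¹ := by rw [hw]; group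
        _ = g * (z * (g⁻¹ * a * g)) * g⁻¹ := by rw [h1]
        _ = w * a := by rw [hw]; group
    · intro ha
      refine fixed_of_mem (x := (a : G)) (mem_centralizer_singleton_iff.2 ?_)
      rw [← hg]
      calc g⁻¹ * (a : G) * g * z = g⁻¹ * ((a : G) * w) * g := by rw [hw]; group
        _ = g⁻¹ * (w * a) * g := by rw [ha]
        _ = z * (g⁻¹ * a * g) := by rw [hw]; group
  have hwne : w ≠ z := fun h => hne (by
    rw [← QuotientGroup.out_eq' q₀, ← hg]
    refine QuotientGroup.eq.2 ?_
    rw [mul_one]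
    exact inv_mem (mem_centralizer_singleton_iff.2 (mul_inv_eq_iff_eq_mul.1 h)))
  have hwE : w ∉ E := fun h => hwne (hcon g h)
  have hET : ¬ E.subgroupOf S ≤ T := by
    intro hle
    rcases L.eq_one_or_z_of_centralizes (fun e he =>
      (hiff ⟨e, hES he⟩).1 (hle (show (⟨e, hES he⟩ : S) ∈ E.subgroupOf S from he))) with h | h
    · exact hwE (h ▸ one_mem E)
    · exact hwne h
  have hzc : ∀ a : S, a * zS = zS * a := fun a =>
    Subtype.ext (mem_centralizer_singleton_iff.1 (hSH a.2))
  have hsq : ∀ e ∈ E.subgroupOf S, e * e = 1 ∨ e * e = zS := fun e he => by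
    change (e : G) ∈ E at he
    exact (L.sq_cases he).imp (fun h => Subtype.ext h) (fun h => Subtype.ext h)
  have hconj : ∀ e ∈ E.subgroupOf S, ∀ d ∈ E.subgroupOf S,
      e⁻¹ * d * e = d ∨ e⁻¹ * d * e = zS * d := fun e he d hd => by
    change (e : G) ∈ E at he
    change (d : G) ∈ E at hd
    rcases L.conj_cases (inv_mem he) hd with h | h
    · left; refine Subtype.ext ?_
      show (e : G)⁻¹ * d * e = d
      rw [h]; group
    · right; refine Subtype.ext ?_
      show (e : G)⁻¹ * d * e = z * d
      rwa [inv_inv] at h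
  have hww : w * w = 1 := by
    rw [hw]
    calc g * z * g⁻¹ * (g * z * g⁻¹) = g * (z * z) * g⁻¹ := by group
      _ = 1 := by rw [L.zz]; group
  by_cases hrz : zS ∈ T → r zS = 1
  · refine orbitTrivial_main (z := zS) Int.units_mul_self (S₀.2.map _) hzc (Subtype.ext L.zz) hsq
      hconj hr hrz hET (fun hzT => Or.inr fun f hf => ?_)
    by_contra hall
    push Not at hall
    change (f : G) ∈ E at hf
    have hwH : w ∈ H := mem_centralizer_singleton_iff.2 ((hiff zS).1 hzT).symm
    refine hwE (L.mem_of_hyperplane hwH hww hf (fun h => hET fun e he => ?_) fun e he => ?_)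
    · by_contra heT
      have := mul_mem ((hiff f).2 h) (hall e he heT)
      rw [mul_inv_cancel_left] at this
      exact heT this
    · by_cases heT : (⟨e, hES he⟩ : S) ∈ T
      · exact Or.inl ((hiff _).1 heT)
      · exact Or.inr ((hiff _).1 (hall ⟨e, hES he⟩ he heT))
  · push Not at hrz
    obtain ⟨hzT, hrz⟩ := hrz
    refine orbitTrivial_deep (z := zS) Int.units_mul_self (S₀.2.map _) hzc (Subtype.ext L.zz) hsq
      hconj hr hzT hET (fun f hf f' hf' => ?_)
    by_contra hall
    push Not at hall
    change (f : G) ∈ E at hf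
    change (f' : G) ∈ E at hf'
    let D : Subgroup G := E ⊓ T.map S.subtype
    have hDc : ∀ a ∈ D, ∀ b ∈ D, a * b = b * a := by
      rintro _ ⟨haE, ⟨a, haT, rfl⟩⟩ _ ⟨hbE, ⟨b, hbT, rfl⟩⟩
      change (a : G) ∈ E at haE
      change (b : G) ∈ E at hbE
      rcases L.comm_cases haE hbE with h | h
      · exact commutatorElement_eq_one_iff_mul_comm.1 h
      · exfalso
        apply hrz
        show transCocycle ψ z q₀ = 1
        rw [transCocycle_fixed ψ (x := z) hzT (hmem zS hzT) rfl,
          show (⟨g⁻¹ * z * g, hmem zS hzT⟩ : H) =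
              ⁅(⟨g⁻¹ * a * g, hmem a haT⟩ : H), ⟨g⁻¹ * b * g, hmem b hbT⟩⁆ from Subtype.ext (by
            show g⁻¹ * z * g = ⁅g⁻¹ * (a : G) * g, g⁻¹ * (b : G) * g⁆
            rw [← h]; simp only [commutatorElement_def]; group),
          map_commutatorElement, commutatorElement_eq_one_iff_mul_comm.2 (mul_comm _ _)]
    have hD : ∀ e : S, (e : G) ∈ E → e ∈ T → (e : G) ∈ D := fun e he heT =>
      ⟨he, ⟨e, heT, rfl⟩⟩
    have h32 := L.card_le_of_four_cosets (D := D) inf_le_left hDc hf hf' fun e he => by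
      by_contra hnone
      push Not at hnone
      obtain ⟨h1, h2, h3, h4⟩ := hnone
      let e' : S := ⟨e, hES he⟩
      have h5 := hall e' he (fun h => h1 (hD e' he h))
        (fun h => h2 (hD _ (mul_mem (inv_mem hf) he) h))
        (fun h => h3 (hD _ (mul_mem (inv_mem hf') he) h))
      exact h4 (hD _ (mul_mem (inv_mem (mul_mem hf' hf)) he) h5)
    have : 2 ^ 7 ≤ 2 ^ (2 * n + 1) := Nat.pow_le_pow_right two_pos (by omega)
    omega

end LargeData

end Cfsg.Agent.H9
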