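import Cfsg.Agent.H9.LargeExtraBasic

/-!
Under `O^2(G) = G` the extraspecial `2`-core lies in every index two subgroup of `C_G(z)`.
-/

set_option autoImplicit false

namespace Cfsg.Agent.H9

open Subgroup
open scoped commutatorElement Classical

variable {G : Type*} [Group G] {z : G} {E K : Subgroup G}

namespace LargeData

/-- A maximal `2`-subgroup of `C_G(z)` is maximal in `G`, so `C_G(z)` has odd index. -/
theorem odd_index [Finite G] (L : LargeData z E) : Odd (centralizer ({z} : Set G)).index := by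
  haveI : Fact (Nat.Prime 2) := ⟨Nat.prime_two⟩
  obtain ⟨S, hES, hS, hSH, hmax⟩ := exists_maximal_pGroup_le _ E L.isPGroup_E L.le_H
  obtain ⟨P, hP⟩ := hS.exists_le_sylow
  have hPS : (P : Subgroup G) = S := by
    by_contra hne
    obtain ⟨g, hgP, hgS, hgN⟩ := exists_normalizing_not_mem P.2 hP hne
    have hfix : ∀ s ∈ S, s * (g * z * g⁻¹) = (g * z * g⁻¹) * s := by
      intro s hs
      have h1 : g⁻¹ * s * g ∈ S := by
        rw [mem_normalizer_iff] at hgN
        rw [hgN]
        simpa [mul_assoc] using hs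
      have h2 := mem_centralizer_singleton_iff.1 (hSH h1)
      calc s * (g * z * g⁻¹) = g * ((g⁻¹ * s * g) * z) * g⁻¹ := by group
        _ = g * (z * (g⁻¹ * s * g)) * g⁻¹ := by rw [h2]
        _ = (g * z * g⁻¹) * s := by group
    rcases L.eq_one_or_z_of_centralizes (fun e he => hfix e (hES he)) with h | h
    · exact L.z_ne_one (by
        calc z = g⁻¹ * (g * z * g⁻¹) * g := by group
          _ = 1 := by rw [h]; group)
    · have hgH : g ∈ centralizer ({z} : Set G) :=
        mem_centralizer_singleton_iff.2 (mul_inv_eq_iff_eq_mul.1 h)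
      have := hmax (S ⊔ zpowers g) (P.2.to_le (sup_le hP (zpowers_le.2 hgP))) le_sup_left
        (sup_le hSH (zpowers_le.2 hgH))
      exact hgS (this ▸ le_sup_right (a := S) (mem_zpowers g))
  rw [← Nat.not_even_iff_odd, even_iff_two_dvd]
  exact fun h => P.not_dvd_index (h.trans (index_dvd_of_le (hPS ▸ hSH)))

/-- Some involution of `E` avoids a given proper subgroup of index two, for width at least two. -/
theorem exists_involution_not_mem [Finite G] (L : LargeData z E) {n : ℕ} (hn : 2 ≤ n)
    (hcard : Nat.card E = 2 ^ (2 * n + 1)) (hzK : z ∈ K)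
    (hmul : ∀ a ∈ E, ∀ b ∈ E, (a * b ∈ K ↔ (a ∈ K ↔ b ∈ K))) (hnot : ¬ E ≤ K) :
    ∃ u ∈ E, u ∉ K ∧ u * u = 1 := by
  by_contra hcon
  push Not at hcon
  obtain ⟨x, hxE, hxK⟩ := SetLike.not_le_iff_exists.1 hnot
  have hsq : ∀ e ∈ E, e ∉ K → e * e = z := fun e he heK =>
    (L.sq_cases he).resolve_left (hcon e he heK)
  have hkey : ∀ e ∈ E, e ∉ K → ∀ m ∈ E, m ∈ K → e * m * e⁻¹ = m⁻¹ := by
    intro e he heK m hm hmK
    have h1 := hsq _ (mul_mem he hm) (fun h => heK (((hmul e he m hm).1 h).2 hmK))
    rw [eq_inv_iff_mul_eq_one]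
    have h2 : e * m * (e * m) = e * e := h1.trans (hsq e he heK).symm
    calc e * m * e⁻¹ * m = e * m * (e * m) * (m⁻¹ * e⁻¹ * e⁻¹ * m) := by group
      _ = e * e * (m⁻¹ * (e * e)⁻¹ * m) := by rw [h2]; group
      _ = 1 := by
        rw [hsq e he heK]
        have h3 : m * z = z * m := L.commute_z hm
        calc z * (m⁻¹ * z⁻¹ * m) = z * (z * m)⁻¹ * m := by group
          _ = z * (m * z)⁻¹ * m := by rw [h3]
          _ = 1 := by group
  have hM : ∀ a ∈ E ⊓ K, ∀ b ∈ E ⊓ K, a * b = b * a := by
    rintro a ⟨haE, haK⟩ b ⟨hbE, hbK⟩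
    have h1 := hkey x hxE hxK b hbE hbK
    have h2 := hkey (x * a) (mul_mem hxE haE)
      (fun h => hxK (((hmul x hxE a haE).1 h).2 haK)) b hbE hbK
    rw [← h1] at h2
    calc a * b = x⁻¹ * (x * a * b * (x * a)⁻¹) * x * a := by group
      _ = b * a := by rw [h2]; group
  have h4 := L.not_comm_of_card_gt inf_le_left hM hxE fun e he => by
    by_cases heK : e ∈ K
    · exact Or.inl ⟨he, heK⟩
    · refine Or.inr (mem_inf.2 ⟨mul_mem (inv_mem hxE) he, ?_⟩)
      show x⁻¹ * e ∈ K
      rw [hmul _ (inv_mem hxE) _ he, inv_mem_iff]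
      exact iff_of_false hxK heK
  rw [hcard] at h4
  have : 2 ^ 5 ≤ 2 ^ (2 * n + 1) := Nat.pow_le_pow_right two_pos (by omega)
  omega

theorem le_of_index_two [Finite G] (L : LargeData z E) (hres : Cfsg.pResidual 2 G = ⊤)
    {n : ℕ} (hn : 2 ≤ n) (hcard : Nat.card E = 2 ^ (2 * n + 1))
    (hKH : K ≤ centralizer ({z} : Set G))
    (hKi : K.relIndex (centralizer ({z} : Set G)) = 2) : E ≤ K := by
  haveI : Fact (Nat.Prime 2) := ⟨Nat.prime_two⟩
  by_contra hnot
  set H := centralizer ({z} : Set G) with hH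
  have hmul : ∀ a ∈ H, ∀ b ∈ H, (a * b ∈ K ↔ (a ∈ K ↔ b ∈ K)) := fun a ha b hb => by
    have := mul_mem_iff_of_index_two (H := K.subgroupOf H) hKi (a := ⟨a, ha⟩) (b := ⟨b, hb⟩)
    simpa [mem_subgroupOf] using this
  have hcommK : ∀ a ∈ H, ∀ b ∈ H, ⁅a, b⁆ ∈ K := fun a ha b hb => by
    rw [commutatorElement_def, hmul _ (mul_mem (mul_mem ha hb) (inv_mem ha)) _ (inv_mem hb),
      hmul _ (mul_mem ha hb) _ (inv_mem ha), hmul _ ha _ hb, inv_mem_iff, inv_mem_iff]
    tauto
  have hconjK : ∀ h ∈ H, ∀ a ∈ H, (h * a * h⁻¹ ∈ K ↔ a ∈ K) := fun h hh a ha => by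
    rw [hmul _ (mul_mem hh ha) _ (inv_mem hh), hmul _ hh _ ha, inv_mem_iff]
    tauto
  have hEH := L.le_H
  -- the centre of `E` is in `K`
  have hzK : z ∈ K := by
    by_contra hzK
    obtain ⟨x, hx⟩ : ∃ x : G, x ∈ E := ⟨z, L.z_mem⟩
    have hc : ∀ a ∈ E, ∀ b ∈ E, a * b = b * a := fun a ha b hb => by
      rcases L.comm_cases ha hb with h | h
      · exact commutatorElement_eq_one_iff_mul_comm.1 h
      · exact absurd (h ▸ hcommK a (hEH ha) b (hEH hb)) hzK
    have h1 := L.not_comm_of_card_gt le_rfl hc L.z_mem fun e he => Or.inl he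
    have : 2 ^ 5 ≤ 2 ^ (2 * n + 1) := Nat.pow_le_pow_right two_pos (by omega)
    omega
  obtain ⟨u, huE, huK, huu⟩ := L.exists_involution_not_mem hn hcard hzK
    (fun a ha b hb => hmul a (hEH ha) b (hEH hb)) hnot
  have huz : u * z = z * u := L.commute_z huE
  have hu_ne_z : u ≠ z := fun h => huK (h ▸ hzK)
  -- a partner of `u`
  obtain ⟨f, hfE, hfu⟩ : ∃ f ∈ E, f * u * f⁻¹ = z * u := by
    by_contra hcon
    push Not at hcon
    rcases L.eq_one_or_z_of_central huE (fun e he =>
      (L.conj_cases he huE).resolve_right (hcon e he)) with h | h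
    · exact huK (h ▸ one_mem K)
    · exact hu_ne_z h
  have hufu : u * f * u⁻¹ = z * f := by
    refine (L.conj_cases huE hfE).resolve_left fun h => L.z_mul_ne u ?_
    rw [← hfu, ← h, mul_inv_cancel_right]
  set CE := E ⊓ centralizer ({u} : Set G) with hCE
  have huC : u ∈ CE := ⟨huE, mem_centralizer_singleton_iff.2 rfl⟩
  have hzC : z ∈ CE := ⟨L.z_mem, mem_centralizer_singleton_iff.2 huz.symm⟩
  have hsplit : ∀ e ∈ E, e ∈ CE ∨ f⁻¹ * e ∈ CE := by
    intro e he
    rcases L.conj_cases he huE with h | h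
    · exact Or.inl ⟨he, mem_centralizer_singleton_iff.2 h⟩
    · refine Or.inr (mem_inf.2 ⟨mul_mem (inv_mem hfE) he, mem_centralizer_singleton_iff.2 ?_⟩)
      rw [← mul_inv_eq_iff_eq_mul]
      calc f⁻¹ * e * u * (f⁻¹ * e)⁻¹ = f⁻¹ * (e * u * e⁻¹) * f := by group
        _ = f⁻¹ * (f * u * f⁻¹) * f := by rw [h, hfu]
        _ = u := by group
  have hfill : ∀ c : G, (∀ e ∈ CE, e * c = c * e) → f * c = c * f → ∀ e ∈ E, e * c = c * e := by
    intro c hc hcf e he
    rcases hsplit e he with he' | he'
    · exact hc e he'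
    · calc e * c = f * (f⁻¹ * e * c) := by group
        _ = f * (c * (f⁻¹ * e)) := by rw [hc _ he']
        _ = (f * c) * (f⁻¹ * e) := by group
        _ = (c * f) * (f⁻¹ * e) := by rw [hcf]
        _ = c * e := by group
  -- a maximal `2`-subgroup of `C_H(u)`
  have hCE2 : IsPGroup 2 CE := L.isPGroup_E.to_le inf_le_left
  obtain ⟨R, hCER, hR, hRle, hRmax⟩ := exists_maximal_pGroup_le (H ⊓ centralizer ({u} : Set G)) CE
    hCE2 (inf_le_inf_right _ hEH)
  have hRH : R ≤ H := hRle.trans inf_le_left
  have hRu : ∀ r ∈ R, r * u = u * r := fun r hr => mem_centralizer_singleton_iff.1 (hRle hr).2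
  have hcenter : ∀ x ∈ R, (∀ r ∈ R, r * x = x * r) → x = 1 ∨ x = z ∨ x = u ∨ x = u * z := by
    intro x hxR hx
    have hxH : x ∈ H := hRH hxR
    have hxu : x * u = u * x := hRu x hxR
    set c := x * f * x⁻¹ * f⁻¹ with hc
    have hcE : c ∈ E := mul_mem (L.conj_mem hxH hfE) (inv_mem hfE)
    have hxf : x * f * x⁻¹ = c * f := by rw [hc]; group
    have hxe : ∀ e ∈ CE, x * e * x⁻¹ = e := fun e he => by
      rw [mul_inv_eq_iff_eq_mul, hx e (hCER he)]
    have hcC : ∀ e ∈ CE, e * c = c * e := by
      intro e he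
      have heE := he.1
      have hxfe : (x * f * x⁻¹) * e * (x * f * x⁻¹)⁻¹ = f * e * f⁻¹ := by
        have h2 : x⁻¹ * e * x = e := by
          calc x⁻¹ * e * x = x⁻¹ * (x * e * x⁻¹) * x := by rw [hxe e he]
            _ = e := by group
        have h3 : x * (f * e * f⁻¹) * x⁻¹ = f * e * f⁻¹ := by
          rcases L.conj_cases hfE heE with h | h
          · rw [mul_inv_eq_iff_eq_mul.2 h]; exact hxe e he
          · rw [h]
            calc x * (z * e) * x⁻¹ = (x * z) * x⁻¹ * (x * e * x⁻¹) := by group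
              _ = (z * x) * x⁻¹ * e := by rw [mem_centralizer_singleton_iff.1 hxH, hxe e he]
              _ = z * e := by group
        calc (x * f * x⁻¹) * e * (x * f * x⁻¹)⁻¹ = x * (f * (x⁻¹ * e * x) * f⁻¹) * x⁻¹ := by group
          _ = f * e * f⁻¹ := by rw [h2, h3]
      rw [hxf] at hxfe
      have h4 : c * (f * e * f⁻¹) * c⁻¹ = f * e * f⁻¹ := by
        calc c * (f * e * f⁻¹) * c⁻¹ = c * f * e * (c * f)⁻¹ := by group
          _ = f * e * f⁻¹ := hxfe
      rcases L.conj_cases hfE heE with h | h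
      · rw [mul_inv_eq_iff_eq_mul.2 h] at h4
        exact (mul_inv_eq_iff_eq_mul.1 h4).symm
      · rw [h] at h4
        have h5 := mul_inv_eq_iff_eq_mul.1 h4
        have hcz : c * z = z * c := L.commute_z hcE
        have h6 : z * (c * e) = z * (e * c) := by
          calc z * (c * e) = (z * c) * e := by group
            _ = c * (z * e) := by rw [← hcz, mul_assoc]
            _ = z * e * c := h5
            _ = z * (e * c) := by group
        exact (mul_left_cancel h6).symm
    have hcu : c = 1 ∨ c = z ∨ c = u ∨ c = u * z := by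
      rcases L.conj_cases hfE hcE with h | h
      · rcases L.eq_one_or_z_of_central hcE (hfill c hcC h) with h1 | h1
        · exact Or.inl h1
        · exact Or.inr (Or.inl h1)
      · have hcuE : c * u ∈ E := mul_mem hcE huE
        have h1 : f * (c * u) = (c * u) * f := by
          calc f * (c * u) = (f * c * f⁻¹) * (f * u * f⁻¹) * f := by group
            _ = (z * c) * (z * u) * f := by rw [h, hfu]
            _ = (c * z) * (z * u) * f := by rw [L.commute_z hcE]
            _ = c * (z * z) * u * f := by group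
            _ = c * u * f := by rw [L.zz, mul_one]
        have h2 : ∀ e ∈ CE, e * (c * u) = (c * u) * e := fun e he => by
          rw [← mul_assoc, hcC e he, mul_assoc, mem_centralizer_singleton_iff.1 he.2, ← mul_assoc]
        rcases L.eq_one_or_z_of_central hcuE (hfill _ h2 h1) with h3 | h3
        · refine Or.inr (Or.inr (Or.inl ?_))
          calc c = (c * u) * u⁻¹ := by group
            _ = u := by rw [h3, one_mul, inv_eq_of_mul_eq_one_right huu]
        · refine Or.inr (Or.inr (Or.inr ?_))
          calc c = (c * u) * u⁻¹ := by group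
            _ = u * z := by rw [h3, inv_eq_of_mul_eq_one_right huu, huz]
    have hxR' : ∀ e ∈ CE, e * x = x * e := fun e he => hx e (hCER he)
    rcases hcu with h | h | h | h
    · rw [h, one_mul] at hxf
      rcases L.eq_one_or_z_of_centralizes (hfill x hxR' (mul_inv_eq_iff_eq_mul.1 hxf).symm)
        with h1 | h1
      · exact Or.inl h1
      · exact Or.inr (Or.inl h1)
    · rw [h] at hxf
      have h1 : f * (x * u) = (x * u) * f := by
        calc f * (x * u) = (z * z) * f * (x * u) := by rw [L.zz, one_mul]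
          _ = z * (z * f) * x * u := by group
          _ = z * (x * f * x⁻¹) * x * u := by rw [hxf]
          _ = (z * x) * f * u := by group
          _ = (x * z) * f * u := by rw [mem_centralizer_singleton_iff.1 hxH]
          _ = x * (z * f) * u := by group
          _ = x * (u * f * u⁻¹) * u := by rw [hufu]
          _ = x * u * f := by group
      have h2 : ∀ e ∈ CE, e * (x * u) = (x * u) * e := fun e he => by
        rw [← mul_assoc, hxR' e he, mul_assoc, mem_centralizer_singleton_iff.1 he.2, ← mul_assoc]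
      rcases L.eq_one_or_z_of_centralizes (hfill _ h2 h1) with h3 | h3
      · refine Or.inr (Or.inr (Or.inl ?_))
        calc x = (x * u) * u⁻¹ := by group
          _ = u := by rw [h3, one_mul, inv_eq_of_mul_eq_one_right huu]
      · refine Or.inr (Or.inr (Or.inr ?_))
        calc x = (x * u) * u⁻¹ := by group
          _ = u * z := by rw [h3, inv_eq_of_mul_eq_one_right huu, huz]
    all_goals
      exfalso
      have hcc : c * c = 1 := by
        rw [h]
        first
          | exact huu
          | calc u * z * (u * z) = u * (z * u) * z := by group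
              _ = u * (u * z) * z := by rw [huz]
              _ = (u * u) * (z * z) := by group
              _ = 1 := by rw [huu, L.zz, one_mul]
      have hfc : f * c * f⁻¹ = z * c := by
        rw [h]
        first
          | exact hfu
          | calc f * (u * z) * f⁻¹ = (f * u * f⁻¹) * ((f * z) * f⁻¹) := by group
              _ = (z * u) * ((z * f) * f⁻¹) := by rw [hfu, L.commute_z hfE]
              _ = z * (u * z) := by group
      have hff : x * (f * f) * x⁻¹ = f * f := by
        rcases L.sq_cases hfE with h1 | h1 <;> rw [h1]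
        · group
        · exact mul_inv_eq_iff_eq_mul.2 (mem_centralizer_singleton_iff.1 hxH)
      have h1 : c * f * (c * f) = z * (f * f) := by
        calc c * f * (c * f) = c * (f * c * f⁻¹) * (f * f) := by group
          _ = c * (z * c) * (f * f) := by rw [hfc]
          _ = (c * z) * c * (f * f) := by group
          _ = z * (c * c) * (f * f) := by rw [L.commute_z hcE]; group
          _ = z * (f * f) := by rw [hcc, mul_one]
      refine L.z_mul_ne (f * f) ?_
      rw [← h1, ← hxf]
      exact Eq.trans (by group) hff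
  -- `R` is maximal in `C_G(u)`
  have hzR : z ∈ R := hCER hzC
  have hRmax' : ∀ Q : Subgroup G, IsPGroup 2 Q → R ≤ Q → Q ≤ centralizer ({u} : Set G) → Q = R := by
    intro Q hQ hle hQu
    by_contra hne
    obtain ⟨g, hgQ, hgR, hgN⟩ := exists_normalizing_not_mem hQ hle hne
    have hgH : g ∉ H := fun hgH => by
      have := hRmax (R ⊔ zpowers g) (hQ.to_le (sup_le hle (zpowers_le.2 hgQ))) le_sup_left
        (sup_le hRle (zpowers_le.2 ⟨hgH, hQu hgQ⟩))
      exact hgR (this ▸ le_sup_right (a := R) (mem_zpowers g))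
    set w := g * z * g⁻¹ with hw
    have hwR : w ∈ R := (mem_normalizer_iff.1 hgN z).1 hzR
    have hwc : ∀ r ∈ R, r * w = w * r := by
      intro r hr
      have h1 : g⁻¹ * r * g ∈ R := by
        rw [mem_normalizer_iff.1 hgN]
        simpa [mul_assoc] using hr
      have h2 := mem_centralizer_singleton_iff.1 (hRH h1)
      calc r * w = g * ((g⁻¹ * r * g) * z) * g⁻¹ := by rw [hw]; group
        _ = g * (z * (g⁻¹ * r * g)) * g⁻¹ := by rw [h2]
        _ = w * r := by rw [hw]; group
    rcases hcenter w hwR hwc with h | h | h | h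
    · exact L.z_ne_one (by
        calc z = g⁻¹ * w * g := by rw [hw]; group
          _ = 1 := by rw [h]; group)
    · exact hgH (mem_centralizer_singleton_iff.2 (mul_inv_eq_iff_eq_mul.1 h))
    · apply hu_ne_z
      have h1 := mem_centralizer_singleton_iff.1 (hQu hgQ)
      calc u = g⁻¹ * (g * u) := by group
        _ = g⁻¹ * (u * g) := by rw [h1]
        _ = g⁻¹ * (w * g) := by rw [h]
        _ = z := by rw [hw]; group
    · obtain ⟨a, ha, b, hb, hab⟩ : ∃ a ∈ CE, ∃ b ∈ CE, ⁅a, b⁆ = z := by
        by_contra hcon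
        push Not at hcon
        have h1 := L.not_comm_of_card_gt (M := CE) inf_le_left
          (fun a ha b hb => commutatorElement_eq_one_iff_mul_comm.1
            ((L.comm_cases ha.1 hb.1).resolve_right (hcon a ha b hb))) hfE hsplit
        rw [hcard] at h1
        have : 2 ^ 5 ≤ 2 ^ (2 * n + 1) := Nat.pow_le_pow_right two_pos (by omega)
        omega
      have h3 : w = ⁅g * a * g⁻¹, g * b * g⁻¹⁆ := by
        rw [hw, ← hab]; simp only [commutatorElement_def]; group
      have h4 : w ∈ K := h3 ▸ hcommK _ (hRH ((mem_normalizer_iff.1 hgN a).1 (hCER ha))) _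
        (hRH ((mem_normalizer_iff.1 hgN b).1 (hCER hb)))
      rw [h, hmul _ (hEH huE) _ (z_mem_H z)] at h4
      exact huK (h4.2 hzK)
  -- `u` is not conjugate to `z`
  have hnc : ∀ g : G, g * z * g⁻¹ ≠ u := by
    intro g hg
    set R' := R.map (MulAut.conj g⁻¹).toMonoidHom with hR'
    have hmem : ∀ r ∈ R, g⁻¹ * r * g ∈ R' := fun r hr => ⟨r, hr, by simp [MulAut.conj_apply]⟩
    have hR'H : R' ≤ H := by
      rintro _ ⟨r, hr, rfl⟩
      refine mem_centralizer_singleton_iff.2 ?_
      simp only [MulEquiv.coe_toMonoidHom, MulAut.conj_apply, inv_inv]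
      calc g⁻¹ * r * g * z = g⁻¹ * (r * (g * z * g⁻¹)) * g := by group
        _ = g⁻¹ * ((g * z * g⁻¹) * r) * g := by rw [hg, hRu r hr]
        _ = z * (g⁻¹ * r * g) := by group
    have hER' : E ≤ R' := by
      have hsup : IsPGroup 2 (R' ⊔ E : Subgroup G) :=
        (hR.map _).to_sup_of_normal_right' L.isPGroup_E (hR'H.trans L.normalizer_E)
      set T := (R' ⊔ E).map (MulAut.conj g).toMonoidHom
      have hRT : R ≤ T := fun r hr => ⟨g⁻¹ * r * g, le_sup_left (b := E) (hmem r hr), by
        simp [MulAut.conj_apply, mul_assoc]⟩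
      have hTu : T ≤ centralizer ({u} : Set G) := by
        rintro _ ⟨t, ht, rfl⟩
        refine mem_centralizer_singleton_iff.2 ?_
        have h1 := mem_centralizer_singleton_iff.1 (sup_le hR'H hEH ht)
        simp only [MulEquiv.coe_toMonoidHom, MulAut.conj_apply]
        calc g * t * g⁻¹ * u = g * t * g⁻¹ * (g * z * g⁻¹) := by rw [hg]
          _ = g * (t * z) * g⁻¹ := by group
          _ = g * (z * t) * g⁻¹ := by rw [h1]
          _ = (g * z * g⁻¹) * (g * t * g⁻¹) := by group
          _ = u * (g * t * g⁻¹) := by rw [hg]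
      have hT := hRmax' T (hsup.map _) hRT hTu
      intro e he
      refine ⟨g * e * g⁻¹, hT ▸ ⟨e, le_sup_right (a := R') he, rfl⟩, ?_⟩
      simp [MulAut.conj_apply, mul_assoc]
    have hfix : ∀ e ∈ E, e * (g⁻¹ * z * g) = (g⁻¹ * z * g) * e := by
      intro e he
      obtain ⟨r, hr, rfl⟩ := hER' he
      simp only [MulEquiv.coe_toMonoidHom, MulAut.conj_apply, inv_inv]
      calc g⁻¹ * r * g * (g⁻¹ * z * g) = g⁻¹ * (r * z) * g := by group
        _ = g⁻¹ * (z * r) * g := by rw [mem_centralizer_singleton_iff.1 (hRH hr)]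
        _ = (g⁻¹ * z * g) * (g⁻¹ * r * g) := by group
    rcases L.eq_one_or_z_of_centralizes hfix with h | h
    · exact L.z_ne_one (by
        calc z = g * (g⁻¹ * z * g) * g⁻¹ := by group
          _ = 1 := by rw [h]; group)
    · apply hu_ne_z
      calc u = g * (g⁻¹ * z * g) * g⁻¹ := by rw [h, hg]
        _ = z := by group
  -- the action on the cosets of `H`
  have hodd := L.odd_index
  let Φ : Set (G ⧸ H) := {q | q.out⁻¹ * u * q.out ∈ K}
  have hΦ : ∀ g : G, ((g : G ⧸ H) ∈ Φ ↔ g⁻¹ * u * g ∈ K) := by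
    intro g
    obtain ⟨⟨h, hh⟩, hgh⟩ := QuotientGroup.mk_out_eq_mul H g
    show (g : G ⧸ H).out⁻¹ * u * (g : G ⧸ H).out ∈ K ↔ _
    rw [hgh]
    have e1 : (g * h)⁻¹ * u * (g * h) = h⁻¹ * (g⁻¹ * u * g) * h⁻¹⁻¹ := by group
    rw [e1]
    constructor
    · intro h1
      have h2 : g⁻¹ * u * g ∈ H := by
        have := mul_mem (mul_mem hh (hKH h1)) (inv_mem hh)
        simpa [mul_assoc] using this
      exact (hconjK _ (inv_mem hh) _ h2).1 h1
    · exact fun h1 => (hconjK _ (inv_mem hh) _ (hKH h1)).2 h1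
  let S : SubMulAction R (G ⧸ H) :=
    { carrier := Φ
      smul_mem' := by
        intro r q hq
        obtain ⟨g, rfl⟩ := QuotientGroup.mk_surjective q
        show (((r : G) * g : G) : G ⧸ H) ∈ Φ
        rw [hΦ]
        have h1 := hRu r r.2
        have e1 : ((r : G) * g)⁻¹ * u * ((r : G) * g) = g⁻¹ * u * g := by
          calc ((r : G) * g)⁻¹ * u * ((r : G) * g) = g⁻¹ * (r : G)⁻¹ * (u * r) * g := by group
            _ = g⁻¹ * (r : G)⁻¹ * (r * u) * g := by rw [h1]
            _ = g⁻¹ * u * g := by group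
        rw [e1, ← hΦ]
        exact hq }
  have hempty : IsEmpty (MulAction.fixedPoints R S) := by
    refine ⟨?_⟩
    rintro ⟨⟨q, hq⟩, hfix⟩
    obtain ⟨g, rfl⟩ := QuotientGroup.mk_surjective q
    have hgK : g⁻¹ * u * g ∈ K := (hΦ g).1 hq
    set w := g * z * g⁻¹ with hw
    have hRw : ∀ r ∈ R, r * w = w * r := by
      intro r hr
      have h1 : (((r * g : G)) : G ⧸ H) = (g : G ⧸ H) := congrArg Subtype.val (hfix ⟨r, hr⟩)
      have h2 := mem_centralizer_singleton_iff.1 (QuotientGroup.eq.1 h1.symm)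
      calc r * w = g * (g⁻¹ * (r * g) * z) * g⁻¹ := by rw [hw]; group
        _ = g * (z * (g⁻¹ * (r * g))) * g⁻¹ := by rw [h2]
        _ = w * r := by rw [hw]; group
    have hwu : w * u = u * w := by
      have h2 := mem_centralizer_singleton_iff.1 (hKH hgK)
      calc w * u = g * (z * (g⁻¹ * u * g)) * g⁻¹ := by rw [hw]; group
        _ = g * ((g⁻¹ * u * g) * z) * g⁻¹ := by rw [h2]
        _ = u * w := by rw [hw]; group
    have hwR : w ∈ R := by
      have hw2 : IsPGroup 2 (zpowers w) := by
        refine IsPGroup.of_card (n := 1) ?_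
        rw [Nat.card_zpowers, pow_one, ← L.hz,
          show w = MulAut.conj g z from rfl, MulEquiv.orderOf_eq]
      have hN : zpowers w ≤ normalizer (R : Set G) := by
        rw [zpowers_le, mem_normalizer_iff]
        intro r
        constructor
        · intro hr
          rw [mul_inv_eq_iff_eq_mul.2 (hRw r hr).symm]
          exact hr
        · intro hr
          have e : w * r * w⁻¹ = r := by
            calc w * r * w⁻¹ = w⁻¹ * (w * (w * r * w⁻¹)) := by group
              _ = w⁻¹ * ((w * r * w⁻¹) * w) := by rw [hRw _ hr]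
              _ = r := by group
          rwa [e] at hr
      have := hRmax' (zpowers w ⊔ R) (hw2.to_sup_of_normal_right' hR hN) le_sup_right
        (sup_le (zpowers_le.2 (mem_centralizer_singleton_iff.2 hwu)) fun r hr =>
          mem_centralizer_singleton_iff.2 (hRu r hr))
      exact this ▸ le_sup_left (b := R) (mem_zpowers w)
    rcases hcenter w hwR hRw with h | h | h | h
    · exact L.z_ne_one (by
        calc z = g⁻¹ * w * g := by rw [hw]; group
          _ = 1 := by rw [h]; group)
    · have hgH : g ∈ H := mem_centralizer_singleton_iff.2 (mul_inv_eq_iff_eq_mul.1 h)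
      apply huK
      have h1 := hconjK g hgH (g⁻¹ * u * g) (hKH hgK)
      rw [show g * (g⁻¹ * u * g) * g⁻¹ = u by group] at h1
      exact h1.2 hgK
    · exact hnc g h
    · refine hnc (f * g) ?_
      calc f * g * z * (f * g)⁻¹ = f * w * f⁻¹ := by rw [hw]; group
        _ = (f * u * f⁻¹) * ((f * z) * f⁻¹) := by rw [h]; group
        _ = (z * u) * ((z * f) * f⁻¹) := by rw [hfu, L.commute_z hfE]
        _ = z * (u * z) := by group
        _ = (z * z) * u := by rw [huz]; group
        _ = u := by rw [L.zz, one_mul]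
  have heven : 2 ∣ Nat.card Φ := by
    have := hR.card_modEq_card_fixedPoints (α := S)
    rw [Nat.card_of_isEmpty (α := MulAction.fixedPoints R S)] at this
    exact (Nat.modEq_zero_iff_dvd.1 this : 2 ∣ Nat.card S)
  let p : G ⧸ K ≃ (G ⧸ H) × (H ⧸ K.subgroupOf H) := quotientEquivProdOfLE hKH
  have hp : ∀ g : G, (p (g : G ⧸ K)).1 = (g : G ⧸ H) := fun g => rfl
  have hF : Nat.card {q : G ⧸ K | u • q = q} = Nat.card Φ * 2 := by
    have e : {q : G ⧸ K | u • q = q} ≃ Φ × (H ⧸ K.subgroupOf H) :=
      { toFun := fun q => (⟨(p q.1).1, by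
          obtain ⟨q, hq⟩ := q
          obtain ⟨g, rfl⟩ := QuotientGroup.mk_surjective q
          rw [hp, hΦ]
          have h1 : ((u * g : G) : G ⧸ K) = (g : G ⧸ K) := hq
          simpa [mul_assoc] using QuotientGroup.eq.1 h1.symm⟩, (p q.1).2)
        invFun := fun x => ⟨p.symm (x.1.1, x.2), by
          obtain ⟨g, hg⟩ := QuotientGroup.mk_surjective (p.symm (x.1.1, x.2))
          have h1 : (g : G ⧸ H) = x.1.1 := by rw [← hp, hg, Equiv.apply_symm_apply]
          have h2 := (hΦ g).1 (h1 ▸ x.1.2)
          rw [← hg]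
          show ((u * g : G) : G ⧸ K) = (g : G ⧸ K)
          refine (QuotientGroup.eq.2 ?_).symm
          simpa [mul_assoc] using h2⟩
        left_inv := fun q => Subtype.ext (p.symm_apply_apply q.1)
        right_inv := fun x => by simp }
    rw [Nat.card_congr e, Nat.card_prod]
    congr 1
  obtain ⟨M, hM, hMi, -⟩ := exists_index_two_of_fixed K H.index hodd
    (by rw [← relIndex_mul_index hKH, hKi]) u huu (by
      rw [hF]; obtain ⟨k, hk⟩ := heven; exact ⟨k, by omega⟩)
  haveI := hM
  exact H6.not_normal_index_of_pResidual_eq_top hres M hMi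

end LargeData

end Cfsg.Agent.H9
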