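import Mathlib
import Cfsg.Prelude.Def_CaseTheorems
import Cfsg.Prelude.Def_Involutions
import Cfsg.Agent.H9.SFreeMargin
import Cfsg.Agent.H65.StronglyEmbedded
import Cfsg.Agent.H77.JUnique
import Cfsg.Agent.H10.Thompson
import Cfsg.Agent.H73.Conj

/-!
In a group with all `2`-locals solvable, of characteristic two and without `S₄` section, the maximal
`2`-locals are strongly embedded.
-/

set_option autoImplicit false

namespace Cfsg.Agent.H9.SFree

open Subgroup

variable {G : Type*} [Group G] [Finite G]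

theorem thompsonSubgroupOf_ne_bot {T : Subgroup G} (hT : IsPGroup 2 T) (hT1 : T ≠ ⊥) :
    Cfsg.thompsonSubgroupOf 2 T ≠ ⊥ := by
  haveI : Fact (Nat.Prime 2) := ⟨Nat.prime_two⟩
  rw [Cfsg.thompsonSubgroupOf, Ne, map_eq_bot_iff_of_injective _ T.subtype_injective]
  exact H10.thompsonSubgroup_ne_bot (hT.card_eq_or_dvd.resolve_left fun h => hT1 (card_eq_one.mp h))

/-- `Ω₁(Z(T))`. -/
def zOne (T : Subgroup G) : Subgroup G := Cfsg.omegaOne 2 (T ⊓ centralizer (T : Set G))

omit [Finite G] in
theorem zOne_le (T : Subgroup G) : zOne T ≤ T := (H10.omegaOne_le _).trans inf_le_left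

theorem zOne_ne_bot {T : Subgroup G} (hT : IsPGroup 2 T) (hT1 : T ≠ ⊥) : zOne T ≠ ⊥ := by
  haveI : Fact (Nat.Prime 2) := ⟨Nat.prime_two⟩
  haveI : Nontrivial T := (nontrivial_iff_ne_bot T).mpr hT1
  haveI := hT.center_nontrivial
  obtain ⟨z, hz⟩ := exists_prime_orderOf_dvd_card' (G := center T) 2
    (((hT.to_subgroup _).card_eq_or_dvd).resolve_left Finite.one_lt_card.ne')
  intro h
  have hmem : ((z : T) : G) ∈ zOne T := subset_closure ⟨⟨(z : T).2, fun t ht =>
    congrArg Subtype.val (mem_center_iff.mp z.2 ⟨t, ht⟩)⟩, by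
      rw [← SubmonoidClass.coe_pow, ← SubmonoidClass.coe_pow, ← hz, pow_orderOf_eq_one]; rfl⟩
  rw [h, mem_bot] at hmem
  have : z = 1 := Subtype.ext (Subtype.ext hmem)
  rw [this, orderOf_one] at hz
  omega

theorem normalizer_le_zOne (T : Subgroup G) :
    normalizer (T : Set G) ≤ normalizer (zOne T : Set G) := by
  intro g hg
  rw [mem_normalizer_iff_map_conj_eq] at hg ⊢
  show (zOne T).map (MulAut.conj g).toMonoidHom = zOne T
  rw [zOne, H10.map_omegaOne, H10.map_conj_inf_centralizer,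
    show T.map (MulAut.conj g).toMonoidHom = T from hg]

variable (hO : Cfsg.pCore 2 G = ⊥)
  (hloc : ∀ M : Subgroup G, Cfsg.IsTwoLocal M → Group.IsSolvable M ∧ Cfsg.IsOfCharacteristicTwo ↥M ∧
    ¬ Cfsg.Involves (Equiv.Perm (Fin 4)) ↥M)

include hloc in
/-- A maximal `2`-local containing `N(J(S))` contains every `2`-local over `S`. -/
theorem exists_unique_over (S : Sylow 2 G) (hS1 : (S : Subgroup G) ≠ ⊥) :
    ∃ K : Subgroup G, Cfsg.IsMaximalTwoLocal K ∧ (S : Subgroup G) ≤ K ∧
      ∀ L : Subgroup G, Cfsg.IsTwoLocal L → (S : Subgroup G) ≤ L → L ≤ K := by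
  haveI : Fact (Nat.Prime 2) := ⟨Nat.prime_two⟩
  have hJ2 : IsPGroup 2 (Cfsg.thompsonSubgroupOf 2 (S : Subgroup G)) := S.2.to_le (map_subtype_le _)
  obtain ⟨K, hK, hJK⟩ := H77.exists_maximalTwoLocal_ge
    (N := normalizer (Cfsg.thompsonSubgroupOf 2 (S : Subgroup G) : Set G))
    ⟨_, hJ2, thompsonSubgroupOf_ne_bot S.2 hS1, rfl⟩
  have hSK : (S : Subgroup G) ≤ K :=
    (le_normalizer.trans (H1.normalizer_le_normalizer_thompsonSubgroupOf 2 _)).trans hJK
  have hsyl : ∀ L : Subgroup G, (S : Subgroup G) ≤ L → H74.IsSylIn 2 (S : Subgroup G) L := by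
    intro L hL
    refine H74.IsSylIn.of_le (H := ⊤) ⟨le_top, ?_⟩ hL le_top
    rw [card_top]
    exact S.card_eq_multiplicity
  obtain ⟨hsol, hchar, hfree⟩ := hloc K hK.1
  haveI := hsol
  haveI : (H10.centralClosure 2 ↥K).Normal := H10.centralClosure_normal
  set V := (H10.centralClosure 2 ↥K).map K.subtype with hV
  have hVc : Cfsg.IsElementaryAbelian 2 (H10.centralClosure 2 ↥K) :=
    H10.centralClosure_elementaryAbelian hchar
  have hVe : Elem V := Elem.of_isElem (H10.isElementaryAbelian_map hVc K.subtype)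
  have hVS : V ≤ (S : Subgroup G) := by
    refine le_trans (map_mono ((H10.centralClosure_le hchar).trans ((H10.omegaOne_le _).trans inf_le_left))) ?_
    exact H74.pCoreOf_le_sylIn (hsyl K hSK)
  have hKV : K ≤ normalizer (V : Set G) := by
    intro x hx
    apply mem_normalizer_fintype
    rintro _ ⟨z, hz, rfl⟩
    exact ⟨⟨x, hx⟩ * z * ⟨x, hx⟩⁻¹, Normal.conj_mem inferInstance z hz _, rfl⟩
  have hV1 : V ≠ ⊥ := by
    intro h
    apply zOne_ne_bot (T := (S : Subgroup G).subgroupOf K) (S.2.comap_of_injective K.subtype K.subtype_injective)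
      (fun h0 => hS1 (by rw [← map_subgroupOf_eq_of_le hSK, h0, Subgroup.map_bot]))
    rw [eq_bot_iff]
    rw [hV, map_eq_bot_iff_of_injective _ K.subtype_injective] at h
    rw [← h]
    obtain ⟨S', hS'⟩ := (hsyl K hSK).exists_sylow
    have e : (S : Subgroup G).subgroupOf K = (S' : Subgroup K) := by
      rw [← hS']
      exact comap_map_eq_self_of_injective K.subtype_injective _
    rw [e]
    exact le_iSup (fun S : Sylow 2 ↥K =>
      Cfsg.omegaOne 2 ((S : Subgroup K) ⊓ centralizer ((S : Subgroup K) : Set K))) S'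
  have hVK : normalizer (V : Set G) = K :=
    hK.2 _ ⟨V, S.2.to_le hVS, hV1, rfl⟩ hKV
  have hM : Margin V (S : Subgroup G) :=
    margin_map (margin_of_reduced hfree _ hVc (H10.pCore_quotient_centralClosure 2 ↥K)) hSK
  refine ⟨K, hK, hSK, fun L hL hSL => ?_⟩
  obtain ⟨hLs, hLc, hLf⟩ := hloc L hL
  exact sfree_le S.2 hVe hVS (hSK.trans hKV) hM (fun A hA => maxFam_le_centralizer hVe hVS hM hA)
    L (hsyl L hSL) hLs hLc hLf (inf_le_right.trans hVK.le) (inf_le_right.trans hJK)

include hO hloc in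
/-- That `2`-local is strongly embedded and contains all normalizers of nontrivial subgroups of `S`. -/
theorem exists_stronglyEmbedded (S : Sylow 2 G) (hS1 : (S : Subgroup G) ≠ ⊥) :
    ∃ K : Subgroup G, Cfsg.IsMaximalTwoLocal K ∧ (Cfsg.IsStronglyEmbedded K ∧
      ∀ R : Subgroup G, R ≤ (S : Subgroup G) → R ≠ ⊥ → normalizer (R : Set G) ≤ K) := by
  haveI : Fact (Nat.Prime 2) := ⟨Nat.prime_two⟩
  obtain ⟨K, hK, hSK, huniq⟩ := exists_unique_over hloc S hS1
  refine ⟨K, hK, ?_⟩
  have hnorm : ∀ n : ℕ, ∀ R : Subgroup G, R ≤ (S : Subgroup G) → R ≠ ⊥ →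
      (S : Subgroup G).index = 0 ∨ Nat.card S - Nat.card ↥((S : Subgroup G) ⊓ normalizer (R : Set G)) = n →
      normalizer (R : Set G) ≤ K := by
    intro n
    induction n using Nat.strong_induction_on with
    | _ n ih =>
    intro R hRS hR1 hn
    replace hn := hn.resolve_left index_ne_zero_of_finite
    set L := normalizer (R : Set G) with hL
    have hLloc : Cfsg.IsTwoLocal L := ⟨R, S.2.to_le hRS, hR1, rfl⟩
    set T := (S : Subgroup G) ⊓ L with hT
    have hTS : T ≤ (S : Subgroup G) := inf_le_left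
    have hRT : R ≤ T := le_inf hRS le_normalizer
    by_cases hTeq : T = (S : Subgroup G)
    · exact huniq L hLloc (hTeq ▸ inf_le_right)
    -- larger normalizers are handled by induction
    have hbig : ∀ U : Subgroup G, U ≤ (S : Subgroup G) → U ≠ ⊥ →
        Nat.card T < Nat.card ↥((S : Subgroup G) ⊓ normalizer (U : Set G)) →
        normalizer (U : Set G) ≤ K := by
      intro U hU hU1 hlt
      refine ih _ ?_ U hU hU1 (Or.inr rfl)
      have h2 : Nat.card T < Nat.card S := lt_of_le_of_ne (card_le_of_le hTS)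
        fun h => hTeq (eq_of_le_of_card_ge hTS h.ge)
      omega
    have hT1 : T ≠ ⊥ := fun h => hR1 (le_bot_iff.mp (h ▸ hRT))
    have hTlt : T < (S : Subgroup G) ⊓ normalizer (T : Set G) :=
      H73.lt_inf_normalizer S.2 (lt_of_le_of_ne hTS hTeq)
    have hTcard : Nat.card T < Nat.card ↥((S : Subgroup G) ⊓ normalizer (T : Set G)) :=
      lt_of_le_of_ne (card_le_of_le hTlt.le) fun h => hTlt.ne (eq_of_le_of_card_ge hTlt.le h.ge)
    have hfun : ∀ U : Subgroup G, U ≤ (S : Subgroup G) → U ≠ ⊥ →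
        normalizer (T : Set G) ≤ normalizer (U : Set G) → normalizer (U : Set G) ≤ K :=
      fun U hU hU1 hle => hbig U hU hU1 (hTcard.trans_le (card_le_of_le (inf_le_inf_left _ hle)))
    have hNT : normalizer (T : Set G) ≤ K := hfun T hTS hT1 le_rfl
    -- a Sylow subgroup of `L` over `T`
    obtain ⟨P, hP⟩ := ((S.2.to_le hTS).comap_of_injective L.subtype L.subtype_injective).exists_le_sylow
    set T' := (P : Subgroup L).map L.subtype with hT'
    have hT'syl : H74.IsSylIn 2 T' L := H74.isSylIn_of_sylow P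
    have hTT' : T ≤ T' := by
      rw [← map_subgroupOf_eq_of_le (show T ≤ L from inf_le_right)]
      exact map_mono hP
    by_cases hTT : T' = T
    · -- `T` is a Sylow subgroup of `L`
      rw [hTT] at hT'syl
      have hT2 : IsPGroup 2 T := S.2.to_le hTS
      have hW : Elem (zOne T) := Elem.of_isElem (H10.omegaOne_elementaryAbelian
        (fun x hx y hy => mem_centralizer_iff.mp hy.2 x hx.1))
      have hTW : T ≤ centralizer (zOne T : Set G) :=
        le_centralizer_iff.mp ((H10.omegaOne_le _).trans inf_le_right)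
      have hMW : Margin (zOne T) T := fun B hB _ _ => by
        rw [inf_eq_left.mpr (hB.trans hTW), relIndex_self, one_pow]
        exact Nat.one_le_iff_ne_zero.mpr index_ne_zero_of_finite
      obtain ⟨hLs, hLc, hLf⟩ := hloc L hLloc
      exact sfree_le hT2 hW (zOne_le T) (hTW.trans (centralizer_le_normalizer _)) hMW
        (fun A hA => hA.1.trans hTW) L hT'syl hLs hLc hLf
        (inf_le_right.trans (hfun _ ((zOne_le T).trans hTS) (zOne_ne_bot hT2 hT1) (normalizer_le_zOne T)))
        (inf_le_right.trans (hfun _ ((map_subtype_le _).trans hTS) (thompsonSubgroupOf_ne_bot hT2 hT1)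
          (H1.normalizer_le_normalizer_thompsonSubgroupOf 2 T)))
    · -- the normalizer of `T` in a larger Sylow subgroup of `L` lies in `K`
      have hlt' : T < T' ⊓ normalizer (T : Set G) :=
        H73.lt_inf_normalizer hT'syl.isPGroup (lt_of_le_of_ne hTT' (Ne.symm hTT))
      set U := T' ⊓ normalizer (T : Set G) with hU
      have hUK : U ≤ K := inf_le_right.trans hNT
      have hU2 : IsPGroup 2 U := hT'syl.isPGroup.to_le inf_le_left
      obtain ⟨P2, hP2⟩ := (hU2.comap_of_injective K.subtype K.subtype_injective).exists_le_sylow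
      obtain ⟨k, hk⟩ := MulAction.exists_smul_eq K P2 (S.subtype hSK)
      have hkU : ∀ u ∈ U, (k : G) * u * (k : G)⁻¹ ∈ (S : Subgroup G) := by
        intro u hu
        have h1 : k * (⟨u, hUK hu⟩ : K) * k⁻¹ ∈ (S.subtype hSK : Subgroup K) := by
          rw [← hk, Sylow.coe_subgroup_smul]
          exact ⟨⟨u, hUK hu⟩, hP2 hu, rfl⟩
        exact h1
      have hUR : U ≤ L := inf_le_left.trans hT'syl.le
      have hRk : cj (k : G) R ≤ (S : Subgroup G) := by
        rintro _ ⟨r, hr, rfl⟩
        exact hkU r (hlt'.le (hRT hr))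
      have hRk1 : cj (k : G) R ≠ ⊥ := by
        rw [Ne, map_eq_bot_iff_of_injective _ (MulAut.conj (k : G)).injective]
        exact hR1
      have hcard : Nat.card T < Nat.card ↥((S : Subgroup G) ⊓ normalizer (cj (k : G) R : Set G)) := by
        have h1 : cj (k : G) U ≤ (S : Subgroup G) ⊓ normalizer (cj (k : G) R : Set G) := by
          rintro _ ⟨u, hu, rfl⟩
          refine ⟨hkU u hu, ?_⟩
          exact le_normalizer_map (MulAut.conj (k : G)).toMonoidHom ⟨u, hUR hu, rfl⟩
        refine lt_of_lt_of_le ?_ (card_le_of_le h1)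
        rw [cj, card_map_of_injective (MulAut.conj (k : G)).injective]
        exact lt_of_le_of_ne (card_le_of_le hlt'.le) fun h => hlt'.ne (eq_of_le_of_card_ge hlt'.le h.ge)
      have hNk := hbig _ hRk hRk1 hcard
      intro x hx
      have h2 : (k : G) * x * (k : G)⁻¹ ∈ K :=
        hNk (le_normalizer_map (MulAut.conj (k : G)).toMonoidHom ⟨x, hx, rfl⟩)
      have h3 := mul_mem (mul_mem (inv_mem k.2) h2) k.2
      simpa [mul_assoc] using h3
  have hnorm' : ∀ R : Subgroup G, R ≤ (S : Subgroup G) → R ≠ ⊥ → normalizer (R : Set G) ≤ K :=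
    fun R hR hR1 => hnorm _ R hR hR1 (Or.inr rfl)
  refine ⟨?_, hnorm'⟩
  have hKtop : K ≠ ⊤ := by
    intro h
    obtain ⟨T, hT, hT1, hKT⟩ := hK.1
    haveI : T.Normal := normalizer_eq_top_iff.mp (hKT ▸ h)
    exact hT1 (le_bot_iff.mp (hO ▸ H1.le_pCore hT))
  refine (H65.se_iff_normalizers hKtop (S.subtype hSK) ?_).mpr fun X hX hX1 => ?_
  · intro h
    apply hS1
    rw [← map_subgroupOf_eq_of_le hSK]
    rw [show (S : Subgroup G).subgroupOf K = ⊥ from h, Subgroup.map_bot]
  · refine hnorm' _ ?_ ?_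
    · rintro _ ⟨x, hx, rfl⟩
      exact hX hx
    · rwa [Ne, map_eq_bot_iff_of_injective _ K.subtype_injective]

end Cfsg.Agent.H9.SFree
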