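import Mathlib
import Cfsg.Agent.H9.LargeExtraBasic

/-!
A cocycle form of the transfer to an elementary abelian target along one orbit of a `2`-group
containing a normal extraspecial-like subgroup.
-/

set_option autoImplicit false

namespace Cfsg.Agent.H9

open Subgroup
open scoped Classical

variable {P : Type*} [Group P] {B : Type*} [CommGroup B]

/-- `r` is equivariant for right multiplication by `T`. -/
def RightEqui (r : P → B) (T : Subgroup P) : Prop :=
  ∀ t ∈ T, ∀ a : P, r (a * t) = r a * r t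

/-- The transfer attached to `r` and `T` vanishes. -/
def OrbitTrivial (r : P → B) (T : Subgroup P) : Prop :=
  ∀ x : P, ∏ᶠ q : P ⧸ T, (r (x * q.out) * r q.out) = 1

theorem RightEqui.map_one {r : P → B} {T : Subgroup P} (h : RightEqui r T) : r 1 = 1 := by
  have := h 1 (one_mem T) 1
  rw [mul_one] at this
  exact left_eq_mul.1 this

theorem orbitTrivial_of_invariant [Finite P] (hB : ∀ b : B, b * b = 1) {r : P → B}
    {T : Subgroup P} (h : RightEqui r T) (hT : ∀ t ∈ T, r t = 1) : OrbitTrivial r T := by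
  haveI : Fintype (P ⧸ T) := Fintype.ofFinite _
  intro x
  have key : ∀ q : P ⧸ T, r (x * q.out) = r (x • q).out := by
    intro q
    have h1 : (x • q).out⁻¹ * (x * q.out) ∈ T := by
      rw [← QuotientGroup.eq, QuotientGroup.out_eq']
      conv_lhs => rw [← QuotientGroup.out_eq' q]
      rfl
    have h2 := h _ h1 (x • q).out
    rw [mul_inv_cancel_left, hT _ h1, mul_one] at h2
    exact h2
  rw [finprod_eq_prod_of_fintype, Finset.prod_mul_distrib, Finset.prod_congr rfl fun q _ => key q]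
  have h3 : ∏ q : P ⧸ T, r (x • q).out = ∏ q : P ⧸ T, r q.out :=
    Equiv.prod_comp (MulAction.toPerm x) (fun q : P ⧸ T => r q.out)
  rw [h3, hB]

/-- The subgroup `T ∪ fT`. -/
def pairSubgroup (T : Subgroup P) (f : P) (hN : ∀ t ∈ T, f⁻¹ * t * f ∈ T) (hf : f * f ∈ T) :
    Subgroup P where
  carrier := {a | a ∈ T ∨ f⁻¹ * a ∈ T}
  one_mem' := Or.inl (one_mem T)
  mul_mem' := by
    rintro a b (ha | ha) (hb | hb)
    · exact Or.inl (mul_mem ha hb)
    · refine Or.inr ?_
      have := mul_mem (hN a ha) hb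
      simpa [mul_assoc] using this
    · refine Or.inr ?_
      have := mul_mem ha hb
      simpa [mul_assoc] using this
    · refine Or.inl ?_
      have := mul_mem (mul_mem hf (hN _ ha)) hb
      simpa [mul_assoc] using this
  inv_mem' := by
    rintro a (ha | ha)
    · exact Or.inl (inv_mem ha)
    · refine Or.inr ?_
      have := mul_mem (hN _ (inv_mem ha)) (inv_mem hf)
      simpa [mul_assoc] using this

theorem le_pairSubgroup {T : Subgroup P} {f : P} (hN : ∀ t ∈ T, f⁻¹ * t * f ∈ T) (hf : f * f ∈ T) :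
    T ≤ pairSubgroup T f hN hf := fun _ h => Or.inl h

/-- The pushed forward function. -/
def pairFun (r : P → B) (f : P) : P → B := fun a => r f * r a * r (a * f)

theorem pairFun_apply_of_mem (hB : ∀ b : B, b * b = 1) {r : P → B} {T : Subgroup P}
    (h : RightEqui r T) {f t : P} (ht' : f⁻¹ * t * f ∈ T) :
    pairFun r f t = r t * r (f⁻¹ * t * f) := by
  have h1 : r (t * f) = r f * r (f⁻¹ * t * f) := by
    rw [← h _ ht' f]; congr 1; group
  rw [pairFun, h1, mul_mul_mul_comm, hB, one_mul]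

theorem pairFun_self (hB : ∀ b : B, b * b = 1) (r : P → B) (f : P) :
    pairFun r f f = r (f * f) := by
  rw [pairFun, hB, one_mul]

theorem rightEqui_pairFun (hB : ∀ b : B, b * b = 1) {r : P → B} {T : Subgroup P}
    (h : RightEqui r T) {f : P} (hN : ∀ t ∈ T, f⁻¹ * t * f ∈ T) (hf : f * f ∈ T) :
    RightEqui (pairFun r f) (pairSubgroup T f hN hf) := by
  have hT : ∀ t ∈ T, ∀ a, pairFun r f (a * t) = pairFun r f a * pairFun r f t := by
    intro t ht a
    rw [pairFun_apply_of_mem hB h (hN t ht)]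
    have h1 : r (a * t * f) = r (a * f) * r (f⁻¹ * t * f) := by
      rw [← h _ (hN t ht) (a * f)]; congr 1; group
    simp only [pairFun]
    rw [h1, h t ht a]
    ac_rfl
  have hF : ∀ a, pairFun r f (a * f) = pairFun r f a * pairFun r f f := by
    intro a
    rw [pairFun_self hB]
    simp only [pairFun]
    rw [mul_assoc a f f, h _ hf a]
    ac_rfl
  intro b hb a
  rcases hb with hb | hb
  · exact hT b hb a
  · have e : b = f * (f⁻¹ * b) := by group
    rw [e, ← mul_assoc, hT _ hb, hT _ hb f, hF, mul_assoc]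

theorem orbitTrivial_step [Finite P] (hB : ∀ b : B, b * b = 1) {r : P → B} {T : Subgroup P}
    (h : RightEqui r T) {f : P} (hN : ∀ t ∈ T, f⁻¹ * t * f ∈ T) (hf : f * f ∈ T) (hfT : f ∉ T)
    (h1 : OrbitTrivial (pairFun r f) (pairSubgroup T f hN hf)) : OrbitTrivial r T := by
  set T' := pairSubgroup T f hN hf with hT'
  haveI : Fintype (P ⧸ T) := Fintype.ofFinite _
  haveI : Fintype (P ⧸ T') := Fintype.ofFinite _
  intro x
  let g : Bool → P := fun b => if b then f else 1
  let Φ : (P ⧸ T') × Bool → P ⧸ T := fun q => ((q.1.out * g q.2 : P) : P ⧸ T)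
  have hgT' : ∀ b, g b ∈ T' := fun b => by
    cases b
    · exact Or.inl (by simp [g])
    · exact Or.inr (by simp [g])
  have hbij : Function.Bijective Φ := by
    constructor
    · rintro ⟨C, b⟩ ⟨C', b'⟩ heq
      have h2 : (C.out * g b)⁻¹ * (C'.out * g b') ∈ T := QuotientGroup.eq.1 heq
      have hC : C = C' := by
        rw [← QuotientGroup.out_eq' C, ← QuotientGroup.out_eq' C', QuotientGroup.eq]
        have := mul_mem (mul_mem (hgT' b) (le_pairSubgroup hN hf h2)) (inv_mem (hgT' b'))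
        simpa [mul_assoc] using this
      subst hC
      rw [mul_inv_rev, mul_assoc, inv_mul_cancel_left] at h2
      cases b <;> cases b' <;> simp [g] at h2 ⊢
      · exact hfT h2
      · exact hfT h2
    · intro q
      obtain ⟨a, rfl⟩ := QuotientGroup.mk_surjective q
      have h2 : ((a : P ⧸ T').out)⁻¹ * a ∈ T' := by
        rw [← QuotientGroup.eq, QuotientGroup.out_eq']
      rcases h2 with h2 | h2
      · exact ⟨((a : P ⧸ T'), false), QuotientGroup.eq.2 (by simpa [g] using h2)⟩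
      · exact ⟨((a : P ⧸ T'), true), QuotientGroup.eq.2 (by simpa [g, mul_assoc] using h2)⟩
  have hinv : ∀ a : P, r (x * (a : P ⧸ T).out) * r (a : P ⧸ T).out = r (x * a) * r a := by
    intro a
    obtain ⟨⟨t, ht⟩, hat⟩ := QuotientGroup.mk_out_eq_mul T a
    rw [hat, ← mul_assoc x a t, h t ht (x * a), h t ht a, mul_mul_mul_comm, hB, mul_one]
  have h2 := h1 x
  rw [finprod_eq_prod_of_fintype] at h2 ⊢
  rw [← (Equiv.ofBijective Φ hbij).prod_comp, Fintype.prod_prod_type, ← h2]
  refine Finset.prod_congr rfl fun C _ => ?_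
  rw [Fintype.prod_bool]
  simp only [Equiv.ofBijective_apply, Φ, g, hinv, if_true, Bool.false_eq_true, if_false, mul_one,
    pairFun]
  rw [← mul_assoc x C.out f]
  have e : ∀ u a b c d : B, a * b * (c * d) = (u * c * a) * (u * d * b) := fun u a b c d => by
    calc a * b * (c * d) = (u * u) * (a * b * (c * d)) := by rw [hB, one_mul]
      _ = (u * c * a) * (u * d * b) := by ac_rfl
  exact e _ _ _ _ _

section NormalSubgroup

variable [Finite P] {E T : Subgroup P} {r : P → B} {z : P}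

theorem exists_normalizing_in_normal (hP : IsPGroup 2 P) [E.Normal] (hET : ¬ E ≤ T) :
    ∃ f ∈ E, f ∉ T ∧ ∀ t ∈ T, f⁻¹ * t * f ∈ T := by
  haveI : Fact (Nat.Prime 2) := ⟨Nat.prime_two⟩
  obtain ⟨g, hg, hgT, hgN⟩ := exists_normalizing_not_mem (R := T)
    (hP.to_subgroup (T ⊔ E)) le_sup_left (fun h => hET (h ▸ le_sup_right))
  obtain ⟨t, ht, e, he, rfl⟩ := mem_sup_of_normal_right.1 hg
  refine ⟨e, he, fun h => hgT (mul_mem ht h), fun a ha => ?_⟩
  rw [mem_normalizer_iff] at hgN
  rw [hgN]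
  simpa [mul_assoc] using mul_mem (mul_mem ht ha) (inv_mem ht)

theorem orbitTrivial_of_kills (hB : ∀ b : B, b * b = 1) (hP : IsPGroup 2 P) [E.Normal]
    (hsq : ∀ e ∈ E, e * e = 1 ∨ e * e = z) (h : RightEqui r T) (hzT : z ∈ T)
    (hET : ¬ E ≤ T) (hk : ∀ d ∈ E, d ∈ T → r d = 1) : OrbitTrivial r T := by
  obtain ⟨f, hfE, hfT, hN⟩ := exists_normalizing_in_normal hP hET
  have hff : f * f ∈ T := by rcases hsq f hfE with h1 | h1 <;> rw [h1]; exacts [one_mem T, hzT]
  refine orbitTrivial_step hB h hN hff hfT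
    (orbitTrivial_of_invariant hB (rightEqui_pairFun hB h hN hff) ?_)
  have hT : ∀ t ∈ T, pairFun r f t = 1 := by
    intro t ht
    have hd : t⁻¹ * (f⁻¹ * t * f) ∈ E := by
      have := mul_mem ((inferInstance : E.Normal).conj_mem _ (inv_mem hfE) t⁻¹) hfE
      simpa [mul_assoc] using this
    have hdT : t⁻¹ * (f⁻¹ * t * f) ∈ T := mul_mem (inv_mem ht) (hN t ht)
    have h1 : r (f⁻¹ * t * f) = r t := by
      have h2 := h _ hdT t
      rwa [mul_inv_cancel_left, hk _ hd hdT, mul_one] at h2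
    rw [pairFun_apply_of_mem hB h (hN t ht), h1, hB]
  rintro b (hb | hb)
  · exact hT b hb
  · have e : b = f * (f⁻¹ * b) := by group
    rw [e, rightEqui_pairFun hB h hN hff _ (Or.inl hb) f, hT _ hb, mul_one, pairFun_self hB]
    exact hk _ (mul_mem hfE hfE) hff

theorem orbitTrivial_main (hB : ∀ b : B, b * b = 1) (hP : IsPGroup 2 P) [E.Normal]
    (hzc : ∀ a : P, a * z = z * a) (hzz : z * z = 1)
    (hsq : ∀ e ∈ E, e * e = 1 ∨ e * e = z)
    (hconj : ∀ e ∈ E, ∀ d ∈ E, e⁻¹ * d * e = d ∨ e⁻¹ * d * e = z * d)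
    (h : RightEqui r T) (hrz : z ∈ T → r z = 1) (hET : ¬ E ≤ T)
    (hidx : z ∈ T → (∀ d ∈ E, d ∈ T → r d = 1) ∨
      ∀ f ∈ E, ∃ e ∈ E, e ∉ T ∧ f⁻¹ * e ∉ T) : OrbitTrivial r T := by
  by_cases hzT : z ∈ T
  · rcases hidx hzT with hk | hidx
    · exact orbitTrivial_of_kills hB hP hsq h hzT hET hk
    obtain ⟨f, hfE, hfT, hN⟩ := exists_normalizing_in_normal hP hET
    have hff : f * f ∈ T := by rcases hsq f hfE with h1 | h1 <;> rw [h1]; exacts [one_mem T, hzT]
    refine orbitTrivial_step hB h hN hff hfT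
      (orbitTrivial_of_kills hB hP hsq (rightEqui_pairFun hB h hN hff) (Or.inl hzT) ?_ ?_)
    · obtain ⟨e, he, h1, h2⟩ := hidx f hfE
      exact fun hle => (hle he).elim h1 h2
    · have hd : ∀ d ∈ E, d ∈ T → pairFun r f d = 1 := by
        intro d hd hdT
        rw [pairFun_apply_of_mem hB h (hN d hdT)]
        rcases hconj f hfE d hd with h1 | h1 <;> rw [h1]
        · exact hB _
        · rw [← hzc d, h z hzT d, hrz hzT, mul_one, hB]
      rintro b hbE (hb | hb)
      · exact hd b hbE hb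
      · have e : b = f * (f⁻¹ * b) := by group
        rw [e, rightEqui_pairFun hB h hN hff _ (Or.inl hb) f, pairFun_self hB,
          hd _ (mul_mem (inv_mem hfE) hbE) hb, mul_one]
        rcases hsq f hfE with h1 | h1 <;> rw [h1]
        · exact h.map_one
        · exact hrz hzT
  · have hN : ∀ t ∈ T, z⁻¹ * t * z ∈ T := fun t ht => by
      rw [mul_assoc, hzc t, inv_mul_cancel_left]; exact ht
    have hff : z * z ∈ T := hzz ▸ one_mem T
    refine orbitTrivial_step hB h hN hff hzT
      (orbitTrivial_of_invariant hB (rightEqui_pairFun hB h hN hff) ?_)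
    have hT : ∀ t ∈ T, pairFun r z t = 1 := fun t ht => by
      rw [pairFun_apply_of_mem hB h (hN t ht), mul_assoc, hzc t, inv_mul_cancel_left, hB]
    rintro b (hb | hb)
    · exact hT b hb
    · have e : b = z * (z⁻¹ * b) := by group
      rw [e, rightEqui_pairFun hB h hN hff _ (Or.inl hb) z, pairFun_self hB, hT _ hb, hzz,
        h.map_one, one_mul]

/-- Three steps: no condition on `r z` is needed when `E ∩ T` has index at least eight in `E`. -/
theorem orbitTrivial_deep (hB : ∀ b : B, b * b = 1) (hP : IsPGroup 2 P) [E.Normal]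
    (hzc : ∀ a : P, a * z = z * a) (hzz : z * z = 1)
    (hsq : ∀ e ∈ E, e * e = 1 ∨ e * e = z)
    (hconj : ∀ e ∈ E, ∀ d ∈ E, e⁻¹ * d * e = d ∨ e⁻¹ * d * e = z * d)
    (h : RightEqui r T) (hzT : z ∈ T) (hET : ¬ E ≤ T)
    (hbig : ∀ f ∈ E, ∀ f' ∈ E, ∃ e ∈ E, e ∉ T ∧ f⁻¹ * e ∉ T ∧ f'⁻¹ * e ∉ T ∧
      (f' * f)⁻¹ * e ∉ T) : OrbitTrivial r T := by
  obtain ⟨f, hfE, hfT, hN⟩ := exists_normalizing_in_normal hP hET
  have hff : f * f ∈ T := by rcases hsq f hfE with h1 | h1 <;> rw [h1]; exacts [one_mem T, hzT]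
  refine orbitTrivial_step hB h hN hff hfT
    (orbitTrivial_main hB hP hzc hzz hsq hconj (rightEqui_pairFun hB h hN hff) ?_ ?_ ?_)
  · intro _
    rw [pairFun_apply_of_mem hB h (hN z hzT), mul_assoc, ← hzc f, inv_mul_cancel_left, hB]
  · intro hle
    obtain ⟨e, he, h1, h2, -, -⟩ := hbig f hfE f hfE
    exact (hle he).elim h1 h2
  · refine fun _ => Or.inr fun f' hf' => ?_
    obtain ⟨e, he, h1, h2, h3, h4⟩ := hbig f hfE f' hf'
    refine ⟨e, he, fun hb => hb.elim h1 h2, fun hb => hb.elim h3 fun hb => h4 ?_⟩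
    rwa [mul_inv_rev, mul_assoc]

end NormalSubgroup

end Cfsg.Agent.H9
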