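import Cfsg.Agent.H9.SLQuasi

set_option autoImplicit false

namespace Cfsg.Agent.H9

open Matrix

variable {ι F : Type*} [Fintype ι] [DecidableEq ι] [Field F] (i0 : ι)

/-- The indices different from `i0`. -/
abbrev Rest : Type _ := {k : ι // k ≠ i0}

/-- Matrices of block shape `(n-1, 1)` with respect to `i0`. -/
def InC (M : Matrix ι ι F) : Prop := ∀ k, k ≠ i0 → M k i0 = 0 ∧ M i0 k = 0

/-- `diag(B, 1)`. -/
def blockEmb (B : Matrix (Rest i0) (Rest i0) F) : Matrix ι ι F :=
  (fromBlocks B 0 0 (1 : Matrix {k : ι // ¬ k ≠ i0} {k : ι // ¬ k ≠ i0} F)).submatrix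
    (Equiv.sumCompl fun k : ι => k ≠ i0).symm (Equiv.sumCompl fun k : ι => k ≠ i0).symm

theorem blockEmb_mul (B B' : Matrix (Rest i0) (Rest i0) F) :
    blockEmb i0 (B * B') = blockEmb i0 B * blockEmb i0 B' := by
  rw [blockEmb, blockEmb, blockEmb, submatrix_mul_equiv, fromBlocks_multiply]
  simp

theorem blockEmb_one : blockEmb (F := F) i0 1 = 1 := by
  rw [blockEmb, fromBlocks_one, submatrix_one_equiv]

theorem det_blockEmb (B : Matrix (Rest i0) (Rest i0) F) : (blockEmb i0 B).det = B.det := by
  rw [blockEmb, det_submatrix_equiv_self, det_fromBlocks_zero₂₁, det_one, mul_one]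

theorem blockEmb_apply (B : Matrix (Rest i0) (Rest i0) F) (a b : ι) :
    blockEmb i0 B a b = if ha : a ≠ i0 then (if hb : b ≠ i0 then B ⟨a, ha⟩ ⟨b, hb⟩ else 0)
      else (if b = i0 then 1 else 0) := by
  rw [blockEmb, submatrix_apply]
  by_cases ha : a ≠ i0 <;> by_cases hb : b ≠ i0
  · simp [ha, hb]
  · simp [ha, hb]
  · rw [Equiv.sumCompl_symm_apply_of_neg (p := fun k => k ≠ i0) ha,
      Equiv.sumCompl_symm_apply_of_pos (p := fun k => k ≠ i0) hb]
    simp [ha, hb]
  · rw [Equiv.sumCompl_symm_apply_of_neg (p := fun k => k ≠ i0) ha,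
      Equiv.sumCompl_symm_apply_of_neg (p := fun k => k ≠ i0) hb]
    have ha' : a = i0 := not_not.mp ha
    have hb' : b = i0 := not_not.mp hb
    subst ha' hb'
    simp

theorem inC_blockEmb (B : Matrix (Rest i0) (Rest i0) F) : InC i0 (blockEmb i0 B) := fun k hk =>
  ⟨by simp [blockEmb_apply, hk], by simp [blockEmb_apply, hk]⟩

theorem blockEmb_apply_self (B : Matrix (Rest i0) (Rest i0) F) : blockEmb i0 B i0 i0 = 1 := by
  simp [blockEmb_apply]

theorem blockEmb_injective : Function.Injective (blockEmb (F := F) i0) := by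
  intro B B' h
  ext a b
  have := congrFun (congrFun h a) b
  simpa [blockEmb_apply, a.2, b.2] using this

omit [Fintype ι] [DecidableEq ι] in
/-- The restriction to the large block. -/
def blockRes (M : Matrix ι ι F) : Matrix (Rest i0) (Rest i0) F := M.submatrix Subtype.val Subtype.val

theorem eq_blockEmb {M : Matrix ι ι F} (hM : InC i0 M) (h1 : M i0 i0 = 1) :
    M = blockEmb i0 (blockRes i0 M) := by
  ext a b
  rw [blockEmb_apply]
  by_cases ha : a ≠ i0 <;> by_cases hb : b ≠ i0
  · simp [ha, hb, blockRes]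
  · rw [not_not] at hb; subst hb
    simp [ha, (hM a ha).1]
  · rw [not_not] at ha; subst ha
    simp [hb, (hM b hb).2]
  · rw [not_not] at ha hb; subst ha hb
    simp [h1]

theorem InC.mul_apply_self {A B : Matrix ι ι F} (hB : InC i0 B) :
    (A * B) i0 i0 = A i0 i0 * B i0 i0 := by
  rw [Matrix.mul_apply, Finset.sum_eq_single i0]
  · intro k _ hk; rw [(hB k hk).1, mul_zero]
  · exact fun h => absurd (Finset.mem_univ i0) h

/-- Block shape is the same as commuting with a diagonal matrix separating `i0`. -/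
theorem commute_diag_iff (d : ι → F) (c c' : F) (hc : c ≠ c') (hd : ∀ k, k ≠ i0 → d k = c)
    (hd0 : d i0 = c') (M : Matrix ι ι F) :
    diagonal d * M = M * diagonal d ↔ InC i0 M := by
  constructor
  · intro h k hk
    have h1 := congrFun (congrFun h k) i0
    have h2 := congrFun (congrFun h i0) k
    rw [diagonal_mul, mul_diagonal, hd k hk, hd0] at h1 h2
    constructor
    · have : (c - c') * M k i0 = 0 := by rw [sub_mul, h1]; ring
      exact (mul_eq_zero.mp this).resolve_left (sub_ne_zero.mpr hc)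
    · have : (c' - c) * M i0 k = 0 := by rw [sub_mul, h2]; ring
      exact (mul_eq_zero.mp this).resolve_left (sub_ne_zero.mpr (Ne.symm hc))
  · intro h
    ext a b
    rw [diagonal_mul, mul_diagonal]
    by_cases ha : a = i0 <;> by_cases hb : b = i0
    · subst ha hb; ring
    · subst ha; rw [(h b hb).2]; ring
    · subst hb; rw [(h a ha).1]; ring
    · rw [hd a ha, hd b hb]; ring

/-- A block matrix commuting with all `diag(B, 1)`, `det B = 1`, is scalar on the large block. -/
theorem scalar_of_commute {M : Matrix ι ι F} (hM : InC i0 M)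
    (h : ∀ B : Matrix (Rest i0) (Rest i0) F, B.det = 1 → blockEmb i0 B * M = M * blockEmb i0 B) :
    ∃ r : F, ∀ a b, a ≠ i0 → b ≠ i0 → M a b = if a = b then r else 0 := by
  have htr : ∀ k l : Rest i0, k ≠ l →
      blockEmb i0 (Matrix.transvection k l (1 : F)) = Matrix.transvection (k : ι) (l : ι) 1 := by
    intro k l hkl
    ext a b
    rw [blockEmb_apply]
    simp only [Matrix.transvection, Matrix.add_apply, Matrix.single_apply, Matrix.one_apply]
    by_cases ha : a ≠ i0 <;> by_cases hb : b ≠ i0
    · simp [ha, hb, Subtype.ext_iff]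
    · rw [not_not] at hb; subst hb
      simp [ha, l.2]
    · rw [not_not] at ha; subst ha
      simp [hb, Ne.symm hb, k.2]
    · rw [not_not] at ha hb; subst ha hb
      simp [k.2]
  have hkey : ∀ k l : ι, k ≠ i0 → l ≠ i0 → k ≠ l →
      M k k = M l l ∧ ∀ a, a ≠ k → M a k = 0 := by
    intro k l hk hl hkl
    have hkl' : (⟨k, hk⟩ : Rest i0) ≠ ⟨l, hl⟩ := fun h => hkl (congrArg Subtype.val h)
    have hc := h _ (Matrix.det_transvection_of_ne ⟨k, hk⟩ ⟨l, hl⟩ hkl' 1)
    rw [htr _ _ hkl'] at hc
    constructor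
    · have h1 := congrFun (congrFun hc k) l
      rw [Matrix.transvection_mul_apply_same, Matrix.mul_transvection_apply_same, one_mul, one_mul,
        add_right_inj] at h1
      exact h1.symm
    · intro a ha
      have h1 := congrFun (congrFun hc a) l
      rw [Matrix.transvection_mul_apply_of_ne (ha := ha), Matrix.mul_transvection_apply_same,
        one_mul, left_eq_add] at h1
      exact h1
  by_cases hne : ∃ a0, a0 ≠ i0
  · obtain ⟨a0, ha0⟩ := hne
    refine ⟨M a0 a0, fun a b ha hb => ?_⟩
    by_cases hab : a = b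
    · subst hab
      rw [if_pos rfl]
      by_cases h0 : a = a0
      · rw [h0]
      · exact (hkey a a0 ha ha0 h0).1
    · rw [if_neg hab]
      exact (hkey b a hb ha (Ne.symm hab)).2 a hab
  · push Not at hne
    exact ⟨0, fun a b ha _ => absurd (hne a) ha⟩

end Cfsg.Agent.H9
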