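import Cfsg.Agent.H9.PointBlock

set_option autoImplicit false

namespace Cfsg.Agent.H9

open Matrix

variable {ι F : Type*} [Fintype ι] [DecidableEq ι] [Field F] (i0 : ι)

/-- `B ↦ diag(B, 1)` on special linear groups. -/
def slBlock : Matrix.SpecialLinearGroup (Rest i0) F →* Matrix.SpecialLinearGroup ι F where
  toFun B := ⟨blockEmb i0 B.1, by rw [det_blockEmb]; exact B.2⟩
  map_one' := Subtype.ext (blockEmb_one i0)
  map_mul' B B' := Subtype.ext (blockEmb_mul i0 B.1 B'.1)

theorem slBlock_injective : Function.Injective (slBlock (F := F) i0) := fun _ _ h =>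
  Subtype.ext (blockEmb_injective i0 (congrArg Subtype.val h))

theorem exists_slBlock_eq {g : Matrix.SpecialLinearGroup ι F} (hg : InC i0 g.1) (h1 : g.1 i0 i0 = 1) :
    ∃ B, slBlock i0 B = g := by
  refine ⟨⟨blockRes i0 g.1, ?_⟩, Subtype.ext (eq_blockEmb i0 hg h1).symm⟩
  have := congrArg Matrix.det (eq_blockEmb i0 hg h1)
  rw [det_blockEmb, g.2] at this
  exact this.symm

theorem card_rest {m : ℕ} (h : Fintype.card ι = m + 1) : Fintype.card (Rest i0) = m := by
  rw [Fintype.card_subtype_compl, Fintype.card_subtype_eq, h]; rfl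

end Cfsg.Agent.H9
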