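import Cfsg.Agent.H9.RamifiedOrbit
import Cfsg.Agent.H1.HallSystems
import Cfsg.Agent.S0144
import Cfsg.Prelude.Def_Characters
import Mathlib.GroupTheory.Sylow
import Mathlib.GroupTheory.GroupAction.Quotient

/-!
# Complements in quotients of a group with a fully ramified character
-/

set_option autoImplicit false
set_option linter.unusedSectionVars false

open Cfsg Finset
open scoped ComplexConjugate

namespace Cfsg.Agent.H9.Ramified

universe u

variable {G : Type u} [Group G] [Finite G]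

theorem relIndex_mul_index_sup (S K : Subgroup G) [K.Normal] :
    S.relIndex K * (S ⊔ K).index = S.index := by
  have h1 : (S ⊓ K).index = S.relIndex K * K.index := by
    rw [← Subgroup.inf_relIndex_right S K, Subgroup.relIndex_mul_index inf_le_right]
  have h2 : (S ⊓ K).index = K.relIndex S * S.index := by
    rw [← Subgroup.inf_relIndex_right K S, inf_comm K S, Subgroup.relIndex_mul_index inf_le_left]
  have h3 : K.relIndex S * (S ⊔ K).index = K.index := by
    rw [← Subgroup.relIndex_sup_right S K, Subgroup.relIndex_mul_index le_sup_right]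
  have h4 : K.relIndex S ≠ 0 := (K.subgroupOf S).index_ne_zero_of_finite
  apply mul_left_cancel₀ h4
  calc K.relIndex S * (S.relIndex K * (S ⊔ K).index)
      = S.relIndex K * (K.relIndex S * (S ⊔ K).index) := by ring
    _ = (S ⊓ K).index := by rw [h3, h1]
    _ = K.relIndex S * S.index := h2

/-- Conjugation by the normalizer, on irreducible characters of a subgroup. -/
noncomputable def conjAct (P0 : Subgroup G) :
    MulAction (Subgroup.normalizer (P0 : Set G)) (IrrCharacter P0) where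
  smul x ω := ⟨(ω : P0 → ℂ) ∘ (P0.normalizerMonoidHom x⁻¹),
    H13.isIrrCharacter_comp_equiv (P0.normalizerMonoidHom x⁻¹) ω.2⟩
  one_smul ω := Subtype.ext (funext fun n => by
    show (ω : P0 → ℂ) (P0.normalizerMonoidHom (1 : Subgroup.normalizer (P0 : Set G))⁻¹ n) = _
    rw [inv_one, map_one]; rfl)
  mul_smul x y ω := Subtype.ext (funext fun n => by
    show (ω : P0 → ℂ) (P0.normalizerMonoidHom (x * y)⁻¹ n)
      = (ω : P0 → ℂ) (P0.normalizerMonoidHom y⁻¹ (P0.normalizerMonoidHom x⁻¹ n))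
    rw [mul_inv_rev, map_mul]; rfl)

/-- The `p`-preimage data attached to a fully ramified character. -/
structure PData (p : ℕ) (Z K P P0 : Subgroup G) [Fintype Z] (θ : Z → ℂ) (a : ℕ) : Prop where
  hZ0 : Z ≤ P0
  h0P : P0 ≤ P
  hinf : P ⊓ K = P0
  hindex : ¬ p ∣ P.index
  hcard : Nat.card P = (p ^ a) ^ 2 * Nat.card Z
  hnorm : Subgroup.normalizer (P0 : Set G) ⊔ K = ⊤
  htrans : ∀ ω ω' : IrrCharacter P0,
    classInner (H13.resTo hZ0 (ω : P0 → ℂ)) θ ≠ 0 →
    classInner (H13.resTo hZ0 (ω' : P0 → ℂ)) θ ≠ 0 →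
      ∃ x ∈ P, ∀ n m : P0, (m : G) = x * n * x⁻¹ → (ω : P0 → ℂ) m = (ω' : P0 → ℂ) n

variable [Fintype G]

/-- Construction of the data and the constituent numerics. -/
theorem exists_data (p : ℕ) [hp : Fact p.Prime] (Z K : Subgroup G) [Z.Normal] [K.Normal]
    [Fintype Z] (hZK : Z ≤ K) {χ : G → ℂ} (hχ : IsIrrCharacter G χ) {θ : Z → ℂ}
    (hθ : IsIrrCharacter Z θ) (e : ℕ) (hidx : e ^ 2 = Z.index)
    (hres : ∀ z : Z, χ z = (e : ℂ) * θ z) :
    (∀ g : G, g ∉ Z → χ g = 0) ∧ (∀ g : G, H13.twist Z g θ = θ) ∧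
    ∃ (P P0 : Subgroup G) (a q : ℕ), ∃ D : PData p Z K P P0 θ a,
      e = p ^ a * q ∧ ¬ p ∣ q ∧ IsPGroup p ((P ⊓ K).map (QuotientGroup.mk' Z)) ∧
      ∀ (ω : IrrCharacter P0), classInner (H13.resTo D.hZ0 (ω : P0 → ℂ)) θ ≠ 0 →
        ∃ m E : ℕ, (ω : P0 → ℂ) 1 = (E : ℂ) * θ 1 ∧
          Nat.card {ξ : IrrCharacter P0 //
              classInner (H13.resTo D.hZ0 (ξ : P0 → ℂ)) θ ≠ 0} * m ^ 2 = P0.relIndex P ∧
          Nat.card {ξ : IrrCharacter P0 //
              classInner (H13.resTo D.hZ0 (ξ : P0 → ℂ)) θ ≠ 0} * m * E = p ^ a ∧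
          (IsCyclic (P.map (QuotientGroup.mk' K)) → m = 1) := by
  classical
  have hpp := hp.out
  have he0 : e ≠ 0 := fun h0 => Subgroup.index_ne_zero_of_finite (by rw [← hidx, h0]; rfl)
  have hθc := H12.isCharacter_of_isIrrCharacter hθ
  have hχc := H12.isCharacter_of_isIrrCharacter hχ
  have hχcl := H12.IsCharacter.isClassFunction hχc
  have hinv : ∀ g : G, H13.twist Z g θ = θ := by
    intro g
    funext n
    have h2 := congrFun (H13.twist_res Z hχcl g) n
    simp only [H13.twist_apply, hres] at h2 ⊢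
    exact mul_left_cancel₀ (Nat.cast_ne_zero.2 he0) h2
  have hvan : ∀ g : G, g ∉ Z → χ g = 0 := by
    haveI : Fintype (⊤ : Subgroup G) := Fintype.ofFinite _
    have hχ' := H12.IsIrrCharacter.comp_surjective hχ
      (f := (Subgroup.topEquiv : (⊤ : Subgroup G) ≃* G).toMonoidHom)
      Subgroup.topEquiv.surjective
    have := (sq_mult_le (le_top : Z ≤ ⊤) hθ hχ' e (fun z => hres z)).2
      (by rw [Subgroup.card_top, hidx, mul_comm, Subgroup.card_mul_index])
    exact fun g hg => this ⟨g, Subgroup.mem_top g⟩ hg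
  refine ⟨hvan, hinv, ?_⟩
  -- the arithmetic of `e`
  set a := e.factorization p with ha
  set q := e / p ^ a with hq
  have heq : e = p ^ a * q := (Nat.ordProj_mul_ordCompl_eq_self e p).symm
  have hpq : ¬ p ∣ q := Nat.not_dvd_ordCompl hpp he0
  -- the preimages
  let π := QuotientGroup.mk' Z
  have hπ : Function.Surjective π := QuotientGroup.mk'_surjective Z
  haveI : (K.map π).Normal := Subgroup.Normal.map inferInstance π hπ
  obtain ⟨S⟩ : Nonempty (Sylow p (G ⧸ Z)) := inferInstance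
  let P : Subgroup G := (S : Subgroup (G ⧸ Z)).comap π
  let B : Subgroup (G ⧸ Z) := (S : Subgroup (G ⧸ Z)) ⊓ K.map π
  let P0 : Subgroup G := B.comap π
  have hker : π.ker = Z := QuotientGroup.ker_mk' Z
  have hKc : (K.map π).comap π = K := by
    rw [Subgroup.comap_map_eq, hker, sup_eq_left.2 hZK]
  have hinf : P ⊓ K = P0 := by
    conv_lhs => rw [← hKc]
    rw [← Subgroup.comap_inf]
  have hZ0 : Z ≤ P0 := fun z hz => by
    show π z ∈ B
    rw [show π z = 1 from (QuotientGroup.eq_one_iff z).2 hz]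
    exact B.one_mem
  have h0P : P0 ≤ P := hinf ▸ inf_le_left
  have hindex : ¬ p ∣ P.index := by
    rw [Subgroup.index_comap_of_surjective _ hπ]
    exact S.not_dvd_index
  have hcard : Nat.card P = (p ^ a) ^ 2 * Nat.card Z := by
    have h1 := Subgroup.card_mul_index (S : Subgroup (G ⧸ Z))
    have h2 : Nat.card (S : Subgroup (G ⧸ Z)) = (p ^ a) ^ 2 := by
      rw [← pow_mul, show Nat.card (S : Subgroup (G ⧸ Z)) = p ^ ((Nat.card (G ⧸ Z)).factorization p)
        from S.card_eq_multiplicity, ← Subgroup.index_eq_card, ← hidx, Nat.factorization_pow]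
      simp [ha, mul_comm]
    have h3 := Subgroup.card_mul_index P
    rw [Subgroup.index_comap_of_surjective _ hπ, Subgroup.card_eq_card_quotient_mul_card_subgroup Z,
      ← h1, h2] at h3
    have h4 : (S : Subgroup (G ⧸ Z)).index ≠ 0 := Subgroup.index_ne_zero_of_finite
    apply mul_right_cancel₀ h4
    rw [h3]; ring
  -- the Frattini argument
  have hnorm : Subgroup.normalizer (P0 : Set G) ⊔ K = ⊤ := by
    have hBp : IsPGroup p (B.subgroupOf (K.map π)) :=
      (S.isPGroup'.to_le (inf_le_left : B ≤ _)).comap_subtype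
    have hBi : ¬ p ∣ (B.subgroupOf (K.map π)).index := by
      show ¬ p ∣ B.relIndex (K.map π)
      rw [Subgroup.inf_relIndex_right]
      exact fun h => S.not_dvd_index
        (dvd_trans h ⟨_, (relIndex_mul_index_sup (S : Subgroup (G ⧸ Z)) (K.map π)).symm⟩)
    have h1 := Sylow.normalizer_sup_eq_top (hBp.toSylow hBi)
    rw [show ((hBp.toSylow hBi : Sylow p (K.map π)) : Subgroup (K.map π))
        = B.subgroupOf (K.map π) from rfl, Subgroup.subgroupOf_map_subtype,
      inf_of_le_left (inf_le_right : B ≤ K.map π)] at h1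
    have h2 := congrArg (Subgroup.comap π) h1
    rw [Subgroup.comap_top, ← Subgroup.comap_sup_eq _ _ _ hπ,
      Subgroup.comap_normalizer_eq_of_surjective _ hπ, hKc] at h2
    exact h2
  -- the character of `P`
  haveI : Fintype P := Fintype.ofFinite _
  haveI : Fintype P0 := Fintype.ofFinite _
  have hZP : Z ≤ P := hZ0.trans h0P
  have hform : ∀ ψ : P → ℂ, (Nat.card P : ℂ) * classInner (fun t : P => χ t) ψ
      = (e : ℂ) * (Nat.card Z : ℂ) * classInner θ (H13.resTo hZP ψ) := fun ψ =>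
    inner_formula hZP _ (fun t ht => hvan _ ht) θ e (fun z => hres z) ψ
  obtain ⟨ψ, hψ⟩ : ∃ ψ : IrrCharacter P, classInner (fun t : P => χ t) ψ ≠ 0 := by
    by_contra hall
    push Not at hall
    have h1 := H12.eq_zero_of_classInner_irr_eq_zero
      (H12.IsCharacter.isClassFunction (H12.IsCharacter.res hχc P)) hall
    exact H12.irr_apply_one_ne_zero (⟨χ, hχ⟩ : IrrCharacter G) (congrFun h1 1)
  obtain ⟨n, hn⟩ := H12.IsCharacter.classInner_nat
    (H13.isCharacter_resTo hZP (H12.isCharacter_irr ψ)) hθc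
  obtain ⟨k, hk⟩ := H12.IsCharacter.classInner_nat (H12.IsCharacter.res hχc P)
    (H12.isCharacter_irr ψ)
  have hnk : Nat.card P * k = e * Nat.card Z * n := by
    have h1 := hform ψ
    rw [hk, ← H12.conj_classInner (H13.resTo hZP (ψ : P → ℂ)) θ, hn, Complex.conj_natCast] at h1
    exact_mod_cast h1
  have hk0 : k ≠ 0 := fun h0 => hψ (by rw [hk, h0, Nat.cast_zero])
  have hn0 : n ≠ 0 := by
    rintro rfl
    rw [mul_zero] at hnk
    rcases mul_eq_zero.1 hnk with h | h
    · exact Nat.card_pos.ne' h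
    · exact hk0 h
  have hψr := H13.resTo_eq_of_invariant Z hZP hθ (fun g _ => hinv g) ψ.2
    (by rw [hn]; exact Nat.cast_ne_zero.2 hn0)
  rw [hn] at hψr
  have hψz : ∀ z : Z, (ψ : P → ℂ) (Subgroup.inclusion hZP z) = (n : ℂ) * θ z := fun z =>
    congrFun hψr z
  have hna : n = p ^ a := by
    have h1 : (p ^ a) * k = q * n := by
      have hpa : 0 < p ^ a * Nat.card Z := Nat.mul_pos (pow_pos hpp.pos _) Nat.card_pos
      apply Nat.eq_of_mul_eq_mul_left hpa
      calc p ^ a * Nat.card Z * (p ^ a * k) = (p ^ a) ^ 2 * Nat.card Z * k := by ring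
        _ = e * Nat.card Z * n := by rw [← hcard, hnk]
        _ = p ^ a * Nat.card Z * (q * n) := by rw [heq]; ring
    have h2 : p ^ a ∣ n :=
      (Nat.Coprime.pow_left a (hpp.coprime_iff_not_dvd.2 hpq)).dvd_of_dvd_mul_left ⟨k, h1.symm⟩
    have h3 : n ^ 2 ≤ (p ^ a) ^ 2 := by
      have := (sq_mult_le hZP hθ ψ.2 n hψz).1
      rw [hcard] at this
      exact Nat.le_of_mul_le_mul_right this Nat.card_pos
    exact le_antisymm ((Nat.pow_le_pow_iff_left two_ne_zero).1 h3)
      (Nat.le_of_dvd (Nat.pos_of_ne_zero hn0) h2)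
  subst hna
  -- move into the group `P`
  set Z' := Z.subgroupOf P with hZ'
  set P0' := P0.subgroupOf P with hP0'
  haveI : P0'.Normal := by
    rw [hP0', ← hinf, Subgroup.inf_subgroupOf_left]
    infer_instance
  haveI : Fintype Z' := Fintype.ofFinite _
  haveI : Fintype P0' := Fintype.ofFinite _
  let eZ : Z' ≃* Z := Subgroup.subgroupOfEquivOfLe hZP
  let e0 : P0' ≃* P0 := Subgroup.subgroupOfEquivOfLe h0P
  have hθ' : IsIrrCharacter Z' (θ ∘ eZ) := H13.isIrrCharacter_comp_equiv eZ hθ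
  have h' : Z' ≤ P0' := fun x hx => hZ0 hx
  have hd : (p ^ a) ^ 2 * Nat.card Z' = Nat.card P := by
    rw [Nat.card_congr eZ.toEquiv, hcard]
  obtain ⟨htr, hdat⟩ := orbit_data Z' P0' h' hθ' ψ.2 (p ^ a) hd (fun z => hψz (eZ z))
  have hpull : ∀ ω : IrrCharacter P0,
      classInner (H13.resTo h' ((ω : P0 → ℂ) ∘ e0)) (θ ∘ eZ)
        = classInner (H13.resTo hZ0 (ω : P0 → ℂ)) θ := fun ω =>
    H13.classInner_comp_equiv eZ (H13.resTo hZ0 (ω : P0 → ℂ)) θ
  let up : IrrCharacter P0 → IrrCharacter P0' := fun ω =>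
    ⟨(ω : P0 → ℂ) ∘ e0, H13.isIrrCharacter_comp_equiv e0 ω.2⟩
  have hcongr : Nat.card {ξ : IrrCharacter P0 //
        classInner (H13.resTo hZ0 (ξ : P0 → ℂ)) θ ≠ 0}
      = Nat.card {ξ : IrrCharacter P0' //
        classInner (H13.resTo h' (ξ : P0' → ℂ)) (θ ∘ eZ) ≠ 0} := by
    let down : IrrCharacter P0' → IrrCharacter P0 := fun ω =>
      ⟨(ω : P0' → ℂ) ∘ e0.symm, H13.isIrrCharacter_comp_equiv e0.symm ω.2⟩
    have hud : ∀ ω, up (down ω) = ω := fun ω => Subtype.ext (funext fun x => by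
      simp [up, down])
    have hdu : ∀ ω, down (up ω) = ω := fun ω => Subtype.ext (funext fun x => by
      simp [up, down])
    refine Nat.card_congr (Equiv.subtypeEquiv ⟨up, down, hdu, hud⟩ fun ω => ?_)
    show _ ↔ classInner (H13.resTo h' ((ω : P0 → ℂ) ∘ e0)) (θ ∘ eZ) ≠ 0
    rw [hpull]
  have hrel : P0.relIndex P * Nat.card P0' = Nat.card P := by
    rw [mul_comm]; exact Subgroup.card_mul_index P0'
  refine ⟨P, P0, a, q, ⟨hZ0, h0P, hinf, hindex, hcard, hnorm, ?_⟩, heq, hpq, ?_, ?_⟩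
  · intro ω ω' h1 h2
    obtain ⟨x, hx⟩ := htr (up ω) (up ω')
      (by show classInner (H13.resTo h' ((ω : P0 → ℂ) ∘ e0)) (θ ∘ eZ) ≠ 0
          rw [hpull]; exact h1)
      (by show classInner (H13.resTo h' ((ω' : P0 → ℂ) ∘ e0)) (θ ∘ eZ) ≠ 0
          rw [hpull]; exact h2)
    refine ⟨x, x.2, fun n m hm => ?_⟩
    have h3 := congrFun hx (e0.symm n)
    rw [H13.twist_apply] at h3
    simp only [up, Function.comp_apply, MulEquiv.apply_symm_apply] at h3
    rw [← h3]
    refine congrArg (ω : P0 → ℂ) (Subtype.ext ?_)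
    exact hm
  · rw [hinf, Subgroup.map_comap_eq_self_of_surjective hπ]
    exact S.isPGroup'.to_le inf_le_left
  · intro ω hω
    obtain ⟨m, E, hm, hE, hc1, hc2⟩ := hdat (up ω)
      (by show classInner (H13.resTo h' ((ω : P0 → ℂ) ∘ e0)) (θ ∘ eZ) ≠ 0
          rw [hpull]; exact hω)
    refine ⟨m, E, ?_, ?_, ?_, fun hcyc => ?_⟩
    · have h3 : (up ω : P0' → ℂ) 1 = (ω : P0 → ℂ) 1 := congrArg (ω : P0 → ℂ) (map_one e0)
      rw [← h3, hE]
      exact congrArg (fun t => (E : ℂ) * t) (congrArg θ (map_one eZ))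
    · rw [hcongr]
      apply Nat.eq_of_mul_eq_mul_right (Nat.card_pos (α := P0'))
      rw [hc1, hrel]
    · rw [hcongr]; exact hc2
    · have hm0 : m ≠ 0 := by
        rintro rfl
        simp at hc2
        exact pow_ne_zero _ hpp.ne_zero hc2.symm
      have hv : ∀ g : P, g ∉ P0' → (ψ : P → ℂ) g = 0 := fun g hg =>
        (sq_mult_le hZP hθ ψ.2 (p ^ a) hψz).2 hcard.symm g fun hz => hg (hZ0 hz)
      let g : P →* P.map (QuotientGroup.mk' K) := (QuotientGroup.mk' K).subgroupMap P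
      have hg : g.ker = P0' := by
        ext x
        rw [MonoidHom.mem_ker, Subgroup.mem_subgroupOf, ← hinf, Subgroup.mem_inf]
        constructor
        · intro h
          exact ⟨x.2, (QuotientGroup.eq_one_iff (x : G)).1 (congrArg Subtype.val h)⟩
        · intro h
          exact Subtype.ext ((QuotientGroup.eq_one_iff (x : G)).2 h.2)
      haveI := hcyc
      have hcyc' : IsCyclic (↥P ⧸ P0') :=
        isCyclic_of_injective ((QuotientGroup.kerLift g).comp
          (QuotientGroup.quotientMulEquivOfEq hg.symm).toMonoidHom)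
          ((QuotientGroup.kerLift_injective g).comp (MulEquiv.injective _))
      have := mult_eq_one_of_cyclic P0' hcyc' ψ.2 hv (up ω).2
        (by rw [hm]; exact Nat.cast_ne_zero.2 hm0)
      rw [hm] at this
      exact_mod_cast this

/-- A transitive orbit of size the `p`-part of `|G/K|` gives a `p`-complement of `G/K`. -/
theorem exists_complement (p : ℕ) [hp : Fact p.Prime] (Z K P P0 : Subgroup G) [Z.Normal]
    [K.Normal] [Fintype Z] [Fintype P0] {θ : Z → ℂ} {a : ℕ}
    (hinv : ∀ g : G, H13.twist Z g θ = θ) (D : PData p Z K P P0 θ a)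
    (ω : IrrCharacter P0) (hω : classInner (H13.resTo D.hZ0 (ω : P0 → ℂ)) θ ≠ 0)
    (hfree : Nat.card {ξ : IrrCharacter P0 //
      classInner (H13.resTo D.hZ0 (ξ : P0 → ℂ)) θ ≠ 0} = P0.relIndex P) :
    ∃ M : Subgroup (G ⧸ K), M.index = p ^ (Nat.card (G ⧸ K)).factorization p := by
  classical
  have hpp := hp.out
  set N := Subgroup.normalizer (P0 : Set G) with hN
  letI := conjAct P0
  let Q : IrrCharacter P0 → Prop := fun ξ => classInner (H13.resTo D.hZ0 (ξ : P0 → ℂ)) θ ≠ 0
  have hPN : P ≤ N := by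
    have hn : (P0.subgroupOf P).Normal := by
      rw [← D.hinf, Subgroup.inf_subgroupOf_left]; infer_instance
    exact (Subgroup.normal_subgroupOf_iff_le_normalizer D.h0P).1 hn
  have hQ : ∀ (x : N) (ξ : IrrCharacter P0), Q ξ → Q (x • ξ) := by
    intro x ξ hξ
    show classInner (H13.resTo D.hZ0 ((x • ξ : IrrCharacter P0) : P0 → ℂ)) θ ≠ 0
    have h1 : H13.resTo D.hZ0 ((x • ξ : IrrCharacter P0) : P0 → ℂ)
        = H13.twist Z ((x⁻¹ : N) : G) (H13.resTo D.hZ0 (ξ : P0 → ℂ)) := by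
      funext z
      show (ξ : P0 → ℂ) (P0.normalizerMonoidHom x⁻¹ (Subgroup.inclusion D.hZ0 z)) = _
      exact congrArg (ξ : P0 → ℂ) (Subtype.ext rfl)
    have h2 := H13.classInner_twist Z ((x⁻¹ : N) : G) (H13.resTo D.hZ0 (ξ : P0 → ℂ)) θ
    rw [hinv] at h2
    rw [h1, h2]
    exact hξ
  letI : MulAction N (Subtype Q) :=
    { smul := fun x ξ => ⟨x • ξ.1, hQ x ξ.1 ξ.2⟩
      one_smul := fun ξ => Subtype.ext (one_smul N ξ.1)
      mul_smul := fun x y ξ => Subtype.ext (mul_smul x y ξ.1) }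
  haveI : MulAction.IsPretransitive N (Subtype Q) := ⟨fun ξ ξ' => by
    obtain ⟨x, hxP, hx⟩ := D.htrans ξ.1 ξ'.1 ξ.2 ξ'.2
    refine ⟨(⟨x, hPN hxP⟩ : N)⁻¹, Subtype.ext (Subtype.ext (funext fun n => ?_))⟩
    show (ξ.1 : P0 → ℂ) (P0.normalizerMonoidHom (⟨x, hPN hxP⟩ : N)⁻¹⁻¹ n) = _
    rw [inv_inv]
    exact hx n _ rfl⟩
  set o : Subtype Q := ⟨ω, hω⟩ with ho
  set S := MulAction.stabilizer N o with hS
  have hSi : S.index = P0.relIndex P := by
    rw [hS, MulAction.index_stabilizer_of_transitive, ← hfree]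
  set L := K.subgroupOf N with hL
  have hP0S : P0.subgroupOf N ≤ S := by
    intro x hx
    rw [hS, MulAction.mem_stabilizer_iff]
    refine Subtype.ext (Subtype.ext (funext fun n => ?_))
    show (ω : P0 → ℂ) (P0.normalizerMonoidHom x⁻¹ n) = (ω : P0 → ℂ) n
    refine Eq.trans (congrArg (ω : P0 → ℂ) (Subtype.ext ?_))
      (H12.IsCharacter.isClassFunction (H12.isCharacter_of_isIrrCharacter ω.2) n ⟨_, P0.inv_mem hx⟩)
    rfl
  -- the index of `P0` in `P` is a power of `p`, that of `P0` in `K` is prime to `p`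
  have hc : ∃ c, P0.relIndex P = p ^ c := by
    have h1 : P0.relIndex P ∣ (p ^ a) ^ 2 := by
      have h2 : Z.relIndex P = (p ^ a) ^ 2 := by
        apply Nat.eq_of_mul_eq_mul_right (Nat.card_pos (α := Z))
        rw [← D.hcard, mul_comm, ← Subgroup.relIndex_bot_left, ← Subgroup.relIndex_bot_left P,
          Subgroup.relIndex_mul_relIndex ⊥ Z P bot_le (D.hZ0.trans D.h0P)]
      rw [← h2, ← Subgroup.relIndex_mul_relIndex Z P0 P D.hZ0 D.h0P]
      exact dvd_mul_left _ _
    rw [← pow_mul] at h1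
    obtain ⟨c, -, hc⟩ := (Nat.dvd_prime_pow hpp).1 h1
    exact ⟨c, hc⟩
  obtain ⟨c, hc⟩ := hc
  have hK0 : ¬ p ∣ P0.relIndex K := by
    rw [← D.hinf, Subgroup.inf_relIndex_right]
    exact fun h => D.hindex (dvd_trans h ⟨_, (relIndex_mul_index_sup P K).symm⟩)
  have hLS : L ≤ S := by
    rw [← Subgroup.relIndex_eq_one]
    have h1 : S.relIndex L ∣ p ^ c := by
      rw [← hc, ← hSi]
      exact ⟨_, (relIndex_mul_index_sup S L).symm⟩
    have h2 : S.relIndex L ∣ P0.relIndex K := by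
      refine dvd_trans (Subgroup.relIndex_dvd_of_le_left L hP0S) ?_
      rw [hL]
      have h3 : (P0.subgroupOf N).relIndex (K.subgroupOf N) = P0.relIndex (K ⊓ N) :=
        by rw [← Subgroup.inf_subgroupOf_right K N, Subgroup.relIndex_subgroupOf inf_le_right]
      show (P0.subgroupOf N).relIndex (K.subgroupOf N) ∣ P0.relIndex K
      rw [h3]
      exact ⟨_, (Subgroup.relIndex_mul_relIndex P0 (K ⊓ N) K
        (le_inf (D.hinf ▸ inf_le_right) Subgroup.le_normalizer) inf_le_left).symm⟩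
    obtain ⟨j, -, hj⟩ := (Nat.dvd_prime_pow hpp).1 h1
    rcases Nat.eq_zero_or_pos j with rfl | hj0
    · rwa [pow_zero] at hj
    · exact absurd (dvd_trans (by rw [hj]; exact dvd_pow_self p hj0.ne') h2) hK0
  -- into the quotient
  let f : N →* G ⧸ K := (QuotientGroup.mk' K).comp N.subtype
  have hf : Function.Surjective f := by
    rw [← MonoidHom.range_eq_top, MonoidHom.range_comp, Subgroup.range_subtype, eq_top_iff,
      ← Subgroup.map_top_of_surjective _ (QuotientGroup.mk'_surjective K), ← D.hnorm,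
      Subgroup.map_sup, sup_le_iff]
    refine ⟨le_rfl, ?_⟩
    rw [(Subgroup.map_eq_bot_iff _).2 (QuotientGroup.ker_mk' K).ge]
    exact bot_le
  have hfk : f.ker ≤ S := fun x hx => hLS ((QuotientGroup.eq_one_iff (x : G)).1 hx)
  refine ⟨S.map f, ?_⟩
  rw [Subgroup.index_map_eq S hf hfk, hSi, hc]
  congr 1
  have h1 : Nat.card (G ⧸ K) = p ^ c * (P ⊔ K).index := by
    rw [← Subgroup.index_eq_card, ← hc, ← D.hinf, inf_comm, Subgroup.inf_relIndex_right]
    rw [← Subgroup.relIndex_sup_right P K, Subgroup.relIndex_mul_index le_sup_right]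
  rw [h1, Nat.factorization_mul (pow_ne_zero _ hpp.ne_zero) Subgroup.index_ne_zero_of_finite,
    Finsupp.add_apply, hpp.factorization_pow, Finsupp.single_eq_same,
    Nat.factorization_eq_zero_of_not_dvd, add_zero]
  exact fun h => D.hindex (dvd_trans h (Subgroup.index_dvd_of_le le_sup_left))

end Cfsg.Agent.H9.Ramified
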