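import Cfsg.Agent.H13.Correspondence
import Cfsg.Agent.H15.FullyRamified
import Cfsg.Agent.H15.Extension
import Cfsg.Agent.H12.InvConstituents
import Mathlib.GroupTheory.FiniteAbelian.Duality
import Mathlib.Analysis.Complex.Polynomial.Basic
import Mathlib.RingTheory.RootsOfUnity.AlgebraicallyClosed

/-!
# Characters vanishing off a normal subgroup: restriction to an intermediate normal subgroup
-/

set_option autoImplicit false
set_option linter.unusedSectionVars false

open Cfsg Finset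
open scoped ComplexConjugate

namespace Cfsg.Agent.H9.Ramified

universe u

variable {G : Type u} [Group G]

/-- A sum over a subgroup of a function supported on a smaller subgroup. -/
theorem sum_incl {M : Type*} [AddCommMonoid M] {Z T : Subgroup G} [Fintype Z] [Fintype T]
    (h : Z ≤ T) (f : T → M) (hf : ∀ t : T, (t : G) ∉ Z → f t = 0) :
    ∑ t, f t = ∑ z : Z, f (Subgroup.inclusion h z) :=
  (Fintype.sum_of_injective _ (Subgroup.inclusion_injective h) _ _
    (fun t ht => hf t fun hz => ht ⟨⟨t, hz⟩, rfl⟩) (fun _ => rfl)).symm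

/-- Inner product on `T` with a function supported on `Z`. -/
theorem inner_formula {Z T : Subgroup G} [Fintype Z] [Fintype T] (h : Z ≤ T) (F : T → ℂ)
    (hvan : ∀ t : T, (t : G) ∉ Z → F t = 0) (θ : Z → ℂ) (c : ℂ)
    (hres : ∀ z : Z, F (Subgroup.inclusion h z) = c * θ z) (ψ : T → ℂ) :
    (Nat.card T : ℂ) * classInner F ψ
      = c * (Nat.card Z : ℂ) * classInner θ (H13.resTo h ψ) := by
  rw [H12.classInner_def, H12.classInner_def,
    mul_inv_cancel_left₀ (Nat.cast_ne_zero.2 Nat.card_pos.ne'), mul_assoc,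
    mul_inv_cancel_left₀ (Nat.cast_ne_zero.2 Nat.card_pos.ne'),
    sum_incl h _ (fun t ht => by rw [hvan t ht, zero_mul]), Finset.mul_sum]
  refine Finset.sum_congr rfl fun z _ => ?_
  rw [hres, mul_assoc]
  rfl

theorem sum_normSq_irr {H : Type u} [Group H] [Fintype H] {φ : H → ℂ}
    (hφ : IsIrrCharacter H φ) : ∑ h : H, Complex.normSq (φ h) = (Nat.card H : ℝ) := by
  have h1 := H12.classInner_irr_self (⟨φ, hφ⟩ : IrrCharacter H)
  rw [H12.classInner_def, inv_mul_eq_one₀ (Nat.cast_ne_zero.2 Nat.card_pos.ne')] at h1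
  simp only [Complex.mul_conj] at h1
  exact_mod_cast h1.symm

/-- Bound on the multiplicity over `Z`, with vanishing in the case of equality. -/
theorem sq_mult_le {Z T : Subgroup G} [Fintype Z] [Fintype T] (h : Z ≤ T) {θ : Z → ℂ}
    (hθ : IsIrrCharacter Z θ) {ψ : T → ℂ} (hψ : IsIrrCharacter T ψ) (n : ℕ)
    (hres : ∀ z : Z, ψ (Subgroup.inclusion h z) = (n : ℂ) * θ z) :
    n ^ 2 * Nat.card Z ≤ Nat.card T ∧
      (n ^ 2 * Nat.card Z = Nat.card T → ∀ t : T, (t : G) ∉ Z → ψ t = 0) := by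
  classical
  let g : T → ℝ := fun t => if (t : G) ∈ Z then Complex.normSq (ψ t) else 0
  have hg : ∑ t, g t = (n : ℝ) ^ 2 * Nat.card Z := by
    rw [sum_incl h g (fun t ht => if_neg ht), ← sum_normSq_irr hθ, Finset.mul_sum]
    refine Finset.sum_congr rfl fun z _ => ?_
    show (if ((Subgroup.inclusion h z : T) : G) ∈ Z then _ else _) = _
    rw [if_pos (by exact z.2), hres, Complex.normSq_mul, Complex.normSq_natCast]
    ring
  have hle : ∀ t, g t ≤ Complex.normSq (ψ t) := fun t => by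
    simp only [g]
    split_ifs
    · exact le_rfl
    · exact Complex.normSq_nonneg _
  have h1 : ∑ t, g t ≤ (Nat.card T : ℝ) := by
    rw [← sum_normSq_irr hψ]
    exact Finset.sum_le_sum fun t _ => hle t
  rw [hg] at h1
  refine ⟨by exact_mod_cast h1, fun he t ht => ?_⟩
  have h2 : ∑ t, g t = ∑ t, Complex.normSq (ψ t) := by
    rw [hg, sum_normSq_irr hψ]; exact_mod_cast he
  have h3 := (Finset.sum_eq_sum_iff_of_le fun t _ => hle t).1 h2 t (Finset.mem_univ t)
  simp only [g, if_neg ht] at h3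
  exact Complex.normSq_eq_zero.1 h3.symm

variable [Fintype G]

/-- A character of a group with cyclic quotient that vanishes outside the normal subgroup is
multiplicity free on it. -/
theorem mult_eq_one_of_cyclic (N : Subgroup G) [N.Normal] [Fintype N] (hcyc : IsCyclic (G ⧸ N))
    {χ : G → ℂ} (hχ : IsIrrCharacter G χ) (hvan : ∀ g : G, g ∉ N → χ g = 0)
    {ω : N → ℂ} (hω : IsIrrCharacter N ω) (hne : classInner (fun n : N => χ n) ω ≠ 0) :
    classInner (fun n : N => χ n) ω = 1 := by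
  classical
  have hχc := H12.isCharacter_of_isIrrCharacter hχ
  have hχcl := H12.IsCharacter.isClassFunction hχc
  have hωcl := H12.IsCharacter.isClassFunction (H12.isCharacter_of_isIrrCharacter hω)
  have hab : ∀ a b : G, a * b * a⁻¹ * b⁻¹ ∈ N := fun a b => by
    haveI : IsMulCommutative (G ⧸ N) := IsCyclic.isMulCommutative
    rw [← QuotientGroup.eq_one_iff]
    simp only [QuotientGroup.mk_mul, QuotientGroup.mk_inv]
    rw [IsMulCommutative.is_comm.comm (a : G ⧸ N) (b : G ⧸ N)]
    group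
  set S := H13.inertia N ω with hS
  have hNS : N ≤ S := H13.le_inertia N hωcl
  suffices hSN : S ≤ N by
    have hirr := H13.isIrrCharacter_indFun_of_inertia N hω hSN
    have h1 : classInner (indFun N ω) χ = conj (classInner (fun n : N => χ n) ω) := by
      rw [H13.classInner_indFun_left N ω hχcl, H12.conj_classInner]
    have h2 := H12.classInner_irr (⟨_, hirr⟩ : IrrCharacter G) ⟨χ, hχ⟩
    simp only [h1] at h2
    split_ifs at h2 with he
    · have := congrArg (starRingEnd ℂ) h2
      rw [Complex.conj_conj, map_one] at this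
      exact this
    · exfalso; apply hne
      have := congrArg (starRingEnd ℂ) h2
      rwa [Complex.conj_conj, map_zero] at this
  by_contra hSN
  -- the inertia group is normal, and `ω` extends to it
  haveI hSn : S.Normal := ⟨fun s hs g => by
    have h1 : g * s * g⁻¹ = g * s * g⁻¹ * s⁻¹ * s := by group
    rw [h1]
    exact S.mul_mem (hNS (hab g s)) hs⟩
  set N' := N.subgroupOf S with hN'
  let ι : N' ≃* N := Subgroup.subgroupOfEquivOfLe hNS
  obtain ⟨d, ρ, hρi, hρ⟩ := H12.IsIrrCharacter.comp_surjective hω (f := ι.toMonoidHom)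
    ι.surjective
  have := hρi
  have hcycS : IsCyclic (↥S ⧸ N') :=
    isCyclic_of_injective (QuotientGroup.map N' N S.subtype (fun _ hx => hx)) (by
      rw [← MonoidHom.ker_eq_bot_iff, Subgroup.eq_bot_iff_forall]
      intro x
      induction x using QuotientGroup.induction_on with
      | H s =>
        intro hs
        have hs' : ((s : G) : G ⧸ N) = 1 := hs
        rw [QuotientGroup.eq_one_iff] at hs'
        rw [QuotientGroup.eq_one_iff]
        exact hs')
  obtain ⟨η, hη, hηres⟩ := H15.extends_of_cyclic (ρ := ρ) (fun g r => by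
    rw [hρ]
    have := congrFun ((H13.mem_inertia N).1 g.2) (ι r)
    rw [H13.twist_apply] at this
    exact (congrArg ω (Subtype.ext rfl)).trans this) hcycS
  have hηω : ∀ n : N', η n = ω (ι n) := fun n => by rw [hηres n, hρ]; rfl
  -- a point outside `N` where `η` does not vanish
  obtain ⟨s, hsN, hηs⟩ : ∃ s : S, (s : G) ∉ N ∧ η s ≠ 0 := by
    by_contra hall
    push Not at hall
    have h1 := sum_normSq_irr hη
    rw [sum_incl hNS _ (fun t ht => by rw [hall t ht, map_zero]),
      Finset.sum_congr rfl (fun z _ => by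
        rw [show η (Subgroup.inclusion hNS z) = ω z from
          (hηω ⟨Subgroup.inclusion hNS z, z.2⟩).trans (congrArg ω (Subtype.ext rfl))]),
      sum_normSq_irr hω] at h1
    have h2 : Nat.card N = Nat.card S := by exact_mod_cast h1
    exact hSN (Subgroup.eq_of_le_of_card_ge hNS h2.ge).ge
  -- a linear character of `S / N` nontrivial at `s`
  haveI : IsCyclic (↥S ⧸ N') := hcycS
  letI : CommGroup (↥S ⧸ N') := IsCyclic.commGroup
  obtain ⟨l, hl⟩ := CommGroup.exists_apply_ne_one_of_hasEnoughRootsOfUnity (↥S ⧸ N') ℂ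
    (a := (s : ↥S ⧸ N')) (by
      rw [Ne, QuotientGroup.eq_one_iff]; exact hsN)
  let lam : S →* ℂˣ := l.comp (QuotientGroup.mk' N')
  have hlamN : ∀ n : S, (n : G) ∈ N → lam n = 1 := fun n hn => by
    show l (n : ↥S ⧸ N') = 1
    rw [(QuotientGroup.eq_one_iff n).2 hn, map_one]
  let η₀ : IrrCharacter S := ⟨η, hη⟩
  let η₁ : IrrCharacter S := H12.InvConst.mulHom lam η₀
  have hη₁ : ∀ x : S, (η₁ : S → ℂ) x = (lam x : ℂ) * η x := fun x =>
    H12.InvConst.mulHom_apply lam η₀ x
  -- both extensions are constituents of `χ` on `S`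
  have hS0 : (Nat.card S : ℂ) ≠ 0 := Nat.cast_ne_zero.2 Nat.card_pos.ne'
  have hcon : ∀ ξ : IrrCharacter S, (∀ n : N, (ξ : S → ℂ) (Subgroup.inclusion hNS n) = ω n) →
      classInner (fun x : S => χ x) ξ ≠ 0 := by
    intro ξ hξ h0
    have h1 := inner_formula hNS (fun x : S => χ x) (fun t ht => hvan t ht)
      (fun n : N => χ n) 1 (fun z => (one_mul _).symm) (ξ : S → ℂ)
    rw [h0, mul_zero, show H13.resTo hNS (ξ : S → ℂ) = ω from funext hξ, one_mul] at h1
    rcases mul_eq_zero.1 h1.symm with h2 | h2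
    · exact Nat.cast_ne_zero.2 Nat.card_pos.ne' h2
    · exact hne h2
  have hr0 : ∀ n : N, η (Subgroup.inclusion hNS n) = ω n := fun n =>
    (hηω ⟨Subgroup.inclusion hNS n, n.2⟩).trans (congrArg ω (Subtype.ext rfl))
  have hr1 : ∀ n : N, (η₁ : S → ℂ) (Subgroup.inclusion hNS n) = ω n := fun n => by
    rw [hη₁, hlamN _ n.2, Units.val_one, one_mul, hr0]
  have hconj : ∃ x : G, H13.twist S x η = (η₁ : S → ℂ) := by
    by_contra hnc
    push Not at hnc
    exact hcon η₁ hr1 (H13.classInner_res_eq_zero_of_not_conj S hχ hη η₁.2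
      (hcon η₀ hr0) hnc)
  obtain ⟨x, hx⟩ := hconj
  have hxS : x ∈ S := by
    refine (H13.mem_inertia N).2 (funext fun n => ?_)
    rw [H13.twist_apply]
    have h1 := congrFun hx (Subgroup.inclusion hNS n)
    rw [hr1, H13.twist_apply] at h1
    rw [← h1, ← hr0]
    exact congrArg η (Subtype.ext rfl)
  have hfix : η = (η₁ : S → ℂ) := by
    rw [← hx]
    funext y
    rw [H13.twist_apply]
    exact ((H12.IsCharacter.isClassFunction (H12.isCharacter_of_isIrrCharacter hη)
      y ⟨x, hxS⟩).symm.trans (congrArg η (Subtype.ext rfl)))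
  have h1 := congrFun hfix s
  rw [hη₁] at h1
  have h2 : (lam s : ℂ) = 1 := (mul_eq_right₀ hηs).1 h1.symm
  exact hl (Units.ext h2)

/-- Data on the constituents over `θ` of the restriction of a character supported on `Z`. -/
theorem orbit_data (Z P0 : Subgroup G) [Z.Normal] [P0.Normal] [Fintype Z] [Fintype P0]
    (h : Z ≤ P0) {θ : Z → ℂ} (hθ : IsIrrCharacter Z θ) {ψ : G → ℂ} (hψ : IsIrrCharacter G ψ)
    (d : ℕ) (hd : d ^ 2 * Nat.card Z = Nat.card G) (hres : ∀ z : Z, ψ z = (d : ℂ) * θ z) :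
    (∀ ω ω' : IrrCharacter P0, classInner (H13.resTo h (ω : P0 → ℂ)) θ ≠ 0 →
      classInner (H13.resTo h (ω' : P0 → ℂ)) θ ≠ 0 →
        ∃ x : G, H13.twist P0 x (ω : P0 → ℂ) = (ω' : P0 → ℂ)) ∧
    (∀ ω : IrrCharacter P0, classInner (H13.resTo h (ω : P0 → ℂ)) θ ≠ 0 →
      ∃ m E : ℕ, classInner (fun n : P0 => ψ n) ω = m ∧ (ω : P0 → ℂ) 1 = (E : ℂ) * θ 1 ∧
        Nat.card {ξ : IrrCharacter P0 // classInner (H13.resTo h (ξ : P0 → ℂ)) θ ≠ 0} * m ^ 2
          * Nat.card P0 = Nat.card G ∧
        Nat.card {ξ : IrrCharacter P0 // classInner (H13.resTo h (ξ : P0 → ℂ)) θ ≠ 0} * m * E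
          = d) := by
  classical
  haveI : Fintype (⊤ : Subgroup G) := Fintype.ofFinite _
  have hψc := H12.isCharacter_of_isIrrCharacter hψ
  have hψcl := H12.IsCharacter.isClassFunction hψc
  have hθc := H12.isCharacter_of_isIrrCharacter hθ
  have hd0 : d ≠ 0 := by
    rintro rfl
    rw [zero_pow two_ne_zero, zero_mul] at hd
    exact Nat.card_pos.ne' hd.symm
  -- `θ` is invariant
  have hinv : ∀ g : G, H13.twist Z g θ = θ := by
    intro g
    have h1 := H13.twist_res Z hψcl g
    funext n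
    have h2 := congrFun h1 n
    simp only [H13.twist_apply, hres] at h2 ⊢
    exact mul_left_cancel₀ (Nat.cast_ne_zero.2 hd0) h2
  -- `ψ` vanishes outside `Z`
  have hvan : ∀ g : G, g ∉ Z → ψ g = 0 := by
    have hψ' := H12.IsIrrCharacter.comp_surjective hψ
      (f := (Subgroup.topEquiv : (⊤ : Subgroup G) ≃* G).toMonoidHom)
      Subgroup.topEquiv.surjective
    have := (sq_mult_le (le_top : Z ≤ ⊤) hθ hψ' d (fun z => hres z)).2
      (by rw [Subgroup.card_top]; exact hd)
    exact fun g hg => this ⟨g, Subgroup.mem_top g⟩ hg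
  set F : P0 → ℂ := fun n => ψ n with hF
  have hP0 : (Nat.card P0 : ℂ) ≠ 0 := Nat.cast_ne_zero.2 Nat.card_pos.ne'
  have hform : ∀ f : P0 → ℂ, (Nat.card P0 : ℂ) * classInner F f
      = (d : ℂ) * (Nat.card Z : ℂ) * classInner θ (H13.resTo h f) := fun f =>
    inner_formula h F (fun t ht => hvan _ ht) θ d (fun z => hres z) f
  have hiff : ∀ ω : IrrCharacter P0, classInner F ω ≠ 0 ↔
      classInner (H13.resTo h (ω : P0 → ℂ)) θ ≠ 0 := by
    intro ω
    have h1 := hform ω
    rw [← H12.conj_classInner θ] 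
    constructor
    · intro h2 h3
      rw [show classInner θ (H13.resTo h (ω : P0 → ℂ)) = 0 by
        rwa [map_eq_zero] at h3, mul_zero] at h1
      exact h2 ((mul_eq_zero.1 h1).resolve_left hP0)
    · intro h2 h3
      rw [h3, mul_zero] at h1
      rcases mul_eq_zero.1 h1.symm with h4 | h4
      · exact mul_ne_zero (Nat.cast_ne_zero.2 hd0) (Nat.cast_ne_zero.2 Nat.card_pos.ne') h4
      · exact h2 (by rw [h4, map_zero])
  have htrans : ∀ ω ω' : IrrCharacter P0, classInner F ω ≠ 0 → classInner F ω' ≠ 0 →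
      ∃ x : G, H13.twist P0 x (ω : P0 → ℂ) = (ω' : P0 → ℂ) := by
    intro ω ω' h1 h2
    by_contra hnc
    push Not at hnc
    exact h2 (H13.classInner_res_eq_zero_of_not_conj P0 hψ ω.2 ω'.2 h1 hnc)
  refine ⟨fun ω ω' h1 h2 => htrans ω ω' ((hiff ω).2 h1) ((hiff ω').2 h2), fun ω hω => ?_⟩
  obtain ⟨m, hm⟩ := H12.IsCharacter.classInner_nat (H12.IsCharacter.res hψc P0)
    (H12.isCharacter_irr ω)
  change classInner F ω = (m : ℂ) at hm
  have hωr := H13.resTo_eq_of_invariant Z h hθ (fun g _ => hinv g) ω.2 hω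
  obtain ⟨E, hE⟩ := H12.IsCharacter.classInner_nat
    (H13.isCharacter_resTo h (H12.isCharacter_irr ω)) hθc
  have hω1 : (ω : P0 → ℂ) 1 = (E : ℂ) * θ 1 := by
    have := congrFun hωr 1
    rw [hE] at this
    exact this
  refine ⟨m, E, hm, hω1, ?_⟩
  -- the decomposition of the restriction
  let Ω := Finset.univ.filter (fun ξ : IrrCharacter P0 => classInner F ξ ≠ 0)
  have hΩ : Nat.card {ξ : IrrCharacter P0 // classInner (H13.resTo h (ξ : P0 → ℂ)) θ ≠ 0}
      = Ω.card := by
    rw [Nat.card_eq_fintype_card, Fintype.card_subtype]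
    exact congrArg Finset.card (Finset.filter_congr fun ξ _ => (hiff ξ).symm)
  rw [hΩ]
  have hall : ∀ ξ ∈ Ω, classInner F ξ = (m : ℂ) ∧ (ξ : P0 → ℂ) 1 = (ω : P0 → ℂ) 1 := by
    intro ξ hξ
    obtain ⟨x, hx⟩ := htrans ω ξ ((hiff ω).2 hω) (Finset.mem_filter.1 hξ).2
    refine ⟨?_, ?_⟩
    · rw [← hx, hF, H13.classInner_res_twist P0 hψcl, ← hm]
    · rw [← hx, H13.twist_apply]
      exact congrArg (ω : P0 → ℂ) (Subtype.ext (by simp))
  have hFeq : F = ∑ ξ ∈ Ω, (m : ℂ) • (ξ : P0 → ℂ) := by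
    conv_lhs => rw [H12.classFunction_eq_sum (H12.IsCharacter.isClassFunction
      (H12.IsCharacter.res hψc P0) : IsClassFunction P0 F)]
    rw [← Finset.sum_subset (Finset.subset_univ Ω)]
    · exact Finset.sum_congr rfl fun ξ hξ => by rw [(hall ξ hξ).1]
    · intro ξ _ hξ
      rw [show classInner F ξ = 0 by simpa [Ω] using hξ, zero_smul]
  constructor
  · have h1 : classInner F F = (Ω.card : ℂ) * (m : ℂ) ^ 2 := by
      conv_lhs => rw [hFeq, H12.classInner_sum_right]
      rw [← hFeq, Finset.sum_congr rfl (fun ξ hξ => by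
        rw [H12.classInner_smul_right, (hall ξ hξ).1, Complex.conj_natCast])]
      rw [Finset.sum_const, nsmul_eq_mul, sq]
    have h2 := hform F
    have h3 : classInner θ (H13.resTo h F) = (d : ℂ) := by
      rw [show H13.resTo h F = (d : ℂ) • θ from funext fun z => hres z,
        H12.classInner_smul_right, H12.classInner_irr_self (⟨θ, hθ⟩ : IrrCharacter Z),
        mul_one, Complex.conj_natCast]
    rw [h1, h3] at h2
    have h4 : ((Ω.card * m ^ 2 * Nat.card P0 : ℕ) : ℂ) = ((d ^ 2 * Nat.card Z : ℕ) : ℂ) := by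
      push_cast
      linear_combination h2
    rw [← hd]
    exact_mod_cast h4
  · have h1 := congrFun hFeq 1
    rw [Finset.sum_apply, Finset.sum_congr rfl (fun ξ hξ => by
      rw [Pi.smul_apply, (hall ξ hξ).2, hω1, smul_eq_mul]), Finset.sum_const, nsmul_eq_mul] at h1
    have h1' : (d : ℂ) * θ 1 = (Ω.card : ℂ) * ((m : ℂ) * ((E : ℂ) * θ 1)) := by
      rw [← h1, hF]
      exact (hres 1).symm
    have hθ1 : θ 1 ≠ 0 := H12.irr_apply_one_ne_zero (⟨θ, hθ⟩ : IrrCharacter Z)
    have h5 : ((Ω.card * m * E : ℕ) : ℂ) = ((d : ℕ) : ℂ) := by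
      apply mul_right_cancel₀ hθ1
      push_cast
      rw [h1']
      ring
    exact_mod_cast h5

end Cfsg.Agent.H9.Ramified
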