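import Cfsg.Agent.H9.RamifiedComplement

/-!
# Quotients of groups with fully ramified characters: complements and solvability
-/

set_option autoImplicit false
set_option linter.unusedSectionVars false

open Cfsg Finset
open scoped ComplexConjugate

namespace Cfsg.Agent.H9.Ramified

universe u

variable {G : Type u} [Group G] [Fintype G]

theorem exists_over (Z P0 : Subgroup G) [Fintype Z] [Fintype P0] (hZ0 : Z ≤ P0) {χ : G → ℂ}
    (hχ : IsIrrCharacter G χ) (hvan : ∀ g : G, g ∉ Z → χ g = 0) {θ : Z → ℂ} (e : ℕ)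
    (hres : ∀ z : Z, χ z = (e : ℂ) * θ z) :
    ∃ ω : IrrCharacter P0, classInner (H13.resTo hZ0 (ω : P0 → ℂ)) θ ≠ 0 := by
  by_contra hall
  push Not at hall
  have hχc := H12.isCharacter_of_isIrrCharacter hχ
  have h1 := H12.eq_zero_of_classInner_irr_eq_zero
    (H12.IsCharacter.isClassFunction (H12.IsCharacter.res hχc P0)) (fun ω => by
      have h2 := inner_formula hZ0 (fun t : P0 => χ t) (fun t ht => hvan _ ht) θ e
        (fun z => hres z) (ω : P0 → ℂ)
      rw [← H12.conj_classInner (H13.resTo hZ0 (ω : P0 → ℂ)) θ, hall ω, map_zero, mul_zero] at h2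
      exact (mul_eq_zero.1 h2).resolve_left (Nat.cast_ne_zero.2 Nat.card_pos.ne'))
  exact H12.irr_apply_one_ne_zero (⟨χ, hχ⟩ : IrrCharacter G) (congrFun h1 1)

theorem isPGroup_map (p : ℕ) [hp : Fact p.Prime] (Z K P P0 : Subgroup G) [K.Normal] [Fintype Z]
    {θ : Z → ℂ} {a : ℕ} (D : PData p Z K P P0 θ a) :
    IsPGroup p (P.map (QuotientGroup.mk' K)) := by
  have hpp := hp.out
  have h1 : Z.relIndex P = (p ^ a) ^ 2 := by
    apply Nat.eq_of_mul_eq_mul_right (Nat.card_pos (α := Z))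
    rw [← D.hcard, mul_comm, ← Subgroup.relIndex_bot_left, ← Subgroup.relIndex_bot_left P,
      Subgroup.relIndex_mul_relIndex ⊥ Z P bot_le (D.hZ0.trans D.h0P)]
  have h2 : Nat.card (P.map (QuotientGroup.mk' K)) = P0.relIndex P := by
    rw [← D.hinf, inf_comm, Subgroup.inf_relIndex_right]
    conv_rhs => rw [← QuotientGroup.ker_mk' K, Subgroup.relIndex_ker]
  obtain ⟨c, -, hc⟩ := (Nat.dvd_prime_pow hpp).1
    (show P0.relIndex P ∣ p ^ (a * 2) by
      rw [pow_mul, ← h1, ← Subgroup.relIndex_mul_relIndex Z P0 P D.hZ0 D.h0P]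
      exact dvd_mul_left _ _)
  exact IsPGroup.of_card (h2.trans hc)

/-- A cyclic Sylow subgroup of a quotient of a fully ramified section has a complement. -/
theorem complement_of_cyclic (Z : Subgroup G) [Z.Normal] [Fintype Z] {χ : G → ℂ}
    (hχ : IsIrrCharacter G χ) {θ : Z → ℂ} (hθ : IsIrrCharacter Z θ) (e : ℕ)
    (hidx : e ^ 2 = Z.index) (hres : ∀ z : Z, χ z = (e : ℂ) * θ z)
    (K : Subgroup G) [K.Normal] (hZK : Z ≤ K) (p : ℕ) [hp : Fact p.Prime]
    (S : Sylow p (G ⧸ K)) (hcyc : IsCyclic S) :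
    ∃ M : Subgroup (G ⧸ K), M.IsComplement' (S : Subgroup (G ⧸ K)) := by
  classical
  have hpp := hp.out
  obtain ⟨hvan, hinv, P, P0, a, q, D, heq, hq, -, hdat⟩ :=
    exists_data p Z K hZK hχ hθ e hidx hres
  haveI : Fintype P0 := Fintype.ofFinite _
  obtain ⟨ω, hω⟩ := exists_over Z P0 D.hZ0 hχ hvan e hres
  obtain ⟨m, E, -, hc1, -, hcy⟩ := hdat ω hω
  have hm : m = 1 := by
    apply hcy
    obtain ⟨T, hT⟩ := (isPGroup_map p Z K P P0 D).exists_le_sylow
    haveI : IsCyclic T := by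
      haveI := hcyc
      exact isCyclic_of_surjective (Sylow.equiv S T) (MulEquiv.surjective _)
    exact Subgroup.isCyclic_of_le hT
  subst hm
  rw [one_pow, mul_one] at hc1
  obtain ⟨M, hM⟩ := exists_complement p Z K P P0 hinv D ω hω hc1
  refine ⟨M, Subgroup.isComplement'_of_coprime ?_ ?_⟩
  · rw [S.card_eq_multiplicity, ← hM, Subgroup.card_mul_index]
  · have h1 := Subgroup.card_mul_index M
    have h2 : Nat.card M = Nat.card (G ⧸ K) / p ^ (Nat.card (G ⧸ K)).factorization p := by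
      conv_rhs => rw [← hM]; arg 1; rw [← h1]
      rw [Nat.mul_div_cancel _ (Nat.pos_of_ne_zero Subgroup.index_ne_zero_of_finite)]
    rw [S.card_eq_multiplicity, h2]
    exact Nat.Coprime.pow_right _ (hpp.coprime_iff_not_dvd.2
      (Nat.not_dvd_ordCompl hpp Nat.card_pos.ne')).symm

/-- The quotient by a normal subgroup from which a fully ramified character is induced is
solvable. -/
theorem solvable_of_induced (Z : Subgroup G) [Z.Normal] [Fintype Z] {χ : G → ℂ}
    (hχ : IsIrrCharacter G χ) {θ : Z → ℂ} (hθ : IsIrrCharacter Z θ) (e : ℕ)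
    (hidx : e ^ 2 = Z.index) (hres : ∀ z : Z, χ z = (e : ℂ) * θ z)
    (K : Subgroup G) [K.Normal] [Fintype K] (hZK : Z ≤ K) (φ : K → ℂ) (hφ : IsCharacter K φ)
    (hind : indFun K φ = χ) : Group.IsSolvable (G ⧸ K) := by
  classical
  refine H1.solvable_of_complements
    (fun H _ _ p q a b hp hq h => Cfsg.Agent.S0144.result p q a b hp hq h) fun p hp => ?_
  haveI : Fact p.Prime := ⟨hp⟩
  obtain ⟨hvan, hinv, P, P0, a, q, D, heq, hq, -, hdat⟩ :=
    exists_data p Z K hZK hχ hθ e hidx hres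
  haveI : Fintype P0 := Fintype.ofFinite _
  obtain ⟨ω₀, hω₀⟩ := exists_over Z P0 D.hZ0 hχ hvan e hres
  obtain ⟨m, E, hE, hc1, hc2, -⟩ := hdat ω₀ hω₀
  set t := Nat.card {ξ : IrrCharacter P0 //
    classInner (H13.resTo D.hZ0 (ξ : P0 → ℂ)) θ ≠ 0} with ht
  have h0K : P0 ≤ K := D.hinf ▸ inf_le_right
  let φ0 : P0 → ℂ := H13.resTo h0K φ
  have hφ0 : IsCharacter P0 φ0 := H13.isCharacter_resTo h0K hφ
  choose c hc using fun ω : IrrCharacter P0 =>
    H12.IsCharacter.classInner_nat hφ0 (H12.isCharacter_irr ω)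
  -- constituents of `φ` lie over `θ`
  have hsupp : ∀ ω : IrrCharacter P0, c ω ≠ 0 →
      classInner (H13.resTo D.hZ0 (ω : P0 → ℂ)) θ ≠ 0 := by
    intro ω hcω h0
    apply hcω
    have h1 := inner_formula D.hZ0 (fun t : P0 => χ t) (fun t ht => hvan _ ht) θ e
      (fun z => hres z) (ω : P0 → ℂ)
    rw [← H12.conj_classInner (H13.resTo D.hZ0 (ω : P0 → ℂ)) θ, h0, map_zero, mul_zero] at h1
    have h2 := (mul_eq_zero.1 h1).resolve_left (Nat.cast_ne_zero.2 Nat.card_pos.ne')
    have h3 : (fun t : P0 => χ t)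
        = (Nat.card K : ℂ)⁻¹ • ∑ x : G, H13.resTo h0K (H13.twist K x φ) := by
      funext t
      have := congrFun (H13.res_indFun K φ) (Subgroup.inclusion h0K t)
      simp only [hind] at this
      show χ t = _
      rw [show χ (t : G) = _ from this]
      simp only [Pi.smul_apply, Finset.sum_apply]
      rfl
    rw [h3, H12.classInner_smul_left, H12.classInner_sum_left] at h2
    choose d hd using fun x : G => H12.IsCharacter.classInner_nat
      (H13.isCharacter_resTo h0K (H13.isCharacter_twist K x hφ)) (H12.isCharacter_irr ω)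
    simp only [hd, mul_eq_zero, inv_eq_zero, Nat.cast_eq_zero, Nat.card_pos.ne', false_or] at h2
    have h4 : ∑ x : G, d x = 0 := by exact_mod_cast h2
    have h5 := (Finset.sum_eq_zero_iff.1 h4) 1 (Finset.mem_univ _)
    have h6 := hd 1
    rw [H13.twist_one, hc, h5] at h6
    exact_mod_cast h6
  have hdeg : ∀ ω : IrrCharacter P0, c ω ≠ 0 → (ω : P0 → ℂ) 1 = (E : ℂ) * θ 1 := by
    intro ω hω
    obtain ⟨x, -, hx⟩ := D.htrans ω₀ ω hω₀ (hsupp ω hω)
    rw [← hE, hx 1 1 (by simp)]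
  have hφ1 : φ 1 = ((∑ ω, c ω : ℕ) : ℂ) * ((E : ℂ) * θ 1) := by
    have h1 := congrFun (H12.classFunction_eq_sum
      (H12.IsCharacter.isClassFunction hφ0 : IsClassFunction P0 φ0)) 1
    rw [Finset.sum_apply] at h1
    rw [show φ 1 = φ0 1 from congrArg φ (Subtype.ext rfl), h1, Nat.cast_sum, Finset.sum_mul]
    refine Finset.sum_congr rfl fun ω _ => ?_
    rw [Pi.smul_apply, hc, smul_eq_mul]
    rcases Nat.eq_zero_or_pos (c ω) with h | h
    · rw [h, Nat.cast_zero, zero_mul, zero_mul]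
    · rw [hdeg ω h.ne']
  have he : e = K.index * (∑ ω, c ω) * E := by
    have h1 := hres 1
    rw [OneMemClass.coe_one, ← hind, H13.indFun_apply_one, hφ1] at h1
    have hθ1 : θ 1 ≠ 0 := H12.irr_apply_one_ne_zero (⟨θ, hθ⟩ : IrrCharacter Z)
    have h2 : ((K.index * (∑ ω, c ω) * E : ℕ) : ℂ) = ((e : ℕ) : ℂ) := by
      apply mul_right_cancel₀ hθ1
      rw [← h1]
      push_cast
      ring
    exact_mod_cast h2.symm
  have hrel : P0.relIndex P ∣ K.index := by
    rw [← D.hinf, inf_comm, Subgroup.inf_relIndex_right]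
    exact Subgroup.relIndex_dvd_index_of_normal K P
  have hpow : E * P0.relIndex P ∣ p ^ a := by
    have h1 : E * P0.relIndex P ∣ p ^ a * q := by
      rw [← heq, he, mul_comm (K.index * _) E]
      exact mul_dvd_mul_left E (dvd_mul_of_dvd_left hrel _)
    refine (Nat.Coprime.dvd_of_dvd_mul_right ?_ h1)
    have hEd : E ∣ p ^ a := ⟨t * m, by rw [← hc2]; ring⟩
    have hPd : P0.relIndex P ∣ p ^ a * p ^ a := by
      rw [← hc1, ← hc2]
      exact ⟨t * E * E, by ring⟩
    exact Nat.Coprime.coprime_dvd_left (mul_dvd_mul hEd hPd)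
      (Nat.Coprime.mul_left (Nat.Coprime.pow_left a (hp.coprime_iff_not_dvd.2 hq))
        (Nat.Coprime.mul_left (Nat.Coprime.pow_left a (hp.coprime_iff_not_dvd.2 hq))
          (Nat.Coprime.pow_left a (hp.coprime_iff_not_dvd.2 hq))))
  have hm : m = 1 := by
    rw [← hc1, ← hc2] at hpow
    have hpos : t * m * E ≠ 0 := by rw [hc2]; exact pow_ne_zero _ hp.ne_zero
    have h1 : (t * m * E) * m ∣ t * m * E * 1 := by
      rw [mul_one]
      exact dvd_trans ⟨1, by ring⟩ hpow
    exact Nat.dvd_one.1 ((Nat.mul_dvd_mul_iff_left (Nat.pos_of_ne_zero hpos)).1 h1)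
  subst hm
  rw [one_pow, mul_one] at hc1
  exact exists_complement p Z K P P0 hinv D ω₀ hω₀ hc1

end Cfsg.Agent.H9.Ramified
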