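import Cfsg.Agent.H85.BrauerSuzuki
import Cfsg.Agent.H2.UniqueSubgroup
import Cfsg.Agent.H65.CyclicSylow
import Cfsg.Agent.H65.FourConnected
import Cfsg.Agent.CompPComp
import Cfsg.Prelude.Def_CaseTheorems

/-!
Quasisimple groups of `2`-rank one, given the case of a unique involution of the Z*-theorem.
-/

set_option autoImplicit false

namespace Cfsg.Agent.H9

open Subgroup Cfsg

universe u

variable {L : Type u} [Group L] [Finite L]

theorem eq_of_rank_one (hrk : PRankLE 2 1 L) {s t : L} (hs : orderOf s = 2) (ht : orderOf t = 2)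
    (hc : t * s = s * t) : t = s := by
  by_contra hne
  have ht2 := H65.mul_self_of_two ht
  have hs2 := H65.mul_self_of_two hs
  have hk := H65.isKleinFour_fourOf ht2 hs2 hc (H65.ne_one_of_two ht) (H65.ne_one_of_two hs) hne
  have h1 : IsMulCommutative (H65.fourOf ht2 hs2 hc) :=
    ⟨⟨fun u v => Subtype.ext (H65.klein_sub_comm hk u.2 v.2)⟩⟩
  have h2 := hrk (H65.fourOf ht2 hs2 hc) h1 fun a ha => by
    rw [sq]; exact H65.klein_sub_mul_self hk ha
  rw [hk.card_four] at h2
  omega

/-- In a quasisimple group an element commuting with everything modulo the centre is central. -/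
theorem mem_center_of_commutator_central (hq : IsQuasisimple L) {z : L}
    (h : ∀ l : L, z * l * z⁻¹ * l⁻¹ ∈ Subgroup.center L) : z ∈ Subgroup.center L := by
  let φ : L →* Subgroup.center L :=
    { toFun := fun l => ⟨z * l * z⁻¹ * l⁻¹, h l⟩
      map_one' := Subtype.ext (by simp)
      map_mul' := fun a b => Subtype.ext (by
        show z * (a * b) * z⁻¹ * (a * b)⁻¹ = z * a * z⁻¹ * a⁻¹ * (z * b * z⁻¹ * b⁻¹)
        have hb := Subgroup.mem_center_iff.mp (h b) a
        calc z * (a * b) * z⁻¹ * (a * b)⁻¹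
            = z * a * z⁻¹ * (z * b * z⁻¹ * b⁻¹) * a⁻¹ := by group
          _ = z * a * z⁻¹ * ((z * b * z⁻¹ * b⁻¹) * a⁻¹) := by group
          _ = z * a * z⁻¹ * (a⁻¹ * (z * b * z⁻¹ * b⁻¹)) := by
            rw [Subgroup.mem_center_iff.mp (h b) a⁻¹]
          _ = z * a * z⁻¹ * a⁻¹ * (z * b * z⁻¹ * b⁻¹) := by group) }
  have hker : commutator L ≤ φ.ker := by
    refine Subgroup.commutator_le.mpr fun a _ b _ => ?_
    rw [MonoidHom.mem_ker, map_commutatorElement, commutatorElement_eq_one_iff_mul_comm]
    exact Subtype.ext (Subgroup.mem_center_iff.mp (φ b).2 _)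
  refine Subgroup.mem_center_iff.mpr fun l => ?_
  have h1 : commutator L = ⊤ := Group.isPerfect_def.mp hq.1
  have h2 : z * l * z⁻¹ * l⁻¹ = 1 := congrArg Subtype.val (hker (h1 ▸ Subgroup.mem_top l))
  exact (mul_inv_eq_iff_eq_mul.mp (by rw [mul_inv_eq_one] at h2; exact h2)).symm

/-- A quasisimple group of even order and `2`-rank one has a central involution and quaternion
Sylow `2`-subgroups. -/
theorem rank_one_quasisimple (hq : IsQuasisimple L)
    (heven : Even (Nat.card L)) (hrk : PRankLE 2 1 L) :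
    ∃ z ∈ Subgroup.center L, orderOf z = 2 ∧
      ∀ S : Sylow 2 L, ∃ n : ℕ, Nonempty ((S : Subgroup L) ≃* QuaternionGroup (2 ^ (n + 1))) := by
  haveI : Fact (Nat.Prime 2) := ⟨Nat.prime_two⟩
  obtain ⟨z, hz⟩ := exists_prime_orderOf_dvd_card' (G := L) 2 (even_iff_two_dvd.mp heven)
  have hcen : z ∈ Subgroup.center L := by
    have hZ : H85.ZCentral z := H85.zStar ⟨hz, fun g hg => eq_of_rank_one hrk hz
      (by rw [show g * z * g⁻¹ = MulAut.conj g z from rfl, MulEquiv.orderOf_eq, hz]) hg.eq.symm⟩
    refine mem_center_of_commutator_central hq fun l => ?_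
    refine ((Cfsg.Comp.normal_eq_top_or_le_center hq (H1.pPrimeCore_normal' 2 L)).resolve_left ?_) (hZ l)
    intro htop
    have h1 := H1.card_pPrimeCore_coprime 2 L
    rw [htop, Subgroup.card_top, Nat.coprime_two_right] at h1
    exact Nat.not_even_iff_odd.mpr h1 heven
  refine ⟨z, hcen, hz, fun S => ?_⟩
  have huniq : ∀ H K : Subgroup (S : Subgroup L), Nat.card H = 2 → Nat.card K = 2 → H = K := by
    have key : ∀ H : Subgroup (S : Subgroup L), Nat.card H = 2 →
        ∀ x ∈ H, x ≠ 1 → (x : L) = z := by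
      intro H hH x hx hx1
      have hxo : orderOf (x : L) = 2 := by
        rw [Subgroup.orderOf_coe]
        have := orderOf_dvd_natCard (⟨x, hx⟩ : H)
        rw [hH, Subgroup.orderOf_mk] at this
        exact ((Nat.dvd_prime Nat.prime_two).mp this).resolve_left
          (fun h => hx1 (orderOf_eq_one_iff.mp h))
      exact eq_of_rank_one hrk hz hxo (Subgroup.mem_center_iff.mp hcen x)
    intro H K hH hK
    obtain ⟨x, hx, hx1⟩ := H.bot_or_exists_ne_one.resolve_left
      (fun h => by rw [h, Subgroup.card_bot] at hH; omega)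
    refine le_antisymm (fun y hy => ?_) (fun y hy => ?_)
    · by_cases hy1 : y = 1
      · exact hy1 ▸ K.one_mem
      obtain ⟨w, hw, hw1⟩ := K.bot_or_exists_ne_one.resolve_left
        (fun h => by rw [h, Subgroup.card_bot] at hK; omega)
      rwa [Subtype.ext ((key H hH y hy hy1).trans (key K hK w hw hw1).symm)]
    · by_cases hy1 : y = 1
      · exact hy1 ▸ H.one_mem
      rwa [Subtype.ext ((key K hK y hy hy1).trans (key H hH x hx hx1).symm)]
  have hnc : ¬ IsCyclic (S : Subgroup L) := by
    intro hc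
    obtain ⟨M, hM⟩ := H65.exists_index_two_of_cyclic_sylow heven S hc
    rcases Cfsg.Comp.normal_eq_top_or_le_center hq (Subgroup.normal_of_index_eq_two hM) with h | h
    · rw [h, Subgroup.index_top] at hM
      omega
    · refine Cfsg.Comp.center_ne_top_of_quasisimple hq ?_
      have h1 : commutator L ≤ M := by
        haveI := Subgroup.normal_of_index_eq_two hM
        haveI : IsCyclic (L ⧸ M) := isCyclic_of_prime_card (p := 2) hM
        exact Subgroup.Normal.quotient_commutative_iff_commutator_le.mp inferInstance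
      exact top_le_iff.mp ((Group.isPerfect_def.mp hq.1).symm.le.trans (h1.trans h))
  rcases H2.cyclic_or_quaternion_of_unique S.isPGroup' huniq with hc | ⟨-, n, ⟨e⟩⟩
  · exact absurd hc hnc
  · obtain _ | n := n
    · refine absurd ?_ hnc
      haveI : IsCyclic (QuaternionGroup (2 ^ 0)) := QuaternionGroup.quaternionGroup_one_isCyclic
      exact isCyclic_of_surjective e.symm.toMonoidHom e.symm.surjective
    · exact ⟨n, ⟨e⟩⟩

end Cfsg.Agent.H9
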