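import Mathlib

/-!
# The model group `3^{1+2} : SL(2,3)`
-/

set_option autoImplicit false

namespace Cfsg.Agent.H9.Shape

/-- The field with three elements. -/
abbrev K3 := ZMod 3

/-- `SL(2,3)`. -/
abbrev SL23 := Matrix.SpecialLinearGroup (Fin 2) K3

/-- The Heisenberg group of order 27 in symmetric coordinates. -/
@[ext]
structure Hz where
  a : K3
  b : K3
  c : K3
deriving DecidableEq, Fintype

instance hzMul : Mul Hz := ⟨fun x y => ⟨x.a + y.a, x.b + y.b, x.c + y.c + (x.a * y.b - x.b * y.a)⟩⟩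
instance hzOne : One Hz := ⟨⟨0, 0, 0⟩⟩
instance hzInv : Inv Hz := ⟨fun x => ⟨-x.a, -x.b, -x.c⟩⟩

theorem mul_def' (x y : Hz) :
    x * y = ⟨x.a + y.a, x.b + y.b, x.c + y.c + (x.a * y.b - x.b * y.a)⟩ := rfl
theorem one_def' : (1 : Hz) = ⟨0, 0, 0⟩ := rfl
theorem inv_def' (x : Hz) : x⁻¹ = ⟨-x.a, -x.b, -x.c⟩ := rfl

instance hzGroup : Group Hz where
  mul_assoc x y z := by simp only [mul_def', Hz.mk.injEq]; exact ⟨by ring, by ring, by ring⟩
  one_mul x := by simp [mul_def', one_def']
  mul_one x := by simp [mul_def', one_def']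
  inv_mul_cancel x := by simp [mul_def', one_def', inv_def', mul_comm]

/-- The action of `SL(2,3)` on the Heisenberg group. -/
def hzAct (g : SL23) (x : Hz) : Hz :=
  ⟨g.1 0 0 * x.a + g.1 0 1 * x.b, g.1 1 0 * x.a + g.1 1 1 * x.b, x.c⟩

theorem hzAct_mul (g : SL23) (x y : Hz) : hzAct g (x * y) = hzAct g x * hzAct g y := by
  have h : g.1 0 0 * g.1 1 1 - g.1 0 1 * g.1 1 0 = 1 := by rw [← Matrix.det_fin_two]; exact g.2
  simp only [hzAct, mul_def', Hz.mk.injEq]
  refine ⟨by ring, by ring, ?_⟩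
  linear_combination -(x.a * y.b - x.b * y.a) * h

theorem hzAct_comp (g h : SL23) (x : Hz) : hzAct (g * h) x = hzAct g (hzAct h x) := by
  simp only [hzAct, Matrix.SpecialLinearGroup.coe_mul, Matrix.mul_apply, Fin.sum_univ_two,
    Hz.mk.injEq]
  exact ⟨by ring, by ring, trivial⟩

theorem hzAct_one (x : Hz) : hzAct 1 x = x := by
  simp [hzAct]

/-- The action as automorphisms. -/
def hzAutHom : SL23 →* MulAut Hz where
  toFun g :=
    { toFun := hzAct g
      invFun := hzAct g⁻¹
      left_inv := fun x => by rw [← hzAct_comp, inv_mul_cancel, hzAct_one]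
      right_inv := fun x => by rw [← hzAct_comp, mul_inv_cancel, hzAct_one]
      map_mul' := hzAct_mul g }
  map_one' := MulEquiv.ext hzAct_one
  map_mul' g h := MulEquiv.ext (hzAct_comp g h)

theorem hzAutHom_apply (g : SL23) (x : Hz) : hzAutHom g x = hzAct g x := rfl

/-- The model group. -/
abbrev Mdl := Hz ⋊[hzAutHom] SL23

theorem card_hz : Nat.card Hz = 27 := by
  rw [Nat.card_eq_fintype_card]; decide

theorem card_sl23 : Nat.card SL23 = 24 := by
  rw [Nat.card_eq_fintype_card]; decide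

theorem card_mdl : Nat.card Mdl = 648 := by
  rw [SemidirectProduct.card, card_hz, card_sl23]

instance mdlFinite : Finite Mdl := Finite.of_equiv _ SemidirectProduct.equivProd.symm

/-- Every element of `SL(2,3)` is a product of two squares. -/
theorem exists_two_squares (g : SL23) : ∃ h k : SL23, g = h * h * (k * k) := by
  revert g; decide +kernel

/-- The Sylow 2-subgroup of `SL(2,3)`. -/
def quat : Subgroup SL23 where
  carrier := {g | g ^ 4 = 1}
  one_mem' := one_pow 4
  mul_mem' := fun {g h} => by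
    revert g h
    have := (by decide +kernel : ∀ g : SL23, g ^ 4 = 1 → ∀ h : SL23, h ^ 4 = 1 → (g * h) ^ 4 = 1)
    exact fun {g h} hg hh => this g hg h hh
  inv_mem' := fun {g} hg => by
    show g⁻¹ ^ 4 = 1
    rw [inv_pow, hg, inv_one]

theorem card_quat : Nat.card quat = 8 := by
  have : quat = (⟨quat.toSubmonoid, quat.inv_mem'⟩ : Subgroup SL23) := rfl
  show Nat.card {g : SL23 // g ^ 4 = 1} = 8
  rw [Nat.card_eq_fintype_card]; decide +kernel

theorem eq_one_of_quat_of_cube (g : SL23) (h4 : g ^ 4 = 1) (h3 : g ^ 3 = 1) : g = 1 := by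
  rw [pow_succ, h3, one_mul] at h4; exact h4

end Cfsg.Agent.H9.Shape
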