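import Cfsg.Agent.H9.ShapeModel
import Cfsg.Agent.H49.SpBlock
import Cfsg.Agent.H48.Count
import Cfsg.Prelude.Def_Classical

/-!
# The model group as the centraliser of a transvection in `PSp(4,3)`
-/

set_option autoImplicit false
set_option linter.unusedSectionVars false
set_option linter.unusedSimpArgs false
set_option linter.unusedTactic false
set_option linter.unreachableTactic false

namespace Cfsg.Agent.H9.Shape

open Matrix

variable {F : Type*} [Field F] [Fintype F] (e : K3 ≃+* F)

/-- Index type. -/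
abbrev Ix := Fin 2 ⊕ Fin 2

/-- The matrix attached to an element of the model. -/
def spMat (v : F × F) (c : F) (g : Matrix (Fin 2) (Fin 2) F) : Matrix Ix Ix F :=
  Matrix.fromBlocks
    !![1, -v.2 * g 0 0 + v.1 * g 1 0; 0, g 0 0]
    !![c, -v.2 * g 0 1 + v.1 * g 1 1; v.1, g 0 1]
    !![0, 0; 0, g 1 0]
    !![1, 0; v.2, g 1 1]

theorem spMat_mem (v : F × F) (c : F) (g : Matrix (Fin 2) (Fin 2) F) (hg : g.det = 1) :
    spMat v c g ∈ Matrix.symplecticGroup (Fin 2) F := by
  rw [Matrix.det_fin_two] at hg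
  rw [SymplecticGroup.mem_iff, spMat, Matrix.J, Matrix.fromBlocks_transpose,
    Matrix.fromBlocks_multiply, Matrix.fromBlocks_multiply]
  refine Matrix.fromBlocks_inj.2 ⟨?_, ?_, ?_, ?_⟩ <;>
    · ext i j
      fin_cases i <;> fin_cases j <;>
        simp [Matrix.mul_apply, Fin.sum_univ_two, Matrix.transpose_apply, Matrix.vecMul, Matrix.mulVec, dotProduct, Matrix.vecHead, Matrix.vecTail] <;>
        (try ring_nf) <;>
        first
          | linear_combination hg
          | linear_combination -hg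
          | linear_combination v.1 * hg
          | linear_combination (-v.1) * hg
          | linear_combination v.2 * hg
          | linear_combination (-v.2) * hg

theorem spMat_mul (v w : F × F) (c d : F) (g h : Matrix (Fin 2) (Fin 2) F) (hg : g.det = 1) :
    spMat v c g * spMat w d h =
      spMat (v.1 + (g 0 0 * w.1 + g 0 1 * w.2), v.2 + (g 1 0 * w.1 + g 1 1 * w.2))
        (c + d + (v.1 * (g 1 0 * w.1 + g 1 1 * w.2) - v.2 * (g 0 0 * w.1 + g 0 1 * w.2))) (g * h) := by
  rw [spMat, spMat, spMat, Matrix.fromBlocks_multiply]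
  rw [Matrix.det_fin_two] at hg
  refine Matrix.fromBlocks_inj.2 ⟨?_, ?_, ?_, ?_⟩ <;>
    · ext i j
      fin_cases i <;> fin_cases j <;>
        simp [Matrix.mul_apply, Fin.sum_univ_two, Matrix.transpose_apply, Matrix.vecMul, Matrix.mulVec, dotProduct, Matrix.vecHead, Matrix.vecTail] <;>
        (try ring_nf) <;>
        first
          | linear_combination (w.2 * h 0 0 - w.1 * h 1 0) * hg
          | linear_combination (w.1 * h 1 0 - w.2 * h 0 0) * hg
          | linear_combination (w.2 * h 0 1 - w.1 * h 1 1) * hg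
          | linear_combination (w.1 * h 1 1 - w.2 * h 0 1) * hg

theorem spMat_one : spMat ((0 : F), (0 : F)) 0 1 = 1 := by
  ext i j
  rcases i with i | i <;> rcases j with j | j <;> fin_cases i <;> fin_cases j <;>
    simp [spMat]

/-- The map of the model into `Sp(4,F)`. -/
def toSp : Mdl →* Matrix.symplecticGroup (Fin 2) F :=
  MonoidHom.mk' (fun m => ⟨spMat (e m.left.a, e m.left.b) (e m.left.c) (m.right.1.map e),
      spMat_mem _ _ _ (by
        rw [show m.right.1.map e = e.toRingHom.mapMatrix m.right.1 from rfl, ← RingHom.map_det,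
          m.right.2, map_one])⟩) fun m n => by
    apply Subtype.ext
    show spMat _ _ _ = spMat _ _ _ * spMat _ _ _
    rw [spMat_mul _ _ _ _ _ _ (by
        rw [show m.right.1.map e = e.toRingHom.mapMatrix m.right.1 from rfl, ← RingHom.map_det,
          m.right.2, map_one])]
    simp only [SemidirectProduct.mul_left, SemidirectProduct.mul_right, hzAutHom_apply, hzAct,
      mul_def', map_add, map_sub, map_mul, Matrix.map_apply, Matrix.SpecialLinearGroup.coe_mul]
    congr 1
    exact Matrix.map_mul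

theorem toSp_apply (m : Mdl) :
    ((toSp e m : Matrix.symplecticGroup (Fin 2) F) : Matrix Ix Ix F) =
      spMat (e m.left.a, e m.left.b) (e m.left.c) (m.right.1.map e) := rfl

theorem toSp_injective : Function.Injective (toSp e) := by
  intro m n h
  have h' := congrArg (fun x : Matrix.symplecticGroup (Fin 2) F => (x : Matrix Ix Ix F)) h
  simp only [toSp_apply, spMat] at h'
  obtain ⟨hA, hB, hC, hD⟩ := Matrix.fromBlocks_inj.1 h'
  refine SemidirectProduct.ext (Hz.ext ?_ ?_ ?_) (Subtype.ext (Matrix.ext fun i j => ?_))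
  · exact e.injective (congrFun (congrFun hB 1) 0)
  · exact e.injective (congrFun (congrFun hD 1) 0)
  · exact e.injective (congrFun (congrFun hB 0) 0)
  · apply e.injective
    fin_cases i <;> fin_cases j
    · exact congrFun (congrFun hA 1) 1
    · exact congrFun (congrFun hB 1) 1
    · exact congrFun (congrFun hC 1) 1
    · exact congrFun (congrFun hD 1) 1

/-- The map of the model into `PSp(4,F)`. -/
def toPSp : Mdl →* Cfsg.PSp 2 F :=
  (QuotientGroup.mk' (Subgroup.center (Matrix.symplecticGroup (Fin 2) F))).comp (toSp e)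

/-- The central element of the model. -/
def mdlZ : Mdl := SemidirectProduct.inl ⟨0, 0, 1⟩

theorem mdlZ_pow : mdlZ ^ 3 = 1 := by
  rw [mdlZ, ← map_pow, show (⟨0, 0, 1⟩ : Hz) ^ 3 = 1 from by decide, map_one]

theorem mdlZ_comm (m : Mdl) : m * mdlZ = mdlZ * m := by
  refine SemidirectProduct.ext ?_ (by simp [mdlZ])
  simp [mdlZ, hzAutHom_apply, hzAct, mul_def']
  ring

include e in
theorem e_two_ne : (2 : F) ≠ 0 := fun h => by
  have : e (2 : K3) = e 0 := by rw [map_ofNat, map_zero]; exact h
  exact absurd (e.injective this) (by decide)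

include e in
theorem e_three : (3 : F) = 0 := by
  rw [← map_ofNat e 3, ← map_zero e]; rfl

theorem toPSp_injective : Function.Injective (toPSp e) := by
  refine (injective_iff_map_eq_one _).2 fun m hm => ?_
  rw [toPSp, MonoidHom.comp_apply, QuotientGroup.mk'_apply, QuotientGroup.eq_one_iff] at hm
  rcases H49.eq_one_or_negOne_of_mem_center hm with h | h
  · exact toSp_injective e (h.trans (map_one _).symm)
  · exfalso
    have h1 := congrFun (congrFun (congrArg
      (fun x : Matrix.symplecticGroup (Fin 2) F => (x : Matrix Ix Ix F)) h) (Sum.inl 0)) (Sum.inl 0)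
    simp [toSp_apply, spMat, H49.spNegOne] at h1
    apply e_two_ne e
    linear_combination h1

/-- The transvection. -/
def cElt : Cfsg.PSp 2 F := toPSp e mdlZ

theorem orderOf_cElt : orderOf (cElt e) = 3 := by
  rw [cElt, orderOf_injective _ (toPSp_injective e)]
  exact orderOf_eq_prime mdlZ_pow fun h => absurd (congrArg SemidirectProduct.left h) (by decide)

theorem toPSp_mem (m : Mdl) :
    toPSp e m ∈ Subgroup.centralizer ({cElt e} : Set (Cfsg.PSp 2 F)) := by
  rw [Subgroup.mem_centralizer_singleton_iff, cElt, ← map_mul, ← map_mul, mdlZ_comm]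

/-- Entries of a matrix commuting with the transvection, normalised. -/
theorem mem_range_of_comm (g : Matrix.symplecticGroup (Fin 2) F)
    (hc : g * toSp e mdlZ = toSp e mdlZ * g)
    (h00 : (g : Matrix Ix Ix F) (Sum.inl 0) (Sum.inl 0) = 1) : g ∈ (toSp e).range := by
  set A : Matrix Ix Ix F := (g : Matrix Ix Ix F) with hA
  have hT : ((toSp e mdlZ : Matrix.symplecticGroup (Fin 2) F) : Matrix Ix Ix F) =
      spMat (0, 0) 1 1 := by
    simp [toSp_apply, mdlZ]
  have hcomm : A * spMat (0, 0) 1 1 = spMat (0, 0) 1 1 * A := by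
    rw [← hT]
    exact congrArg (fun x : Matrix.symplecticGroup (Fin 2) F => (x : Matrix Ix Ix F)) hc
  have hJ : Aᵀ * Matrix.J (Fin 2) F * A = Matrix.J (Fin 2) F :=
    SymplecticGroup.mem_iff'.1 g.2
  have ent := fun i j => congrFun (congrFun hcomm i) j
  have form := fun i j => congrFun (congrFun hJ i) j
  have e10 := ent (Sum.inl 1) (Sum.inr 0)
  have e30 := ent (Sum.inr 1) (Sum.inr 0)
  have e20 := ent (Sum.inr 0) (Sum.inr 0)
  have e22 := ent (Sum.inl 0) (Sum.inr 0)
  have e21 := ent (Sum.inl 0) (Sum.inl 1)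
  have e23 := ent (Sum.inl 0) (Sum.inr 1)
  simp [Matrix.mul_apply, Fintype.sum_sum_type, Fin.sum_univ_two, spMat] at e10 e30 e20 e22 e21 e23
  have f12 := form (Sum.inr 0) (Sum.inl 1)
  have f14 := form (Sum.inr 0) (Sum.inr 1)
  have f24 := form (Sum.inl 1) (Sum.inr 1)
  simp [Matrix.mul_apply, Fintype.sum_sum_type, Fin.sum_univ_two, Matrix.J, Matrix.transpose_apply]
    at f12 f14 f24
  have k22 : A (Sum.inr 0) (Sum.inr 0) = 1 := by
    rw [← h00]; linear_combination (norm := ring_nf) -e22
  have hdet : A (Sum.inl 1) (Sum.inl 1) * A (Sum.inr 1) (Sum.inr 1) -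
      A (Sum.inl 1) (Sum.inr 1) * A (Sum.inr 1) (Sum.inl 1) = 1 := by
    simp [e21, e23] at f24
    linear_combination (norm := ring_nf) -f24
  let l : SL23 := ⟨!![e.symm (A (Sum.inl 1) (Sum.inl 1)), e.symm (A (Sum.inl 1) (Sum.inr 1));
      e.symm (A (Sum.inr 1) (Sum.inl 1)), e.symm (A (Sum.inr 1) (Sum.inr 1))], by
    rw [Matrix.det_fin_two_of, ← map_mul, ← map_mul, ← map_sub, hdet, map_one]⟩
  let m : Mdl := ⟨⟨e.symm (A (Sum.inl 1) (Sum.inr 0)), e.symm (A (Sum.inr 1) (Sum.inr 0)),
    e.symm (A (Sum.inl 0) (Sum.inr 0))⟩, l⟩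
  refine ⟨m, Subtype.ext ?_⟩
  show spMat _ _ _ = A
  ext i j
  rcases i with i | i <;> rcases j with j | j <;> fin_cases i <;> fin_cases j <;>
    simp [spMat, m, l, h00, e10, e30, e20, k22, e21, e23]
  · simp [e21, k22] at f12
    linear_combination (norm := ring_nf) -f12
  · simp [e23, k22] at f14
    linear_combination (norm := ring_nf) -f14

theorem mem_range_of_centralizer (x : Cfsg.PSp 2 F)
    (hx : x ∈ Subgroup.centralizer ({cElt e} : Set (Cfsg.PSp 2 F))) : x ∈ (toPSp e).range := by
  obtain ⟨g, rfl⟩ := QuotientGroup.mk'_surjective _ x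
  rw [Subgroup.mem_centralizer_singleton_iff, cElt, toPSp, MonoidHom.comp_apply, ← map_mul,
    ← map_mul, QuotientGroup.mk'_eq_mk'] at hx
  obtain ⟨z, hz, hzeq⟩ := hx
  have hc : g * toSp e mdlZ = toSp e mdlZ * g := by
    rcases H49.eq_one_or_negOne_of_mem_center hz with rfl | rfl
    · rw [mul_one] at hzeq; exact hzeq
    · exfalso
      have h1 := congrArg (fun y : Matrix.symplecticGroup (Fin 2) F =>
        Matrix.trace ((y : Matrix Ix Ix F) * ((g⁻¹ : Matrix.symplecticGroup (Fin 2) F) : Matrix Ix Ix F)))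
        hzeq
      have hg : ((g⁻¹ : Matrix.symplecticGroup (Fin 2) F) : Matrix Ix Ix F) * (g : Matrix Ix Ix F) = 1 :=
        congrArg (fun y : Matrix.symplecticGroup (Fin 2) F => (y : Matrix Ix Ix F)) (inv_mul_cancel g)
      have hg' : (g : Matrix Ix Ix F) * ((g⁻¹ : Matrix.symplecticGroup (Fin 2) F) : Matrix Ix Ix F) = 1 :=
        congrArg (fun y : Matrix.symplecticGroup (Fin 2) F => (y : Matrix Ix Ix F)) (mul_inv_cancel g)
      simp only [Submonoid.coe_mul, H49.spNegOne, mul_neg, mul_one, neg_mul, Matrix.trace_neg] at h1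
      rw [Matrix.trace_mul_cycle, hg, one_mul, Matrix.mul_assoc, hg', mul_one] at h1
      simp [toSp_apply, mdlZ, spMat, Matrix.trace, Fintype.sum_sum_type, Fin.sum_univ_two] at h1
      apply e_two_ne e
      linear_combination (norm := ring_nf) -h1 - 2 * e_three e
  -- normalise the leading entry
  have hsq : (g : Matrix Ix Ix F) (Sum.inl 0) (Sum.inl 0) = 1 ∨
      (g : Matrix Ix Ix F) (Sum.inl 0) (Sum.inl 0) = -1 := by
    have hne : (g : Matrix Ix Ix F) (Sum.inl 0) (Sum.inl 0) ≠ 0 := by
      intro h0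
      have hcomm := congrArg (fun y : Matrix.symplecticGroup (Fin 2) F => (y : Matrix Ix Ix F)) hc
      have e10 := congrFun (congrFun hcomm (Sum.inl 1)) (Sum.inr 0)
      have e30 := congrFun (congrFun hcomm (Sum.inr 1)) (Sum.inr 0)
      have e20 := congrFun (congrFun hcomm (Sum.inr 0)) (Sum.inr 0)
      simp [toSp_apply, mdlZ, spMat, Matrix.mul_apply, Fintype.sum_sum_type, Fin.sum_univ_two]
        at e10 e30 e20
      have hdet := SymplecticGroup.symplectic_det g.2
      rw [Matrix.det_eq_zero_of_column_eq_zero (Sum.inl 0)] at hdet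
      · simp at hdet
      · intro i
        rcases i with i | i <;> fin_cases i <;> assumption
    obtain ⟨k, hk⟩ := e.surjective ((g : Matrix Ix Ix F) (Sum.inl 0) (Sum.inl 0))
    rw [← hk] at hne ⊢
    have : k = 1 ∨ k = -1 := by
      have hk0 : k ≠ 0 := fun h => hne (by rw [h, map_zero])
      exact (by decide : ∀ k : K3, k ≠ 0 → k = 1 ∨ k = -1) k hk0
    rcases this with rfl | rfl <;> simp
  rcases hsq with h | h
  · obtain ⟨m, hm⟩ := mem_range_of_comm e g hc h
    exact ⟨m, by rw [toPSp, MonoidHom.comp_apply, hm]⟩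
  · have hcent := H49.spNegOne_mem_center (l := Fin 2) (F := F)
    obtain ⟨m, hm⟩ := mem_range_of_comm e (H49.spNegOne (Fin 2) F * g)
      (by rw [mul_assoc, hc, ← mul_assoc, ← mul_assoc, (Subgroup.mem_center_iff.1 hcent _)])
      (by simp [H49.spNegOne, h])
    refine ⟨m, ?_⟩
    rw [toPSp, MonoidHom.comp_apply, hm, map_mul]
    rw [show QuotientGroup.mk' _ (H49.spNegOne (Fin 2) F) = 1 from
      (QuotientGroup.eq_one_iff _).2 hcent, one_mul]

/-- The model is the centraliser of the transvection. -/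
theorem centralizer_eq_range :
    Subgroup.centralizer ({cElt e} : Set (Cfsg.PSp 2 F)) = (toPSp e).range :=
  le_antisymm (fun x hx => mem_range_of_centralizer e x hx)
    (by rintro _ ⟨m, rfl⟩; exact toPSp_mem e m)

/-- The isomorphism of the model with the centraliser. -/
noncomputable def mdlEquiv : Mdl ≃* Subgroup.centralizer ({cElt e} : Set (Cfsg.PSp 2 F)) :=
  (MonoidHom.ofInjective (toPSp_injective e)).trans
    (MulEquiv.subgroupCongr (centralizer_eq_range e).symm)

theorem exists_sylow_cElt :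
    ∃ S : Sylow 3 (Cfsg.PSp 2 F), cElt e ∈ (S : Subgroup (Cfsg.PSp 2 F)) ∧
      cElt e ∈ Subgroup.centralizer ((S : Subgroup (Cfsg.PSp 2 F)) : Set (Cfsg.PSp 2 F)) := by
  have : Fact (Nat.Prime 3) := ⟨by norm_num⟩
  set C := Subgroup.centralizer ({cElt e} : Set (Cfsg.PSp 2 F)) with hC
  have hcardC : Nat.card C = 648 := by
    rw [← Nat.card_congr (mdlEquiv e).toEquiv, card_mdl]
  have hcC : cElt e ∈ C := Subgroup.mem_centralizer_singleton_iff.2 rfl
  have hzp : IsPGroup 3 (Subgroup.zpowers (⟨cElt e, hcC⟩ : C)) := by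
    apply IsPGroup.of_card (n := 1)
    rw [Nat.card_zpowers, Subgroup.orderOf_mk, orderOf_cElt, pow_one]
  obtain ⟨P, hP⟩ := hzp.exists_le_sylow
  have hPcard : Nat.card (P : Subgroup C) = 3 ^ 4 := by
    rw [Sylow.card_eq_multiplicity, hcardC]
    congr 1
    rw [show (648 : ℕ) = 3 ^ 4 * 8 by norm_num, Nat.factorization_mul (by norm_num) (by norm_num),
      Nat.Prime.factorization_pow (by norm_num)]
    simp [Nat.factorization_eq_zero_of_not_dvd]
  have hdvd : Nat.card (Cfsg.PSp 2 F) ∣ 3 ^ 4 * 640 := by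
    refine (Subgroup.card_quotient_dvd_card _).trans ?_
    have hF : Fintype.card F = 3 := by
      rw [← Fintype.card_congr e.toEquiv, ZMod.card]
    rw [H48.card_sp, hF]
    simp [Finset.prod_range_succ]
  have hP' : IsPGroup 3 ((P : Subgroup C).map C.subtype) := P.2.map _
  have hPcard' : Nat.card ((P : Subgroup C).map C.subtype) = 3 ^ 4 := by
    rw [← Nat.card_congr (Subgroup.equivMapOfInjective _ _ C.subtype_injective).toEquiv, hPcard]
  obtain ⟨S, hS⟩ := hP'.exists_le_sylow
  have hSeq : (S : Subgroup (Cfsg.PSp 2 F)) = (P : Subgroup C).map C.subtype := by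
    refine (Subgroup.eq_of_le_of_card_ge hS ?_).symm
    obtain ⟨k, hk⟩ := IsPGroup.iff_card.1 S.2
    rw [hPcard', hk]
    have h1 : 3 ^ k ∣ 3 ^ 4 * 640 := hk ▸ (Subgroup.card_subgroup_dvd_card _).trans hdvd
    exact Nat.le_of_dvd (by norm_num) ((Nat.Coprime.pow_left k (by norm_num)).dvd_of_dvd_mul_right h1)
  refine ⟨S, ?_, ?_⟩
  · rw [hSeq]; exact ⟨⟨cElt e, hcC⟩, hP (Subgroup.mem_zpowers _), rfl⟩
  · rw [hSeq, Subgroup.mem_centralizer_iff]
    rintro _ ⟨y, -, rfl⟩
    exact Subgroup.mem_centralizer_singleton_iff.1 y.2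

end Cfsg.Agent.H9.Shape
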