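import Cfsg.Agent.H9.ShapeModel
import Cfsg.Prelude.Def_Solvable
import Cfsg.Prelude.Def_Transfer

/-!
# Groups of shape `3^{1+2} : SL(2,3)`
-/

set_option autoImplicit false
set_option linter.unusedSectionVars false

open scoped commutatorElement

namespace Cfsg.Agent.H9.Shape

universe u

variable {X : Type u} [Group X] [Finite X]

theorem k3_cube : ∀ j : K3, j ^ 3 = 1 → j = 1 := by decide
theorem k3_sq : ∀ i : K3, i ≠ 0 → i * i = 1 := by decide
theorem k3_eq_neg : ∀ c : K3, c = -c → c = 0 := by decide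
theorem k3_neg_eq : ∀ c : K3, -c = c → c = 0 := by decide
theorem k3_two : ∀ c : K3, 2 * c = 0 → c = 0 := by decide
theorem k3_neg_two : -(2 : K3) = 1 := by decide
theorem k3_three : (3 : K3) = 0 := by decide

theorem mem_zpowers_three {z x : X} (hz : orderOf z = 3) (hx : x ∈ Subgroup.zpowers z) :
    x = 1 ∨ x = z ∨ x = z ^ 2 := by
  classical
  rw [← mem_powers_iff_mem_zpowers, (isOfFinOrder_of_finite z).mem_powers_iff_mem_range_orderOf,
    hz] at hx
  simp only [Finset.mem_image, Finset.mem_range] at hx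
  obtain ⟨k, hk, rfl⟩ := hx
  interval_cases k <;> simp

theorem le_pCore' {p : ℕ} {N : Subgroup X} (hn : N.Normal) (hp : IsPGroup p N) :
    N ≤ Cfsg.pCore p X :=
  le_sSup ⟨hn, hp⟩

/-- A subgroup of index three fixed by a cube acts trivially modulo a subgroup. -/
theorem comm_mem_of_index_three {Z W : Subgroup X} (hZW : Z ≤ W) (hZ : Nat.card Z = 3)
    (hW : Nat.card W = 9) {s : X} (hsZ : ∀ z ∈ Z, s * z * s⁻¹ ∈ Z)
    (hsW : ∀ w ∈ W, s * w * s⁻¹ ∈ W) (hWab : ∀ v ∈ W, ∀ w ∈ W, v * w = w * v)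
    (hs3 : ∀ w ∈ W, s ^ 3 * w * (s ^ 3)⁻¹ * w⁻¹ ∈ Z) {w : X} (hw : w ∈ W) :
    s * w * s⁻¹ * w⁻¹ ∈ Z := by
  by_cases hwZ : w ∈ Z
  · exact mul_mem (hsZ w hwZ) (inv_mem hwZ)
  have : Fact (Nat.Prime 3) := ⟨by norm_num⟩
  have hidx : (Z.subgroupOf W).index = 3 := by
    have h := (Z.subgroupOf W).card_mul_index
    rw [Nat.card_congr (Subgroup.subgroupOfEquivOfLe hZW).toEquiv, hZ, hW] at h
    omega
  haveI : (Z.subgroupOf W).Normal :=
    ⟨fun z hz g => by
      rw [Subgroup.mem_subgroupOf] at hz ⊢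
      push_cast
      rw [hWab g g.2 z z.2, mul_inv_cancel_right]
      exact hz⟩
  set π := QuotientGroup.mk' (Z.subgroupOf W) with hπ
  have hq : Nat.card (W ⧸ Z.subgroupOf W) = 3 := hidx
  have hgen : ∀ v ∈ W, ∃ i : ℕ, v * (w ^ i)⁻¹ ∈ Z := by
    intro v hv
    have hne : π ⟨w, hw⟩ ≠ 1 := by
      rw [hπ, Ne, QuotientGroup.mk'_apply, QuotientGroup.eq_one_iff, Subgroup.mem_subgroupOf]
      exact hwZ
    have htop := zpowers_eq_top_of_prime_card hq hne
    have hmem : π ⟨v, hv⟩ ∈ Subgroup.zpowers (π ⟨w, hw⟩) := htop ▸ Subgroup.mem_top _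
    rw [← mem_powers_iff_mem_zpowers] at hmem
    obtain ⟨i, hi⟩ := hmem
    refine ⟨i, ?_⟩
    have h2 : π (⟨v, hv⟩ * (⟨w, hw⟩ ^ i)⁻¹) = 1 := by
      rw [map_mul, map_inv, map_pow, ← hi]
      exact mul_inv_cancel _
    rw [hπ, QuotientGroup.mk'_apply, QuotientGroup.eq_one_iff, Subgroup.mem_subgroupOf] at h2
    simpa using h2
  obtain ⟨i, hi⟩ := hgen _ (hsW w hw)
  have hpow : ∀ n : ℕ, s ^ n * w * (s ^ n)⁻¹ * (w ^ (i ^ n))⁻¹ ∈ Z := by
    intro n
    induction n with
    | zero => simp [one_mem]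
    | succ n ih =>
      have h1 := hsZ _ ih
      have h2 : s * (w ^ (i ^ n)) * s⁻¹ * (w ^ (i ^ (n + 1)))⁻¹ ∈ Z := by
        rw [← conj_pow, pow_succ' i n, pow_mul]
        have hc : Commute (s * w * s⁻¹) (w ^ i)⁻¹ :=
          (Commute.pow_right (hWab _ (hsW w hw) w hw) i).inv_right
        rw [← inv_pow, ← hc.mul_pow]
        exact pow_mem hi _
      have e : s ^ (n + 1) * w * (s ^ (n + 1))⁻¹ * (w ^ (i ^ (n + 1)))⁻¹ =
          s * (s ^ n * w * (s ^ n)⁻¹ * (w ^ (i ^ n))⁻¹) * s⁻¹ *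
            (s * (w ^ (i ^ n)) * s⁻¹ * (w ^ (i ^ (n + 1)))⁻¹) := by
        rw [pow_succ' s n]; group
      rw [e]
      exact mul_mem h1 h2
  have h3 : w ^ (i ^ 3) * w⁻¹ ∈ Z := by
    have e : w ^ (i ^ 3) * w⁻¹ = (s ^ 3 * w * (s ^ 3)⁻¹ * (w ^ (i ^ 3))⁻¹)⁻¹ *
        (s ^ 3 * w * (s ^ 3)⁻¹ * w⁻¹) := by group
    rw [e]
    exact mul_mem (inv_mem (hpow 3)) (hs3 w hw)
  have h4 : ((i ^ 3 : ℕ) : ZMod 3) = 1 := by
    have h5 : π ⟨w, hw⟩ ^ (i ^ 3) = π ⟨w, hw⟩ := by
      rw [← map_pow, hπ, QuotientGroup.mk'_apply, QuotientGroup.mk'_apply,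
        QuotientGroup.eq, Subgroup.mem_subgroupOf]
      have := inv_mem h3
      rw [mul_inv_rev, inv_inv] at this
      simp only [Subgroup.coe_mul, Subgroup.coe_inv, Subgroup.coe_pow]
      rw [← (Commute.pow_right (Commute.refl w) (i ^ 3)).inv_right.eq] at *
      exact this
    have hord : orderOf (π ⟨w, hw⟩) = 3 := by
      refine orderOf_eq_prime ?_ ?_
      · rw [← hq]; exact pow_card_eq_one'
      · rw [hπ, Ne, QuotientGroup.mk'_apply, QuotientGroup.eq_one_iff, Subgroup.mem_subgroupOf]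
        exact hwZ
    nth_rewrite 2 [← pow_one (π ⟨w, hw⟩)] at h5
    rw [pow_eq_pow_iff_modEq, hord, ← ZMod.natCast_eq_natCast_iff, Nat.cast_one] at h5
    exact h5
  rw [Nat.cast_pow] at h4
  have h6 : (i : ZMod 3) = 1 := by
    exact k3_cube _ h4
  obtain ⟨k, hk⟩ : ∃ k, i = 3 * k + 1 := by
    refine ⟨i / 3, ?_⟩
    have := congrArg ZMod.val h6
    rw [ZMod.val_natCast, ZMod.val_one] at this
    omega
  have hw3 : w ^ 3 ∈ Z := by
    have : π ⟨w, hw⟩ ^ 3 = 1 := by rw [← hq]; exact pow_card_eq_one'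
    rwa [← map_pow, hπ, QuotientGroup.mk'_apply, QuotientGroup.eq_one_iff,
      Subgroup.mem_subgroupOf, Subgroup.coe_pow] at this
  have e : s * w * s⁻¹ * w⁻¹ = s * w * s⁻¹ * (w ^ i)⁻¹ * (w ^ 3) ^ k := by
    rw [hk, ← pow_mul, pow_succ]; group
  rw [e]
  exact mul_mem hi (pow_mem hw3 _)

/-- `ZMod 3`-powers. -/
def zp (a : X) (i : K3) : X := a ^ i.val

theorem zp_add {a : X} (h : a ^ 3 = 1) (i j : K3) : zp a (i + j) = zp a i * zp a j := by
  rw [zp, zp, zp, ← pow_add, ZMod.val_add, ← pow_eq_pow_mod _ h]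

theorem zp_neg {a : X} (h : a ^ 3 = 1) (i : K3) : zp a (-i) = (zp a i)⁻¹ := by
  rw [eq_inv_iff_mul_eq_one, ← zp_add h, neg_add_cancel, zp, ZMod.val_zero, pow_zero]

theorem zp_zero (a : X) : zp a 0 = 1 := by rw [zp, ZMod.val_zero, pow_zero]

theorem zp_one (a : X) : zp a 1 = a := by rw [zp, ZMod.val_one, pow_one]

theorem zp_natCast {a : X} (h : a ^ 3 = 1) (n : ℕ) : zp a (n : K3) = a ^ n := by
  rw [zp, ZMod.val_natCast, ← pow_eq_pow_mod _ h]

theorem swap_pow {a b u : X} (hu : u = a * b * a⁻¹ * b⁻¹) (hua : Commute u a) (hub : Commute u b)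
    (j i : ℕ) : b ^ j * a ^ i = a ^ i * b ^ j * u⁻¹ ^ (i * j) := by
  have h0 : b * a = a * b * u⁻¹ := by
    have h1 : a * b = u * (b * a) := by rw [hu]; group
    have h2 : Commute u (b * a) := hub.mul_right hua
    rw [h1, h2.eq, mul_inv_cancel_right]
  have hi : ∀ i : ℕ, b * a ^ i = a ^ i * b * u⁻¹ ^ i := by
    intro i
    induction i with
    | zero => simp
    | succ i ih =>
      calc b * a ^ (i + 1) = b * a ^ i * a := by rw [pow_succ, ← mul_assoc]
        _ = a ^ i * b * (u⁻¹ ^ i * a) := by rw [ih, mul_assoc]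
        _ = a ^ i * (b * a) * u⁻¹ ^ i := by
          rw [((hua.inv_left).pow_left i).eq, ← mul_assoc, mul_assoc (a ^ i)]
        _ = a ^ (i + 1) * b * u⁻¹ ^ (i + 1) := by
          rw [h0, pow_succ a, pow_succ' u⁻¹]; group
  induction j with
  | zero => simp
  | succ j ih =>
    calc b ^ (j + 1) * a ^ i = b ^ j * (b * a ^ i) := by rw [pow_succ, mul_assoc]
      _ = b ^ j * a ^ i * b * u⁻¹ ^ i := by rw [hi, ← mul_assoc, ← mul_assoc]
      _ = a ^ i * b ^ j * (u⁻¹ ^ (i * j) * b) * u⁻¹ ^ i := by rw [ih, mul_assoc (a ^ i * b ^ j)]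
      _ = a ^ i * b ^ (j + 1) * u⁻¹ ^ (i * (j + 1)) := by
        rw [((hub.inv_left).pow_left _).eq, pow_succ, Nat.mul_succ, pow_add]; group

theorem hz_gen (h : Hz) :
    h = (⟨1, 0, 0⟩ : Hz) ^ h.a.val * (⟨0, 1, 0⟩ : Hz) ^ h.b.val *
      (⟨0, 0, 1⟩ : Hz) ^ (h.c - h.a * h.b).val := by
  revert h; decide +kernel

theorem hzAct_faithful {g : SL23} (hg : ∀ h, hzAct g h = h) : g = 1 := by
  revert g; decide +kernel

theorem sl23_involution_central : ∀ g : SL23, g * g = 1 → g ≠ 1 → ∀ h : SL23, g * h = h * g := by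
  decide +kernel

/-- The data: an involution, two inverted generators. -/
theorem exists_frame
    (hR : Cfsg.IsExtraspecial 3 (Cfsg.pCore 3 X)) (hRcard : Nat.card (Cfsg.pCore 3 X) = 27)
    (hRexp : ∀ r ∈ Cfsg.pCore 3 X, r ^ 3 = 1) (hRn : (Cfsg.pCore 3 X).Normal)
    (e : X ⧸ Cfsg.pCore 3 X ≃* SL23) (hO2 : Cfsg.pCore 2 X = ⊥) :
    ∃ t a b u : X, t * t = 1 ∧ t ∉ Cfsg.pCore 3 X ∧ (∀ x : X, x * t * x⁻¹ * t⁻¹ ∈ Cfsg.pCore 3 X) ∧
      a ∈ Cfsg.pCore 3 X ∧ b ∈ Cfsg.pCore 3 X ∧ a * b ≠ b * a ∧ u = a * b * a⁻¹ * b⁻¹ ∧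
      t * a * t⁻¹ = a⁻¹ ∧ t * b * t⁻¹ = b⁻¹ ∧ (∀ x : X, x * u * x⁻¹ = u) ∧
      Subgroup.centralizer (Cfsg.pCore 3 X : Set X) = Subgroup.zpowers u := by
  set R := Cfsg.pCore 3 X with hRdef
  have : Fact (Nat.Prime 3) := ⟨by norm_num⟩
  have : Fact (Nat.Prime 2) := ⟨by norm_num⟩
  set C := Subgroup.centralizer (R : Set X) with hCdef
  have hCn : C.Normal := Subgroup.normal_centralizer
  set Z := R ⊓ C with hZdef
  have hZn : Z.Normal := Subgroup.normal_inf_normal _ _
  have hZmap : Z = (Subgroup.center R).map R.subtype := by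
    ext x
    constructor
    · rintro ⟨hxR, hxC⟩
      exact ⟨⟨x, hxR⟩, Subgroup.mem_center_iff.2 fun g => Subtype.ext
        (Subgroup.mem_centralizer_iff.1 hxC g g.2), rfl⟩
    · rintro ⟨y, hy, rfl⟩
      exact ⟨y.2, Subgroup.mem_centralizer_iff.2 fun g hg =>
        congrArg Subtype.val (Subgroup.mem_center_iff.1 hy ⟨g, hg⟩)⟩
  have hZcard : Nat.card Z = 3 := by
    rw [hZmap, ← Nat.card_congr (Subgroup.equivMapOfInjective _ _ R.subtype_injective).toEquiv, hR.2]
  have hcommZ : ∀ a ∈ R, ∀ b ∈ R, a * b * a⁻¹ * b⁻¹ ∈ Z := by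
    intro a ha b hb
    have : ⁅(⟨a, ha⟩ : R), ⟨b, hb⟩⁆ ∈ Subgroup.center R := by
      rw [← hR.1.2.2]
      exact Subgroup.commutator_mem_commutator (Subgroup.mem_top _) (Subgroup.mem_top _)
    rw [hZmap]
    exact ⟨_, this, by simp [commutatorElement_def]⟩
  have hnc : ∃ a ∈ R, ∃ b ∈ R, a * b ≠ b * a := by
    by_contra hh
    push Not at hh
    have : Z = R := le_antisymm inf_le_left fun r hr =>
      ⟨hr, Subgroup.mem_centralizer_iff.2 fun g hg => hh g hg r hr⟩
    rw [this, hRcard] at hZcard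
    omega
  have hcardX : Nat.card X = 648 := by
    rw [Subgroup.card_eq_card_quotient_mul_card_subgroup R, Nat.card_congr e.toEquiv, card_sl23,
      hRcard]
  -- a normal 3-subgroup lies in R
  have hle3 : ∀ N : Subgroup X, N.Normal → IsPGroup 3 N → N ≤ R := fun N h1 h2 => le_pCore' h1 h2
  set q := e.toMonoidHom.comp (QuotientGroup.mk' R) with hq
  have hqR : ∀ x, q x = 1 ↔ x ∈ R := fun x => by
    rw [hq, MonoidHom.comp_apply, MulEquiv.coe_toMonoidHom, e.map_eq_one_iff,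
      QuotientGroup.mk'_apply, QuotientGroup.eq_one_iff]
  have hinv : ∀ t : X, t * t = 1 → t ∉ R → ∀ x : X, x * t * x⁻¹ * t⁻¹ ∈ R := by
    intro t ht2 htR x
    rw [← hqR, map_mul, map_mul, map_mul, map_inv, map_inv,
      ← sl23_involution_central (q t) (by rw [← map_mul, ht2, map_one]) (mt (hqR t).1 htR) (q x)]
    group
  have ht0 : ∀ t : X, t * t = 1 → t ≠ 1 → t ∉ R := fun t h1 h2 h3 =>
    h2 (by have := hRexp t h3; rwa [pow_succ, pow_two, h1, one_mul] at this)
  -- C = Z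
  have hCR : C ≤ R := by
    by_cases h2 : 2 ∣ Nat.card C
    · exfalso
      obtain ⟨⟨t, htC⟩, ht⟩ := exists_prime_orderOf_dvd_card' 2 h2
      rw [Subgroup.orderOf_mk] at ht
      have ht2 : t * t = 1 := by rw [← pow_two, ← ht, pow_orderOf_eq_one]
      have htne : t ≠ 1 := fun h => by rw [h, orderOf_one] at ht; omega
      have hcen : ∀ x : X, x * t * x⁻¹ = t := by
        intro x
        set z := x * t * x⁻¹ * t⁻¹ with hz
        have hzR : z ∈ R := hinv t ht2 (ht0 t ht2 htne) x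
        have hzC : z ∈ C := mul_mem (hCn.conj_mem t htC x) (inv_mem htC)
        have hzt : z * t = t * z := (Subgroup.mem_centralizer_iff.1 htC z hzR)
        have h1 : (z * t) * (z * t) = 1 := by
          rw [hz, inv_mul_cancel_right]
          calc x * t * x⁻¹ * (x * t * x⁻¹) = x * (t * t) * x⁻¹ := by group
            _ = 1 := by rw [ht2, mul_one, mul_inv_cancel]
        have h2' : z * z = 1 := by
          calc z * z = z * (t * t) * z := by rw [ht2, mul_one]
            _ = (z * t) * (t * z) := by group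
            _ = 1 := by rw [← hzt, h1]
        have h3 : z = 1 := by
          have := hRexp z hzR
          rwa [pow_succ, pow_two, h2', one_mul] at this
        rw [← mul_inv_eq_one]; exact h3
      have hN : (Subgroup.zpowers t).Normal := ⟨fun y hy g => by
        obtain ⟨k, rfl⟩ := hy
        rw [← conj_zpow, hcen]
        exact ⟨k, rfl⟩⟩
      have := le_pCore' (p := 2) hN (IsPGroup.of_card (n := 1)
        (by rw [Nat.card_zpowers, ht, pow_one]))
      rw [hO2, le_bot_iff, Subgroup.zpowers_eq_bot] at this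
      exact htne this
    · refine hle3 C hCn ?_
      have h1 : Nat.card C ∣ 8 * 3 ^ 4 := by
        have := C.card_subgroup_dvd_card
        rwa [hcardX] at this
      have h2' : (Nat.card C).Coprime 8 :=
        Nat.Coprime.pow_right 3 (((Fact.out : Nat.Prime 2).coprime_iff_not_dvd.2 h2).symm)
      obtain ⟨k, -, hk⟩ := (Nat.dvd_prime_pow (Fact.out : Nat.Prime 3)).1
        (h2'.dvd_of_dvd_mul_left h1)
      exact IsPGroup.of_card hk
  have hCZ : C = Z := (inf_eq_right.2 hCR).symm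
  -- elements acting trivially modulo Z lie in R
  have hK : ∀ s : X, (∀ r ∈ R, s * r * s⁻¹ * r⁻¹ ∈ Z) → (∀ z ∈ Z, s * z * s⁻¹ = z) →
      ∀ r ∈ R, s ^ 3 * r * (s ^ 3)⁻¹ = r := by
    intro s hs hsz r hr
    set z := s * r * s⁻¹ * r⁻¹ with hz
    have hzZ := hs r hr
    have e1 : s * r * s⁻¹ = z * r := by rw [hz, inv_mul_cancel_right]
    have e2 : ∀ n : ℕ, s ^ n * r * (s ^ n)⁻¹ = z ^ n * r := by
      intro n
      induction n with
      | zero => simp
      | succ n ih =>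
        calc s ^ (n + 1) * r * (s ^ (n + 1))⁻¹ = s * (s ^ n * r * (s ^ n)⁻¹) * s⁻¹ := by
              rw [pow_succ']; group
          _ = s * z ^ n * s⁻¹ * (s * r * s⁻¹) := by rw [ih, conj_mul]
          _ = z ^ (n + 1) * r := by
              rw [hsz (z ^ n) (pow_mem hzZ n), e1, ← mul_assoc, pow_succ]
    rw [e2, hRexp z (Subgroup.mem_inf.1 hzZ).1, one_mul]
  -- the involution
  obtain ⟨t, ht⟩ := exists_prime_orderOf_dvd_card' (G := X) 2 (by rw [hcardX]; norm_num)
  have ht2 : t * t = 1 := by rw [← pow_two, ← ht, pow_orderOf_eq_one]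
  have htne : t ≠ 1 := fun h => by rw [h, orderOf_one] at ht; omega
  have htR : t ∉ R := ht0 t ht2 htne
  have hti : t⁻¹ = t := inv_eq_of_mul_eq_one_right ht2
  have htt : ∀ x : X, t * (t * x * t⁻¹) * t⁻¹ = x := fun x => by
    rw [hti]; rw [show t * (t * x * t) * t = (t * t) * x * (t * t) by group, ht2, one_mul, mul_one]
  -- R/Z is abelian of exponent 3
  haveI := hZn
  set π := QuotientGroup.mk' Z with hπ
  have hπ1 : ∀ x, π x = 1 ↔ x ∈ Z := fun x => QuotientGroup.eq_one_iff x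
  have hπc : ∀ a ∈ R, ∀ b ∈ R, π a * π b = π b * π a := by
    intro a ha b hb
    have := (hπ1 _).2 (hcommZ a ha b hb)
    rw [map_mul, map_mul, map_mul, map_inv, map_inv, mul_inv_eq_one, mul_inv_eq_iff_eq_mul] at this
    exact this
  have hπeq : ∀ a b : X, a * b⁻¹ ∈ Z ↔ π a = π b := fun a b => by
    rw [← hπ1, map_mul, map_inv, mul_inv_eq_one]
  let W : Subgroup X :=
    { carrier := {r | r ∈ R ∧ π (t * r * t⁻¹) = π r}
      one_mem' := ⟨one_mem _, by simp⟩
      mul_mem' := fun {a b} ha hb => ⟨mul_mem ha.1 hb.1, by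
        rw [show t * (a * b) * t⁻¹ = (t * a * t⁻¹) * (t * b * t⁻¹) by group, map_mul, map_mul π a b,
          ha.2, hb.2]⟩
      inv_mem' := fun {a} ha => ⟨inv_mem ha.1, by
        rw [show t * a⁻¹ * t⁻¹ = (t * a * t⁻¹)⁻¹ by group, map_inv, map_inv, ha.2]⟩ }
  let V : Subgroup X :=
    { carrier := {r | r ∈ R ∧ π (t * r * t⁻¹) = (π r)⁻¹}
      one_mem' := ⟨one_mem _, by simp⟩
      mul_mem' := fun {a b} ha hb => ⟨mul_mem ha.1 hb.1, by
        rw [show t * (a * b) * t⁻¹ = (t * a * t⁻¹) * (t * b * t⁻¹) by group, map_mul, ha.2, hb.2,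
          map_mul, ← mul_inv_rev, hπc b hb.1 a ha.1]⟩
      inv_mem' := fun {a} ha => ⟨inv_mem ha.1, by
        rw [show t * a⁻¹ * t⁻¹ = (t * a * t⁻¹)⁻¹ by group, map_inv, map_inv, ha.2]⟩ }
  have hZR : ∀ z ∈ Z, z ∈ R := fun z hz => (Subgroup.mem_inf.1 hz).1
  have hZW : Z ≤ W := fun z hz =>
    ⟨hZR z hz, by rw [(hπ1 z).2 hz, (hπ1 _).2 (hZn.conj_mem z hz t)]⟩
  have hZV : Z ≤ V := fun z hz =>
    ⟨hZR z hz, by rw [(hπ1 z).2 hz, (hπ1 _).2 (hZn.conj_mem z hz t), inv_one]⟩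
  have hconj : ∀ x : X, ∀ r ∈ R, π (t * (x * r * x⁻¹) * t⁻¹) = π (x * (t * r * t⁻¹) * x⁻¹) := by
    intro x r hr
    set r0 := x⁻¹ * t * x⁻¹⁻¹ * t⁻¹ with hr0d
    have hr0 : r0 ∈ R := hinv t ht2 htR x⁻¹
    have e1 : t * (x * r * x⁻¹) * t⁻¹ = x * (r0 * (t * r * t⁻¹) * r0⁻¹) * x⁻¹ := by
      rw [hr0d]; group
    rw [e1]
    simp only [map_mul, map_inv]
    have h3 := hπc r0 hr0 (t * r * t⁻¹) (hRn.conj_mem r hr t)
    simp only [map_mul, map_inv] at h3
    rw [h3, mul_inv_cancel_right]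
  have hWn : ∀ x : X, ∀ r ∈ W, x * r * x⁻¹ ∈ W := fun x r hr => ⟨hRn.conj_mem r hr.1 x, by
    rw [hconj x r hr.1]; simp only [map_mul, map_inv]
    rw [← map_inv π t, ← map_mul, ← map_mul, hr.2]⟩
  have hVn : ∀ x : X, ∀ r ∈ V, x * r * x⁻¹ ∈ V := fun x r hr => ⟨hRn.conj_mem r hr.1 x, by
    rw [hconj x r hr.1, map_mul, map_mul, hr.2]
    simp only [map_mul, map_inv, mul_inv_rev, inv_inv, mul_assoc]⟩
  have hWV : ∀ r ∈ W, r ∈ V → r ∈ Z := by
    intro r h1 h2
    have e1 : π r = (π r)⁻¹ := h1.2.symm.trans h2.2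
    have e2 : π r * π r = 1 := by nth_rewrite 2 [e1]; exact mul_inv_cancel _
    have e3 : π r ^ 3 = 1 := by rw [← map_pow, hRexp r h1.1, map_one]
    rw [← hπ1]
    rwa [pow_succ, pow_two, e2, one_mul] at e3
  have hsplit : ∀ r ∈ R, r * (t * r * t⁻¹) ∈ W ∧ r * (t * r * t⁻¹)⁻¹ ∈ V := by
    intro r hr
    have hr' : t * r * t⁻¹ ∈ R := hRn.conj_mem r hr t
    refine ⟨⟨mul_mem hr hr', ?_⟩, ⟨mul_mem hr (inv_mem hr'), ?_⟩⟩
    · rw [show t * (r * (t * r * t⁻¹)) * t⁻¹ = (t * r * t⁻¹) * (t * (t * r * t⁻¹) * t⁻¹) by group,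
        htt r, map_mul π (t * r * t⁻¹) r, map_mul π r, hπc _ hr' _ hr]
    · rw [show t * (r * (t * r * t⁻¹)⁻¹) * t⁻¹ = (t * r * t⁻¹) * (t * (t * r * t⁻¹) * t⁻¹)⁻¹ by group,
        htt r, map_mul π (t * r * t⁻¹) r⁻¹, map_mul π r, map_inv, map_inv, mul_inv_rev, inv_inv]
  -- W = Z
  have hWZ : W = Z := by
    by_contra hne
    have hWR : W ≤ R := fun r hr => hr.1
    have hVR : V ≤ R := fun r hr => hr.1
    -- t acts nontrivially on R/Z
    have hWne : W ≠ R := by
      intro hW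
      apply htR
      have h1 : ∀ r ∈ R, t * r * t⁻¹ * r⁻¹ ∈ Z := fun r hr => (hπeq _ _).2 ((hW.symm ▸ hr : r ∈ W)).2
      obtain ⟨a, ha, b, hb, hab⟩ := hnc
      have htZ : ∀ z ∈ Z, t * z * t⁻¹ = z := by
        have hu : a * b * a⁻¹ * b⁻¹ ∈ Z := hcommZ a ha b hb
        have hune : a * b * a⁻¹ * b⁻¹ ≠ 1 := by
          rw [Ne, mul_inv_eq_one, mul_inv_eq_iff_eq_mul]; exact hab
        have hgen : Subgroup.zpowers (a * b * a⁻¹ * b⁻¹) = Z := by
          refine Subgroup.eq_of_le_of_card_ge (Subgroup.zpowers_le.2 hu) ?_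
          rw [hZcard, Nat.card_zpowers, orderOf_eq_prime (hRexp _ (hZR _ hu)) hune]
        have hfix : t * (a * b * a⁻¹ * b⁻¹) * t⁻¹ = a * b * a⁻¹ * b⁻¹ := by
          have hza := h1 a ha
          have hzb := h1 b hb
          set za := t * a * t⁻¹ * a⁻¹ with hzad
          set zb := t * b * t⁻¹ * b⁻¹ with hzbd
          have ea : t * a * t⁻¹ = za * a := by rw [hzad, inv_mul_cancel_right]
          have eb : t * b * t⁻¹ = zb * b := by rw [hzbd, inv_mul_cancel_right]
          have ca : ∀ r ∈ R, za * r = r * za := fun r hr =>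
            (Subgroup.mem_centralizer_iff.1 (Subgroup.mem_inf.1 hza).2 r hr).symm
          have cb : ∀ r ∈ R, zb * r = r * zb := fun r hr =>
            (Subgroup.mem_centralizer_iff.1 (Subgroup.mem_inf.1 hzb).2 r hr).symm
          calc t * (a * b * a⁻¹ * b⁻¹) * t⁻¹ =
              (t * a * t⁻¹) * (t * b * t⁻¹) * (t * a * t⁻¹)⁻¹ * (t * b * t⁻¹)⁻¹ := by group
            _ = za * (a * zb) * b * a⁻¹ * za⁻¹ * b⁻¹ * zb⁻¹ := by rw [ea, eb]; group
            _ = (za * zb) * (a * b * a⁻¹) * za⁻¹ * b⁻¹ * zb⁻¹ := by rw [← cb a ha]; group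
            _ = (za * zb) * za⁻¹ * (a * b * a⁻¹) * b⁻¹ * zb⁻¹ := by
              have : Commute za (a * b * a⁻¹) := ca _ (mul_mem (mul_mem ha hb) (inv_mem ha))
              rw [mul_assoc (za * zb), ← this.inv_left.eq, ← mul_assoc]
            _ = zb * (a * b * a⁻¹ * b⁻¹) * zb⁻¹ := by
              rw [ca zb (hZR _ hzb), mul_inv_cancel_right]; group
            _ = a * b * a⁻¹ * b⁻¹ := by
              rw [cb _ (hZR _ hu), mul_inv_cancel_right]
        intro z hz
        rw [← hgen] at hz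
        obtain ⟨k, rfl⟩ := hz
        rw [← conj_zpow, hfix]
      have h2 : t ^ 3 ∈ C := Subgroup.mem_centralizer_iff.2 fun r hr => by
        have := hK t h1 htZ r hr
        exact (mul_inv_eq_iff_eq_mul.1 this).symm
      rw [pow_succ, pow_two, ht2, one_mul] at h2
      exact hCR h2
    -- cardinals
    have hdiv : ∀ T : Subgroup X, Z < T → T < R → Nat.card T = 9 := by
      intro T h1 h2
      have a1 := Subgroup.card_dvd_of_le h2.le
      rw [hRcard, show (27 : ℕ) = 3 ^ 3 by norm_num] at a1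
      obtain ⟨k, hk, hk'⟩ := (Nat.dvd_prime_pow (Fact.out : Nat.Prime 3)).1 a1
      have a2 : 3 < Nat.card T := hZcard ▸ Set.Finite.card_lt_card (Set.toFinite _) h1
      have a3 : Nat.card T < 27 := hRcard ▸ Set.Finite.card_lt_card (Set.toFinite _) h2
      rw [hk'] at a2 a3 ⊢
      interval_cases k <;> omega
    have hW9 : Nat.card W = 9 :=
      hdiv W (lt_of_le_of_ne hZW (Ne.symm hne)) (lt_of_le_of_ne hWR hWne)
    have hVne : V ≠ Z := by
      intro hV
      apply hWne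
      refine le_antisymm hWR fun r hr => ⟨hr, ?_⟩
      have := (hsplit r hr).2
      rw [hV, hπeq] at this
      exact this.symm
    have hVne' : V ≠ R := fun hV => hne (le_antisymm (fun r hr => hWV r hr (hV.symm ▸ hWR hr)) hZW)
    have hV9 : Nat.card V = 9 :=
      hdiv V (lt_of_le_of_ne hZV (Ne.symm hVne)) (lt_of_le_of_ne hVR hVne')
    have habel : ∀ T : Subgroup X, Z ≤ T → T ≤ R → Nat.card T = 9 →
        ∀ v ∈ T, ∀ w ∈ T, v * w = w * v := by
      intro T _ _ hT v hv w hw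
      have := IsPGroup.commutative_of_card_eq_prime_sq (p := 3) (G := T) (by rw [hT]; norm_num) ⟨v, hv⟩ ⟨w, hw⟩
      exact congrArg Subtype.val this
    obtain ⟨s0, hs0⟩ : ∃ g : SL23, g ^ 3 = 1 ∧ g ≠ 1 := by decide +kernel
    obtain ⟨sq, hsq⟩ := QuotientGroup.mk'_surjective R (e.symm s0)
    have hqs : q sq = s0 := by
      rw [hq, MonoidHom.comp_apply, hsq, MulEquiv.coe_toMonoidHom, e.apply_symm_apply]
    have hs3R : sq ^ 3 ∈ R := by rw [← hqR, map_pow, hqs, hs0.1]
    have hcube : ∀ r ∈ R, sq ^ 3 * r * (sq ^ 3)⁻¹ * r⁻¹ ∈ Z := fun r hr => hcommZ _ hs3R r hr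
    have hsW : ∀ w ∈ W, sq * w * sq⁻¹ * w⁻¹ ∈ Z := fun w hw =>
      comm_mem_of_index_three hZW hZcard hW9 (fun z hz => hZn.conj_mem z hz sq)
        (hWn sq) (habel W hZW hWR hW9) (fun v hv => hcube v (hWR hv)) hw
    have hsV : ∀ v ∈ V, sq * v * sq⁻¹ * v⁻¹ ∈ Z := fun v hv =>
      comm_mem_of_index_three hZV hZcard hV9 (fun z hz => hZn.conj_mem z hz sq)
        (hVn sq) (habel V hZV hVR hV9) (fun w hw => hcube w (hVR hw)) hv
    let T : Subgroup X :=
      { carrier := {r | π (sq * r * sq⁻¹) = π r}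
        one_mem' := by simp
        mul_mem' := fun {a b} (ha : π (sq * a * sq⁻¹) = π a) (hb : π (sq * b * sq⁻¹) = π b) => by
          show π (sq * (a * b) * sq⁻¹) = π (a * b)
          rw [show sq * (a * b) * sq⁻¹ = (sq * a * sq⁻¹) * (sq * b * sq⁻¹) by group, map_mul, ha,
            hb, map_mul]
        inv_mem' := fun {a} (ha : π (sq * a * sq⁻¹) = π a) => by
          show π (sq * a⁻¹ * sq⁻¹) = π a⁻¹
          rw [show sq * a⁻¹ * sq⁻¹ = (sq * a * sq⁻¹)⁻¹ by group, map_inv, ha, map_inv] }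
    have hTR : ∀ r ∈ R, sq * r * sq⁻¹ * r⁻¹ ∈ Z := by
      intro r hr
      have hr' : t * r * t⁻¹ ∈ R := hRn.conj_mem r hr t
      obtain ⟨h1, h2⟩ := hsplit r hr
      have hW' : r * (t * r * t⁻¹) ∈ T := (hπeq _ _).1 (hsW _ h1)
      have hV' : r * (t * r * t⁻¹)⁻¹ ∈ T := (hπeq _ _).1 (hsV _ h2)
      have hZT : Z ≤ T := fun z hz => by
        show π (sq * z * sq⁻¹) = π z
        rw [(hπ1 z).2 hz, (hπ1 _).2 (hZn.conj_mem z hz sq)]
      have h3 : r * r ∈ T := by
        have h4 := mul_mem hV' hW'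
        have hz := hcommZ (t * r * t⁻¹)⁻¹ (inv_mem hr') r hr
        set r' := t * r * t⁻¹
        have e5 : r * r = (r * (r'⁻¹ * r * r' * r⁻¹) * r⁻¹)⁻¹ * (r * r'⁻¹ * (r * r')) := by
          simp only [mul_inv_rev, inv_inv, mul_assoc, inv_mul_cancel_left, mul_inv_cancel_left, inv_mul_cancel, mul_one]
        rw [e5]
        refine mul_mem (inv_mem (hZT (hZn.conj_mem _ ?_ r))) h4
        rwa [inv_inv] at hz
      have h5 : (r * r) * (r * r) = r := by
        calc (r * r) * (r * r) = r ^ 3 * r := by rw [pow_succ, pow_two]; group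
          _ = r := by rw [hRexp r hr, one_mul]
      have h6 := mul_mem h3 h3
      rw [h5] at h6
      exact (hπeq _ _).2 h6
    have hsZ' : ∀ z ∈ Z, sq * z * sq⁻¹ = z := by
      -- an automorphism of a group of order three of order dividing three is trivial
      intro z hz
      have h1 : ∀ n : ℕ, sq ^ (3 * n) * z * (sq ^ (3 * n))⁻¹ = z := by
        intro n
        have hz3 := Subgroup.mem_centralizer_iff.1 (Subgroup.mem_inf.1 hz).2
          ((sq ^ 3) ^ n) (pow_mem hs3R n)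
        rw [← pow_mul] at hz3
        rw [hz3, mul_inv_cancel_right]
      by_contra hcon
      have hzne : z ≠ 1 := fun h => hcon (by rw [h]; simp)
      have hord : orderOf z = 3 := orderOf_eq_prime (hRexp z (hZR z hz)) hzne
      have hgen : Subgroup.zpowers z = Z := Subgroup.eq_of_le_of_card_ge (Subgroup.zpowers_le.2 hz)
        (by rw [hZcard, Nat.card_zpowers, hord])
      have hmem : sq * z * sq⁻¹ ∈ Subgroup.zpowers z := hgen.symm ▸ hZn.conj_mem z hz sq
      rcases mem_zpowers_three hord hmem with hk | hk | hk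
      · exact hzne (conj_eq_one_iff.1 hk)
      · exact hcon hk
      · have h2 : sq ^ 3 * z * (sq ^ 3)⁻¹ = z ^ 8 := by
          calc sq ^ 3 * z * (sq ^ 3)⁻¹ = sq * (sq * (sq * z * sq⁻¹) * sq⁻¹) * sq⁻¹ := by
                rw [pow_succ, pow_two]; group
            _ = ((z ^ 2) ^ 2) ^ 2 := by rw [hk, ← conj_pow, hk, ← conj_pow, ← conj_pow, hk]
            _ = z ^ 8 := by rw [← pow_mul, ← pow_mul]
        have h3 := h1 1
        rw [mul_one, h2, show z ^ 8 = (z ^ 3) ^ 2 * z ^ 2 by group, hRexp z (hZR z hz), one_pow,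
          one_mul, pow_two] at h3
        exact hzne (mul_left_cancel (h3.trans (mul_one z).symm))
    have hsC : sq ^ 3 ∈ C := Subgroup.mem_centralizer_iff.2 fun r hr =>
      (mul_inv_eq_iff_eq_mul.1 (hK sq hTR hsZ' r hr)).symm
    -- the elements acting trivially form a normal 3-subgroup
    let K : Subgroup X :=
      { carrier := {x | (∀ r ∈ R, π (x * r * x⁻¹) = π r) ∧ ∀ z ∈ Z, x * z * x⁻¹ = z}
        one_mem' := ⟨fun r _ => by simp, fun z _ => by simp⟩
        mul_mem' := fun {x y} hx hy => ⟨fun r hr => by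
            rw [show x * y * r * (x * y)⁻¹ = x * (y * r * y⁻¹) * x⁻¹ by group,
              hx.1 _ (hRn.conj_mem r hr y), hy.1 r hr],
          fun z hz => by
            rw [show x * y * z * (x * y)⁻¹ = x * (y * z * y⁻¹) * x⁻¹ by group, hy.2 z hz, hx.2 z hz]⟩
        inv_mem' := fun {x} hx => ⟨fun r hr => by
            have := hx.1 (x⁻¹ * r * x⁻¹⁻¹) (hRn.conj_mem r hr x⁻¹)
            rw [show x * (x⁻¹ * r * x⁻¹⁻¹) * x⁻¹ = r by group] at this
            exact this.symm,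
          fun z hz => by
            have := hx.2 (x⁻¹ * z * x⁻¹⁻¹) (hZn.conj_mem z hz x⁻¹)
            rw [show x * (x⁻¹ * z * x⁻¹⁻¹) * x⁻¹ = z by group] at this
            exact this.symm⟩ }
    have hKn : K.Normal := ⟨fun x hx g => ⟨fun r hr => by
        have h1 := hx.1 (g⁻¹ * r * g⁻¹⁻¹) (hRn.conj_mem r hr g⁻¹)
        rw [show g * x * g⁻¹ * r * (g * x * g⁻¹)⁻¹ = g * (x * (g⁻¹ * r * g⁻¹⁻¹) * x⁻¹) * g⁻¹ by group,
          map_mul, map_mul, h1, ← map_mul, ← map_mul]
        congr 1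
        group,
      fun z hz => by
        have h1 := hx.2 (g⁻¹ * z * g⁻¹⁻¹) (hZn.conj_mem z hz g⁻¹)
        rw [show g * x * g⁻¹ * z * (g * x * g⁻¹)⁻¹ = g * (x * (g⁻¹ * z * g⁻¹⁻¹) * x⁻¹) * g⁻¹ by group,
          h1]
        group⟩⟩
    have hKp : IsPGroup 3 K := fun ⟨x, hx⟩ => by
      refine ⟨2, Subtype.ext ?_⟩
      have h1 : x ^ 3 ∈ C := Subgroup.mem_centralizer_iff.2 fun r hr =>
        (mul_inv_eq_iff_eq_mul.1
          (hK x (fun r hr => (hπeq _ _).2 (hx.1 r hr)) hx.2 r hr)).symm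
      show x ^ 3 ^ 2 = 1
      rw [show 3 ^ 2 = 3 * 3 by norm_num, pow_mul]
      exact hRexp _ (hCR h1)
    have hsR : sq ∈ R := hle3 K hKn hKp ⟨fun r hr => (hπeq _ _).1 (hTR r hr), hsZ'⟩
    exact hs0.2 (by rw [← hqs, hqR]; exact hsR)
  -- so t inverts R modulo Z
  have hinvert : ∀ r ∈ R, ∃ r' ∈ R, r' * r⁻¹ ∈ Z ∧ t * r' * t⁻¹ = r'⁻¹ := by
    intro r hr
    set z := r * (t * r * t⁻¹) with hz
    have hzZ : z ∈ Z := by rw [← hWZ]; exact (hsplit r hr).1
    have hc : Commute z r :=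
      (Subgroup.mem_centralizer_iff.1 (Subgroup.mem_inf.1 hzZ).2 r hr).symm
    have htz : t * z * t⁻¹ = z := by
      rw [hz, show t * (r * (t * r * t⁻¹)) * t⁻¹ = (t * r * t⁻¹) * (t * (t * r * t⁻¹) * t⁻¹) by group,
        htt r]
      have h2 : r * (t * r * t⁻¹) = z := rfl
      calc t * r * t⁻¹ * r = r⁻¹ * (r * (t * r * t⁻¹)) * r := by group
        _ = r * (t * r * t⁻¹) := by rw [h2, mul_assoc, hc.eq, inv_mul_cancel_left]
    refine ⟨z * r, mul_mem (hZR z hzZ) hr, by rw [mul_inv_cancel_right]; exact hzZ, ?_⟩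
    rw [show t * (z * r) * t⁻¹ = (t * z * t⁻¹) * (r⁻¹ * (r * (t * r * t⁻¹))) by group, htz, ← hz,
      mul_inv_rev]
    have e1 : r⁻¹ * z = z * r⁻¹ := hc.inv_right.eq.symm
    rw [e1, ← mul_assoc]
    have e2 : z * z = z⁻¹ := by
      have := hRexp z (hZR z hzZ)
      rw [pow_succ, pow_two] at this
      exact eq_inv_of_mul_eq_one_left this
    rw [e2, ← hc.inv_left.inv_right.eq]
  obtain ⟨a0, ha0, b0, hb0, hab0⟩ := hnc
  obtain ⟨a, ha, haz, hai⟩ := hinvert a0 ha0
  obtain ⟨b, hb, hbz, hbi⟩ := hinvert b0 hb0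
  have hab : a * b ≠ b * a := by
    intro h
    apply hab0
    set za := a * a0⁻¹ with hza
    set zb := b * b0⁻¹ with hzb
    have ea : a0 = za⁻¹ * a := by rw [hza]; group
    have eb : b0 = zb⁻¹ * b := by rw [hzb]; group
    have ca : ∀ r ∈ R, Commute za r := fun r hr =>
      (Subgroup.mem_centralizer_iff.1 (Subgroup.mem_inf.1 haz).2 r hr).symm
    have cb : ∀ r ∈ R, Commute zb r := fun r hr =>
      (Subgroup.mem_centralizer_iff.1 (Subgroup.mem_inf.1 hbz).2 r hr).symm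
    rw [ea, eb]
    exact (((ca zb (hZR _ hbz)).inv_left.inv_right.mul_right (ca b hb).inv_left).mul_left
      (((cb a ha).inv_left.symm).mul_right (show Commute a b from h))).eq
  set u := a * b * a⁻¹ * b⁻¹ with hu
  have huZ : u ∈ Z := hcommZ a ha b hb
  have hune : u ≠ 1 := by rw [hu, Ne, mul_inv_eq_one, mul_inv_eq_iff_eq_mul]; exact hab
  have huo : orderOf u = 3 := orderOf_eq_prime (hRexp u (hZR u huZ)) hune
  have hgen : Subgroup.zpowers u = Z := Subgroup.eq_of_le_of_card_ge (Subgroup.zpowers_le.2 huZ)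
    (by rw [hZcard, Nat.card_zpowers, huo])
  have hu2 : ∀ x : X, x ^ 2 * u * (x ^ 2)⁻¹ = u := by
    intro x
    have hmem : x * u * x⁻¹ ∈ Subgroup.zpowers u := hgen.symm ▸ hZn.conj_mem u huZ x
    have e1 : x ^ 2 * u * (x ^ 2)⁻¹ = x * (x * u * x⁻¹) * x⁻¹ := by
      rw [pow_two]; group
    rw [e1]
    rcases mem_zpowers_three huo hmem with hk | hk | hk
    · exact absurd (conj_eq_one_iff.1 hk) hune
    · rw [hk, hk]
    · rw [hk, ← conj_pow, hk, ← pow_mul, show 2 * 2 = 3 + 1 by norm_num, pow_succ,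
        hRexp u (hZR u huZ), one_mul]
  have hucen : ∀ x : X, x * u * x⁻¹ = u := by
    intro x
    obtain ⟨h, k, hhk⟩ := exists_two_squares (q x)
    obtain ⟨h', hh'⟩ := QuotientGroup.mk'_surjective R (e.symm h)
    obtain ⟨k', hk'⟩ := QuotientGroup.mk'_surjective R (e.symm k)
    have hr : (h' ^ 2 * k' ^ 2)⁻¹ * x ∈ R := by
      rw [← hqR, map_mul, map_inv, map_mul, map_pow, map_pow,
        show q h' = h by rw [hq, MonoidHom.comp_apply, hh', MulEquiv.coe_toMonoidHom, e.apply_symm_apply],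
        show q k' = k by rw [hq, MonoidHom.comp_apply, hk', MulEquiv.coe_toMonoidHom, e.apply_symm_apply],
        pow_two, pow_two, ← hhk, inv_mul_cancel]
    set r := (h' ^ 2 * k' ^ 2)⁻¹ * x with hrd
    have hru : r * u * r⁻¹ = u := by
      rw [Subgroup.mem_centralizer_iff.1 (Subgroup.mem_inf.1 huZ).2 r hr, mul_inv_cancel_right]
    calc x * u * x⁻¹ = h' ^ 2 * (k' ^ 2 * (r * u * r⁻¹) * (k' ^ 2)⁻¹) * (h' ^ 2)⁻¹ := by
          rw [hrd]; group
      _ = u := by rw [hru, hu2, hu2]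
  exact ⟨t, a, b, u, ht2, htR, hinv t ht2 htR, ha, hb, hab, rfl, hai, hbi, hucen, hCZ.trans hgen.symm⟩

/-- Identification with the model. -/
theorem nonempty_mdl_equiv
    (hR : Cfsg.IsExtraspecial 3 (Cfsg.pCore 3 X)) (hRcard : Nat.card (Cfsg.pCore 3 X) = 27)
    (hRexp : ∀ r ∈ Cfsg.pCore 3 X, r ^ 3 = 1) (hRn : (Cfsg.pCore 3 X).Normal)
    (e : X ⧸ Cfsg.pCore 3 X ≃* SL23) (hO2 : Cfsg.pCore 2 X = ⊥)
    (hE : ∃ E : Subgroup X, IsMulCommutative E ∧ (∀ a ∈ E, a ^ 3 = 1) ∧ Nat.card E = 27) :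
    Nonempty (X ≃* Mdl) := by
  have : Fact (Nat.Prime 3) := ⟨by norm_num⟩
  obtain ⟨t, a, b, u, ht2, htR, htc, ha, hb, hab, hu, hta, htb, hucen, hCu⟩ :=
    exists_frame hR hRcard hRexp hRn e hO2
  set R := Cfsg.pCore 3 X with hRdef
  have hcardX : Nat.card X = 648 := by
    rw [Subgroup.card_eq_card_quotient_mul_card_subgroup R, Nat.card_congr e.toEquiv, card_sl23,
      hRcard]
  have huR : u ∈ R := hu ▸ mul_mem (mul_mem (mul_mem ha hb) (inv_mem ha)) (inv_mem hb)
  have ha3 := hRexp a ha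
  have hb3 := hRexp b hb
  have hu3 := hRexp u huR
  have huc : ∀ x : X, Commute u x := fun x => by
    have := hucen x
    rw [mul_inv_eq_iff_eq_mul] at this
    exact this.symm
  have huzc : ∀ (i : K3) (x : X), Commute (zp u i) x := fun i x => (huc x).pow_left _
  have hswap : ∀ i j : K3, zp b j * zp a i = zp a i * zp b j * zp u (-(i * j)) := by
    intro i j
    have hij : (((i.val * j.val : ℕ)) : K3) = i * j := by
      rw [Nat.cast_mul, ZMod.natCast_val, ZMod.natCast_val, ZMod.cast_id, ZMod.cast_id]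
    rw [zp_neg hu3, ← hij, zp_natCast hu3]
    unfold zp
    rw [swap_pow hu (huc a) (huc b), inv_pow]
  -- the normal subgroup
  let fN : Hz →* X := MonoidHom.mk' (fun h => zp a h.a * zp b h.b * zp u (h.a * h.b - h.c))
    fun g h => by
      simp only [mul_def']
      rw [zp_add ha3, zp_add hb3]
      have e1 : zp a g.a * zp b g.b * zp u (g.a * g.b - g.c) * (zp a h.a * zp b h.b * zp u (h.a * h.b - h.c)) =
          zp a g.a * (zp b g.b * zp a h.a) * zp b h.b *
            (zp u (g.a * g.b - g.c) * zp u (h.a * h.b - h.c)) := by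
        calc _ = zp a g.a * zp b g.b * (zp u (g.a * g.b - g.c) * (zp a h.a * zp b h.b)) *
              zp u (h.a * h.b - h.c) := by group
          _ = _ := by rw [(huzc _ _).eq]; group
      rw [e1, hswap]
      have e2 : zp a g.a * (zp a h.a * zp b g.b * zp u (-(h.a * g.b))) * zp b h.b *
          (zp u (g.a * g.b - g.c) * zp u (h.a * h.b - h.c)) =
          zp a g.a * zp a h.a * (zp b g.b * zp b h.b) *
            (zp u (-(h.a * g.b)) * (zp u (g.a * g.b - g.c) * zp u (h.a * h.b - h.c))) := by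
        calc _ = zp a g.a * zp a h.a * zp b g.b * (zp u (-(h.a * g.b)) * zp b h.b) *
              (zp u (g.a * g.b - g.c) * zp u (h.a * h.b - h.c)) := by group
          _ = _ := by rw [(huzc _ _).eq]; group
      rw [e2, ← zp_add hu3, ← zp_add hu3]
      congr 2
      linear_combination (g.b * h.a) * k3_three
  have hfN : ∀ h : Hz, fN h = zp a h.a * zp b h.b * zp u (h.a * h.b - h.c) := fun _ => rfl
  have hfa : fN ⟨1, 0, 0⟩ = a := by simp [hfN, zp_one, zp_zero]
  have hfb : fN ⟨0, 1, 0⟩ = b := by simp [hfN, zp_one, zp_zero]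
  have hune : u ≠ 1 := by rw [hu, Ne, mul_inv_eq_one, mul_inv_eq_iff_eq_mul]; exact hab
  have hfinj : Function.Injective fN := by
    refine (injective_iff_map_eq_one fN).2 fun h hh => ?_
    rw [hfN] at hh
    have hzpc : ∀ (x : X) (i : K3), x ^ 3 = 1 → i ≠ 0 → zp (zp x i) i = x := by
      intro x i hx hi
      have e1 : zp (zp x i) i = x ^ (i.val * i.val) := by rw [zp, zp, ← pow_mul]
      rw [e1, ← zp_natCast hx, Nat.cast_mul, ZMod.natCast_val, ZMod.cast_id, k3_sq i hi, zp_one]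
    have h_b : h.b = 0 ∨ h.b ≠ 0 := em _
    have hA : h.a = 0 := by
      by_contra hne
      apply hab
      have hc : Commute (zp a h.a) b := by
        have e1 : zp a h.a = (zp b h.b * zp u (h.a * h.b - h.c))⁻¹ := by
          rw [eq_inv_iff_mul_eq_one, ← mul_assoc]; exact hh
        rw [e1]
        exact (((Commute.refl b).pow_left _).mul_left (huzc _ b)).inv_left
      have := hc.pow_left h.a.val
      change Commute (zp (zp a h.a) h.a) b at this
      rw [hzpc a h.a ha3 hne] at this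
      exact this.eq
    rw [hA, zero_mul, zero_sub, zp_zero, one_mul] at hh
    have hB : h.b = 0 := by
      rcases h_b with h0 | hne
      · exact h0
      exfalso
      apply hab
      have hc : Commute (zp b h.b) a := by
        rw [eq_inv_of_mul_eq_one_left hh]
        exact (huzc _ a).inv_left
      have := hc.pow_left h.b.val
      change Commute (zp (zp b h.b) h.b) a at this
      rw [hzpc b h.b hb3 hne] at this
      exact this.eq.symm
    rw [hB, zp_zero, one_mul] at hh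
    have hC : h.c = 0 := by
      by_contra hne
      apply hune
      rw [← hzpc u (-h.c) hu3 (neg_ne_zero.2 hne), hh, zp, one_pow]
    rw [one_def']
    exact Hz.ext hA hB hC
  have hfR : ∀ r, r ∈ R ↔ r ∈ fN.range := by
    have hle : fN.range ≤ R := by
      rintro _ ⟨h, rfl⟩
      rw [hfN]
      exact mul_mem (mul_mem (pow_mem ha _) (pow_mem hb _)) (pow_mem huR _)
    have heq : fN.range = R := Subgroup.eq_of_le_of_card_ge hle
      (by rw [hRcard, ← card_hz, Nat.card_congr (MonoidHom.ofInjective hfinj).toEquiv])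
    intro r; rw [heq]
  have hfmem : ∀ h, fN h ∈ R := fun h => (hfR _).2 ⟨h, rfl⟩
  have hti : t⁻¹ = t := inv_eq_of_mul_eq_one_right ht2
  have htf : ∀ h : Hz, t * fN h * t⁻¹ = fN ⟨-h.a, -h.b, h.c⟩ := by
    intro h
    have e1 : ∀ (x : X) (i : K3), t * zp x i * t⁻¹ = zp (t * x * t⁻¹) i := fun x i => (conj_pow).symm
    rw [hfN, hfN, show t * (zp a h.a * zp b h.b * zp u (h.a * h.b - h.c)) * t⁻¹ =
      (t * zp a h.a * t⁻¹) * (t * zp b h.b * t⁻¹) * (t * zp u (h.a * h.b - h.c) * t⁻¹) by group,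
      e1, e1, e1, hta, htb, hucen, neg_mul_neg, zp_neg ha3, zp_neg hb3]
    simp only [zp, inv_pow]
  have hinv0 : ∀ h : Hz, t * fN h * t⁻¹ = (fN h)⁻¹ → h.c = 0 := by
    intro h hh
    rw [htf, ← map_inv] at hh
    have := congrArg Hz.c (hfinj hh)
    simp only [inv_def'] at this
    exact k3_eq_neg _ this
  have hfixed : ∀ h : Hz, t * fN h * t⁻¹ = fN h → h.a = 0 ∧ h.b = 0 := by
    intro h hh
    rw [htf] at hh
    have h2 := hfinj hh
    exact ⟨k3_neg_eq _ (congrArg Hz.a h2),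
      k3_neg_eq _ (congrArg Hz.b h2)⟩
  -- the centraliser of the involution
  set L := Subgroup.centralizer ({t} : Set X) with hL
  have hLt : ∀ x : X, x ∈ L → x * t * x⁻¹ = t := fun x hx => by
    rw [Subgroup.mem_centralizer_singleton_iff.1 hx, mul_inv_cancel_right]
  have hLr : ∀ x : X, ∃ r ∈ R, r * x ∈ L := by
    intro x
    set r := x * t * x⁻¹ * t⁻¹ with hr
    have hrR := htc x
    refine ⟨r, hrR, ?_⟩
    have e1 : x * t * x⁻¹ = r * t := by rw [hr, inv_mul_cancel_right]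
    have e2 : t * r = r⁻¹ * t := by
      have h1 : (r * t) * (r * t) = 1 := by
        rw [← e1, show x * t * x⁻¹ * (x * t * x⁻¹) = x * (t * t) * x⁻¹ by group, ht2, mul_one,
          mul_inv_cancel]
      rw [eq_inv_mul_iff_mul_eq, ← mul_assoc]
      calc r * t * r = (r * t) * (r * t) * t⁻¹ := by group
        _ = t := by rw [h1, one_mul, hti]
    rw [Subgroup.mem_centralizer_singleton_iff]
    calc r * x * t = r * (x * t * x⁻¹) * x := by group
      _ = (r * r) * (t * x) := by rw [e1]; group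
      _ = r⁻¹ * (t * x) := by
        have := hRexp r hrR
        rw [pow_succ, pow_two] at this
        rw [eq_inv_of_mul_eq_one_left this]
      _ = t * (r * x) := by rw [← mul_assoc, ← e2, mul_assoc]
  have hexg : ∀ x : X, x ∈ L → ∃ g : SL23, ∀ h, x * fN h * x⁻¹ = fN (hzAct g h) := by
    intro x hx
    have hcomm : ∀ y : X, t * (x * y * x⁻¹) * t⁻¹ = x * (t * y * t⁻¹) * x⁻¹ := by
      intro y
      have h1 := Subgroup.mem_centralizer_singleton_iff.1 hx
      calc t * (x * y * x⁻¹) * t⁻¹ = (t * x) * y * (t * x)⁻¹ := by group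
        _ = (x * t) * y * (x * t)⁻¹ := by rw [h1]
        _ = x * (t * y * t⁻¹) * x⁻¹ := by group
    obtain ⟨p, hp⟩ := (hfR _).1 (hRn.conj_mem a ha x)
    obtain ⟨q, hq⟩ := (hfR _).1 (hRn.conj_mem b hb x)
    have hpc : p.c = 0 := hinv0 p (by rw [hp, hcomm, hta]; group)
    have hqc : q.c = 0 := hinv0 q (by rw [hq, hcomm, htb]; group)
    have hfu : ∀ k : K3, fN ⟨0, 0, k⟩ = zp u (-k) := fun k => by simp [hfN, zp_zero]
    have hdet : p.a * q.b - q.a * p.b = 1 := by
      have h1 : fN (p * q * p⁻¹ * q⁻¹) = fN ⟨0, 0, 2⟩ := by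
        rw [map_mul, map_mul, map_mul, map_inv, map_inv, hp, hq, hfu]
        rw [show x * a * x⁻¹ * (x * b * x⁻¹) * (x * a * x⁻¹)⁻¹ * (x * b * x⁻¹)⁻¹ =
          x * (a * b * a⁻¹ * b⁻¹) * x⁻¹ by group, ← hu, hucen,
          k3_neg_two, zp_one]
      have h2 := congrArg Hz.c (hfinj h1)
      simp only [mul_def', inv_def', hpc, hqc] at h2
      have h3 : (3 : K3) = 0 := k3_three
      linear_combination (-1 : K3) * h2 + (p.a * q.b - q.a * p.b - 1) * h3
    let g : SL23 := ⟨!![p.a, q.a; p.b, q.b], by rw [Matrix.det_fin_two_of]; exact hdet⟩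
    refine ⟨g, fun h => ?_⟩
    have hext : ((MulAut.conj x).toMonoidHom.comp fN) = fN.comp (hzAutHom g).toMonoidHom := by
      refine MonoidHom.ext fun k => ?_
      have hk := hz_gen k
      rw [hk, map_mul, map_mul, map_mul, map_mul, map_pow, map_pow, map_pow, map_pow, map_pow,
        map_pow]
      have ea : ((MulAut.conj x).toMonoidHom.comp fN) ⟨1, 0, 0⟩ = fN.comp (hzAutHom g).toMonoidHom ⟨1, 0, 0⟩ := by
        show x * fN ⟨1, 0, 0⟩ * x⁻¹ = fN (hzAct g ⟨1, 0, 0⟩)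
        rw [hfa, ← hp]
        congr 1
        ext <;> simp [hzAct, g, hpc]
      have eb : ((MulAut.conj x).toMonoidHom.comp fN) ⟨0, 1, 0⟩ = fN.comp (hzAutHom g).toMonoidHom ⟨0, 1, 0⟩ := by
        show x * fN ⟨0, 1, 0⟩ * x⁻¹ = fN (hzAct g ⟨0, 1, 0⟩)
        rw [hfb, ← hq]
        congr 1
        ext <;> simp [hzAct, g, hqc]
      have ec : ((MulAut.conj x).toMonoidHom.comp fN) ⟨0, 0, 1⟩ = fN.comp (hzAutHom g).toMonoidHom ⟨0, 0, 1⟩ := by
        show x * fN ⟨0, 0, 1⟩ * x⁻¹ = fN (hzAct g ⟨0, 0, 1⟩)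
        rw [show hzAct g ⟨0, 0, 1⟩ = ⟨0, 0, 1⟩ by ext <;> simp [hzAct], hfu,
          ((huzc _ x).symm).eq, mul_inv_cancel_right]
      rw [ea, eb, ec]
    exact DFunLike.congr_fun hext h
  choose gam hgam using fun x : L => hexg x.1 x.2
  have huniq : ∀ g g' : SL23, (∀ h, fN (hzAct g h) = fN (hzAct g' h)) → g = g' := by
    intro g g' hh
    have : g'⁻¹ * g = 1 := hzAct_faithful fun h => by
      rw [hzAct_comp, hfinj (hh h), ← hzAct_comp, inv_mul_cancel, hzAct_one]
    exact (inv_mul_eq_one.1 this).symm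
  let ρ : L →* SL23 := MonoidHom.mk' gam fun x y => huniq _ _ fun h => by
    rw [← hgam, hzAct_comp, ← hgam, ← hgam]
    push_cast
    group
  have hρ : ∀ (x : L) h, (x : X) * fN h * (x : X)⁻¹ = fN (hzAct (ρ x) h) := fun x h => hgam x h
  -- R ∩ L
  have hRL : ∀ x : X, x ∈ R → x ∈ L → x ∈ Subgroup.zpowers u := by
    intro x hxR hxL
    obtain ⟨h, rfl⟩ := (hfR x).1 hxR
    have := Subgroup.mem_centralizer_singleton_iff.1 hxL
    obtain ⟨h1, h2⟩ := hfixed h (by rw [← this, mul_inv_cancel_right])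
    rw [hfN, h1, h2]
    simp only [zp_zero, one_mul]
    exact pow_mem (Subgroup.mem_zpowers u) _
  have hker : ∀ x : L, ρ x = 1 ↔ (x : X) ∈ Subgroup.zpowers u := by
    intro x
    constructor
    · intro hx
      rw [← hCu, Subgroup.mem_centralizer_iff]
      intro r hr
      obtain ⟨h, rfl⟩ := (hfR r).1 hr
      have := hρ x h
      rw [hx, hzAct_one, mul_inv_eq_iff_eq_mul] at this
      exact this.symm
    · intro hx
      obtain ⟨k, hk⟩ := hx
      refine huniq _ _ fun h => ?_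
      rw [← hρ, hzAct_one, ← hk, ((huc _).zpow_left k).eq, mul_inv_cancel_right]
  have huL : ∀ k : ℤ, u ^ k ∈ L := fun k =>
    Subgroup.mem_centralizer_singleton_iff.2 ((huc t).zpow_left k).eq
  have hρsurj : Function.Surjective ρ := by
    intro g
    -- count
    let π : L →* SL23 := (e.toMonoidHom.comp (QuotientGroup.mk' R)).comp L.subtype
    have hπsurj : Function.Surjective π := by
      intro g
      obtain ⟨x, hx⟩ := QuotientGroup.mk'_surjective R (e.symm g)
      obtain ⟨r, hr, hrx⟩ := hLr x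
      refine ⟨⟨r * x, hrx⟩, ?_⟩
      show e (QuotientGroup.mk' R (r * x)) = g
      rw [map_mul, show QuotientGroup.mk' R r = 1 from (QuotientGroup.eq_one_iff r).2 hr, one_mul,
        hx, e.apply_symm_apply]
    have hkereq : π.ker = ρ.ker := by
      ext x
      rw [MonoidHom.mem_ker, MonoidHom.mem_ker, hker]
      show e (QuotientGroup.mk' R (x : X)) = 1 ↔ _
      rw [e.map_eq_one_iff, QuotientGroup.mk'_apply, QuotientGroup.eq_one_iff]
      exact ⟨fun h => hRL _ h x.2, fun h => Subgroup.zpowers_le.2 huR h⟩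
    have h1 : Nat.card ρ.range = 24 := by
      rw [← Subgroup.index_ker, ← hkereq, Subgroup.index_ker, MonoidHom.range_eq_top.2 hπsurj,
        Subgroup.card_top, card_sl23]
    exact MonoidHom.range_eq_top.1 (Subgroup.eq_top_of_card_eq _ (by rw [h1, card_sl23])) g
  -- the Sylow 2-subgroup of L
  let W : Subgroup L := quat.comap ρ
  have hkerW : ρ.ker ≤ W := fun x hx => by
    show ρ x ∈ quat
    rw [MonoidHom.mem_ker.1 hx]; exact one_mem _
  let N : Subgroup W := ρ.ker.subgroupOf W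
  have hcardker : Nat.card ρ.ker = 3 := by
    have e1 : (ρ.ker).map L.subtype = Subgroup.zpowers u := by
      ext x
      constructor
      · rintro ⟨y, hy, rfl⟩; exact (hker y).1 hy
      · intro hx
        obtain ⟨k, rfl⟩ := hx
        exact ⟨⟨u ^ k, huL k⟩, (hker _).2 ⟨k, rfl⟩, rfl⟩
    rw [Nat.card_congr (Subgroup.equivMapOfInjective ρ.ker L.subtype L.subtype_injective).toEquiv,
      e1, Nat.card_zpowers, orderOf_eq_prime hu3 hune]
  have hNcard : Nat.card N = 3 := by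
    rw [Nat.card_congr (Subgroup.subgroupOfEquivOfLe hkerW).toEquiv, hcardker]
  have hNidx : N.index = 8 := by
    show ρ.ker.relIndex W = 8
    rw [Subgroup.relIndex_ker]
    rw [show W.map ρ = quat from Subgroup.map_comap_eq_self_of_surjective hρsurj quat, card_quat]
  haveI : N.Normal := Subgroup.Normal.subgroupOf inferInstance W
  obtain ⟨Q, hQ⟩ := Subgroup.exists_right_complement'_of_coprime (N := N)
    (by rw [hNcard, hNidx]; norm_num)
  have hQ8 : Nat.card Q = 8 := by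
    have h1 := hQ.card_mul_card
    have h2 := N.card_mul_index
    rw [hNidx] at h2
    rw [← h2] at h1
    exact Nat.eq_of_mul_eq_mul_left Nat.card_pos h1
  have hZcent : ∀ (n : W), n ∈ N → ∀ w : W, n * w = w * n := by
    intro n hn w
    obtain ⟨k, hk⟩ := (hker (n : L)).1 hn
    refine Subtype.ext (Subtype.ext ?_)
    show ((n : L) : X) * ((w : L) : X) = ((w : L) : X) * ((n : L) : X)
    rw [← hk]
    exact ((huc _).zpow_left k).eq
  have hQmem : ∀ w : W, w ^ 8 = 1 ↔ w ∈ Q := by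
    intro w
    constructor
    · intro hw
      obtain ⟨⟨n, q⟩, hnq⟩ := hQ.2 w
      have hq8 : (q : W) ^ 8 = 1 := by
        have := pow_card_eq_one' (x := (⟨(q : W), q.2⟩ : Q))
        rw [hQ8] at this
        exact congrArg Subtype.val this
      have hn8 : (n : W) ^ 8 = 1 := by
        have e1 : w = (n : W) * (q : W) := hnq.symm
        rw [e1, (show Commute (n : W) (q : W) from hZcent n n.2 q).mul_pow, hq8, mul_one] at hw
        exact hw
      have hn3 : (n : W) ^ 3 = 1 := by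
        have := pow_card_eq_one' (x := (⟨(n : W), n.2⟩ : N))
        rw [hNcard] at this
        exact congrArg Subtype.val this
      have hn1 : (n : W) = 1 := by
        have : (n : W) = ((n : W) ^ 3) ^ 3 * ((n : W) ^ 8)⁻¹ := by group
        rw [this, hn3, hn8]; simp
      have e2 : w = (q : W) := by rw [← hnq]; show (n : W) * (q : W) = _; rw [hn1, one_mul]
      rw [e2]; exact q.2
    · intro hw
      have := pow_card_eq_one' (x := (⟨w, hw⟩ : Q))
      rw [hQ8] at this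
      exact congrArg Subtype.val this
  set H := Q.map W.subtype with hH
  have hH8 : Nat.card H = 8 := by
    rw [hH, ← Nat.card_congr (Subgroup.equivMapOfInjective Q W.subtype W.subtype_injective).toEquiv,
      hQ8]
  have hHmem : ∀ x : L, x ∈ H ↔ ρ x ∈ quat ∧ x ^ 8 = 1 := by
    intro x
    constructor
    · rintro ⟨w, hw, rfl⟩
      exact ⟨w.2, congrArg Subtype.val ((hQmem w).2 hw)⟩
    · rintro ⟨h1, h2⟩
      exact ⟨⟨x, h1⟩, (hQmem _).1 (Subtype.ext h2), rfl⟩
  have hHn : H.Normal := ⟨fun x hx g => by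
    rw [hHmem] at hx ⊢
    refine ⟨?_, ?_⟩
    · rw [map_mul, map_mul, map_inv]
      show (ρ g * ρ x * (ρ g)⁻¹) ^ 4 = 1
      rw [conj_pow, show ρ x ^ 4 = 1 from hx.1, mul_one, mul_inv_cancel]
    · rw [conj_pow, hx.2, mul_one, mul_inv_cancel]⟩
  -- the element of order three
  obtain ⟨y, hy3, hyR⟩ : ∃ y : L, y ^ 3 = 1 ∧ (y : X) ∉ R := by
    obtain ⟨E, hEc, hE3, hE27⟩ := hE
    have hER : E ⊓ R ≠ E := by
      intro hh
      have : E = R := Subgroup.eq_of_le_of_card_ge (inf_eq_left.1 hh) (by rw [hE27, hRcard])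
      exact hab (congrArg Subtype.val
        (hEc.is_comm.comm ⟨a, this.symm ▸ ha⟩ ⟨b, this.symm ▸ hb⟩))
    obtain ⟨e1, he1E, he1R⟩ : ∃ e1 ∈ E, e1 ∉ R := by
      by_contra hh
      push Not at hh
      exact hER (inf_eq_left.2 hh)
    have hEcomm : ∀ v ∈ E, ∀ w ∈ E, v * w = w * v := fun v hv w hw =>
      congrArg Subtype.val (hEc.is_comm.comm ⟨v, hv⟩ ⟨w, hw⟩)
    -- size of E ⊓ R
    have hER9 : 9 ≤ Nat.card ↥(E ⊓ R) := by
      have h1 : Nat.card E = Nat.card (E.map (QuotientGroup.mk' R)) * Nat.card ↥(E ⊓ R) := by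
        have := Subgroup.relIndex_mul_relIndex ⊥ (E ⊓ R) E bot_le inf_le_left
        rw [Subgroup.relIndex_bot_left, Subgroup.relIndex_bot_left, inf_comm,
          Subgroup.inf_relIndex_right] at this
        rw [← Subgroup.relIndex_ker, QuotientGroup.ker_mk', ← this, mul_comm, inf_comm]
      have h2 : Nat.card (E.map (QuotientGroup.mk' R)) ∣ 3 := by
        have a1 : Nat.card (E.map (QuotientGroup.mk' R)) ∣ 8 * 3 := by
          have := (E.map (QuotientGroup.mk' R)).card_subgroup_dvd_card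
          rw [Nat.card_congr e.toEquiv, card_sl23] at this
          exact this
        have a2 : Nat.card (E.map (QuotientGroup.mk' R)) ∣ 3 ^ 3 := by
          rw [show 3 ^ 3 = Nat.card E by rw [hE27]; norm_num]
          exact Subgroup.card_map_dvd _ _
        exact (Nat.Coprime.coprime_dvd_left a2 (by norm_num)).dvd_of_dvd_mul_left a1
      have h3 := Nat.le_of_dvd (by norm_num) h2
      rw [hE27] at h1
      nlinarith
    obtain ⟨v, hv, hvu⟩ : ∃ v ∈ E ⊓ R, v ∉ Subgroup.zpowers u := by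
      by_contra hh
      push Not at hh
      have := Subgroup.card_le_of_le (show E ⊓ R ≤ Subgroup.zpowers u from hh)
      rw [Nat.card_zpowers, orderOf_eq_prime hu3 hune] at this
      omega
    obtain ⟨hvE, hvR⟩ := Subgroup.mem_inf.1 hv
    obtain ⟨⟨va, vb, vc⟩, rfl⟩ := (hfR v).1 hvR
    -- centraliser of v in R
    have hvw : ∀ w : Hz, Commute (fN w) (fN ⟨va, vb, vc⟩) ↔ w.a * vb - w.b * va = 0 := by
      intro w
      rw [commute_iff_eq, ← map_mul, ← map_mul, hfinj.eq_iff]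
      simp only [mul_def', Hz.mk.injEq]
      constructor
      · rintro ⟨-, -, h⟩
        have h3 : (3 : K3) = 0 := k3_three
        linear_combination (-1 : K3) * h + (w.a * vb - w.b * va) * h3
      · intro h
        exact ⟨add_comm _ _, add_comm _ _, by linear_combination 2 * h⟩
    obtain ⟨r, hr, hry⟩ := hLr e1
    have hv0 : Commute (fN ⟨va, vb, 0⟩) e1 := by
      have h1 : fN ⟨va, vb, vc⟩ = fN ⟨va, vb, 0⟩ * fN ⟨0, 0, vc⟩ := by
        rw [← map_mul]; congr 1; simp [mul_def']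
      have h2 : Commute (fN ⟨va, vb, vc⟩) e1 := hEcomm _ hvE _ he1E
      have h3 : Commute (fN ⟨0, 0, vc⟩) e1 := by
        have : fN ⟨0, 0, vc⟩ = zp u (-vc) := by simp [hfN, zp_zero]
        rw [this]; exact huzc _ _
      rw [← mul_inv_eq_iff_eq_mul.2 h1]
      exact h2.mul_left h3.inv_left
    obtain ⟨w, rfl⟩ := (hfR r).1 hr
    have hyv : fN w * e1 * fN ⟨va, vb, 0⟩ * (fN w * e1)⁻¹ = fN w * fN ⟨va, vb, 0⟩ * (fN w)⁻¹ := by
      calc _ = fN w * (e1 * fN ⟨va, vb, 0⟩ * e1⁻¹) * (fN w)⁻¹ := by group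
        _ = _ := by rw [← hv0.eq, mul_inv_cancel_right]
    have hcw : w.a * vb - w.b * va = 0 := by
      have h1 : fN w * fN ⟨va, vb, 0⟩ * (fN w)⁻¹ =
          fN ⟨va, vb, 2 * (w.a * vb - w.b * va)⟩ := by
        rw [← map_inv, ← map_mul, ← map_mul]
        congr 1
        simp only [mul_def', inv_def', Hz.mk.injEq]
        exact ⟨by ring, by ring, by ring⟩
      have h2 := hinv0 ⟨va, vb, 2 * (w.a * vb - w.b * va)⟩ (by
        rw [← h1, ← hyv]
        have hc := Subgroup.mem_centralizer_singleton_iff.1 hry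
        calc t * (fN w * e1 * fN ⟨va, vb, 0⟩ * (fN w * e1)⁻¹) * t⁻¹
            = (t * (fN w * e1)) * fN ⟨va, vb, 0⟩ * (t * (fN w * e1))⁻¹ := by group
          _ = ((fN w * e1) * t) * fN ⟨va, vb, 0⟩ * ((fN w * e1) * t)⁻¹ := by rw [hc]
          _ = (fN w * e1) * (t * fN ⟨va, vb, 0⟩ * t⁻¹) * (fN w * e1)⁻¹ := by group
          _ = _ := by
            rw [htf, show (⟨-va, -vb, (0 : K3)⟩ : Hz) = (⟨va, vb, 0⟩ : Hz)⁻¹ by simp [inv_def'],
              map_inv]
            group)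
      exact k3_two _ h2
    -- so r commutes with v, hence lies in E
    have hrE : fN w ∈ E := by
      have key : ∀ w : Hz, w.a * vb - w.b * va = 0 → fN w ∈ E ⊓ R := by
        have hnz : va ≠ 0 ∨ vb ≠ 0 := by
          by_contra hh
          push Not at hh
          apply hvu
          rw [hfN, hh.1, hh.2]
          simp only [zp_zero, one_mul]
          exact pow_mem (Subgroup.mem_zpowers u) _
        let Cv : Subgroup X := Subgroup.centralizer ({fN ⟨va, vb, vc⟩} : Set X) ⊓ R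
        have hle : E ⊓ R ≤ Cv := fun z hz => ⟨Subgroup.mem_centralizer_singleton_iff.2
          (hEcomm _ (Subgroup.mem_inf.1 hz).1 _ hvE), (Subgroup.mem_inf.1 hz).2⟩
        have hne : Cv ≠ R := by
          intro hh
          have h4 : ∀ k : Hz, k.a * vb - k.b * va = 0 := fun k => (hvw k).1
            (Subgroup.mem_centralizer_singleton_iff.1
              (Subgroup.mem_inf.1 (hh.symm ▸ hfmem k : fN k ∈ Cv)).1)
          rcases hnz with h | h
          · exact h (by simpa using h4 ⟨0, 1, 0⟩)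
          · exact h (by simpa using h4 ⟨1, 0, 0⟩)
        have heq : E ⊓ R = Cv := by
          refine Subgroup.eq_of_le_of_card_ge hle ?_
          have a1 := Subgroup.card_dvd_of_le (inf_le_right : Cv ≤ R)
          have hlt : Cv < R := lt_of_le_of_ne inf_le_right hne
          have a2 : Nat.card Cv < 27 := hRcard ▸ Set.Finite.card_lt_card (Set.toFinite _) hlt
          rw [hRcard, show (27 : ℕ) = 3 ^ 3 by norm_num] at a1
          obtain ⟨k, hk, hk'⟩ := (Nat.dvd_prime_pow (Fact.out : Nat.Prime 3)).1 a1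
          rw [hk'] at a2 ⊢
          interval_cases k <;> omega
        intro w hw
        rw [heq]
        exact ⟨Subgroup.mem_centralizer_singleton_iff.2 ((hvw w).2 hw).eq, hfmem w⟩
      exact (Subgroup.mem_inf.1 (key w hcw)).1
    refine ⟨⟨fN w * e1, hry⟩, Subtype.ext (hE3 _ (mul_mem hrE he1E)), fun h => he1R ?_⟩
    exact ((Subgroup.mul_mem_cancel_left R (hfmem w)).1 h)
  have hρy : ρ y ≠ 1 := fun h => hyR (Subgroup.zpowers_le.2 huR ((hker y).1 h))
  have hρy3 : ρ y ^ 3 = 1 := by rw [← map_pow, hy3, map_one]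
  haveI := hHn
  set L0 : Subgroup L := H ⊔ Subgroup.zpowers y with hL0
  have hL0mem : ∀ x ∈ L0, ρ x = 1 → x = 1 := by
    intro x hx hx1
    rw [hL0] at hx
    obtain ⟨h, hh, z, hz, rfl⟩ := Subgroup.mem_sup_of_normal_left.1 hx
    obtain ⟨k, rfl⟩ := hz
    obtain ⟨hq, h8⟩ := (hHmem h).1 hh
    rw [map_mul, map_zpow] at hx1
    have h3 : ρ h ^ 3 = 1 := by
      rw [eq_inv_of_mul_eq_one_left hx1, inv_pow, ← zpow_natCast, ← zpow_mul, mul_comm, zpow_mul,
        zpow_natCast, hρy3, one_zpow, inv_one]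
    have hh1 : ρ h = 1 := eq_one_of_quat_of_cube _ hq h3
    have hh0 : h = 1 := by
      obtain ⟨j, hj⟩ := (hker h).1 hh1
      have h3' : (h : L) ^ 3 = 1 := Subtype.ext (by
        show (h : X) ^ 3 = 1
        rw [← hj, ← zpow_natCast, ← zpow_mul, mul_comm, zpow_mul, zpow_natCast, hu3, one_zpow])
      have : h = (h ^ 3) ^ 3 * (h ^ 8)⁻¹ := by group
      rw [this, h3', h8]; simp
    rw [hh1, one_mul] at hx1
    have hord : orderOf (ρ y) = 3 := orderOf_eq_prime hρy3 hρy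
    obtain ⟨j, rfl⟩ : (3 : ℤ) ∣ k := by
      have := orderOf_dvd_iff_zpow_eq_one.2 hx1
      rwa [hord] at this
    show h * y ^ (3 * j : ℤ) = 1
    rw [hh0, one_mul, zpow_mul]
    rw [show y ^ (3 : ℤ) = 1 by rw [show (3 : ℤ) = ((3 : ℕ) : ℤ) from rfl, zpow_natCast, hy3]]
    simp
  let σ' : L0 →* SL23 := ρ.comp L0.subtype
  have hσinj : Function.Injective σ' := (injective_iff_map_eq_one σ').2
    fun x hx => Subtype.ext (hL0mem x x.2 hx)
  have hσbij : Function.Bijective σ' := by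
    refine ⟨hσinj, MonoidHom.range_eq_top.1 (Subgroup.eq_top_of_card_eq _ ?_)⟩
    refine le_antisymm (Subgroup.card_le_card_group _) ?_
    rw [card_sl23]
    refine Nat.le_of_dvd Nat.card_pos ((Nat.Coprime.mul_dvd_of_dvd_of_dvd
      (show Nat.Coprime 8 3 by norm_num) ?_ ?_))
    · rw [← Nat.card_congr (MonoidHom.ofInjective hσinj).toEquiv, ← hH8]
      exact Subgroup.card_dvd_of_le le_sup_left
    · rw [← Nat.card_congr (MonoidHom.ofInjective hσinj).toEquiv,
        ← orderOf_eq_prime hy3 (fun h => hρy (by rw [h, map_one])), ← Nat.card_zpowers]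
      exact Subgroup.card_dvd_of_le le_sup_right
  let ε : L0 ≃* SL23 := MulEquiv.ofBijective σ' hσbij
  let fL : SL23 →* X := (L.subtype.comp L0.subtype).comp ε.symm.toMonoidHom
  have hfL : ∀ g, ρ (ε.symm g : L0) = g := fun g => ε.apply_symm_apply g
  let ψ : Mdl →* X := SemidirectProduct.lift fN fL fun g => by
    refine MonoidHom.ext fun h => ?_
    show fN (hzAct g h) = ((ε.symm g : L0) : X) * fN h * (((ε.symm g : L0) : X))⁻¹
    rw [hρ (ε.symm g : L0) h, hfL]
  have hψinj : Function.Injective ψ := by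
    refine (injective_iff_map_eq_one ψ).2 fun m hm => ?_
    have hm' : fN m.left * fL m.right = 1 := hm
    have hR' : fL m.right ∈ R := by
      rw [eq_inv_of_mul_eq_one_right hm']
      exact inv_mem (hfmem _)
    have h1 : ρ (ε.symm m.right : L0) = 1 := (hker _).2 (hRL _ hR' (ε.symm m.right : L0).1.2)
    rw [hfL] at h1
    rw [h1, map_one, mul_one] at hm'
    exact SemidirectProduct.ext (hfinj (hm'.trans (map_one fN).symm)) h1
  exact ⟨(MulEquiv.ofBijective ψ ⟨hψinj, (Nat.bijective_iff_injective_and_card ψ).2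
    ⟨hψinj, by rw [card_mdl, hcardX]⟩ |>.2⟩).symm⟩

end Cfsg.Agent.H9.Shape
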