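import Cfsg.Agent.H9.AbelianOffender
import Cfsg.Agent.H10.SemiModel
import Cfsg.Agent.H10.CentralClosure
import Cfsg.Agent.H10.PSolvable
import Cfsg.Agent.H1.Fitting
import Cfsg.Agent.H1.Cores
import Cfsg.Agent.H30.SThreeSection
import Cfsg.Agent.S0617

/-!
A solvable group with `F(X) = O₂(X)`: the abelian Thompson subgroup against `Z(T)`.
-/

set_option autoImplicit false
set_option linter.style.haveILetI false

open Cfsg
open scoped commutatorElement

namespace Cfsg.Agent.H9.STS

theorem sl_two_equiv_perm :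
    Nonempty (Matrix.SpecialLinearGroup (Fin 2) (ZMod 2) ≃* Equiv.Perm (Fin 3)) := by
  let w : Matrix.SpecialLinearGroup (Fin 2) (ZMod 2) := ⟨!![0, 1; 1, 1], by decide⟩
  let a : Matrix.SpecialLinearGroup (Fin 2) (ZMod 2) := ⟨!![1, 1; 0, 1], by decide⟩
  have hw : orderOf w = 3 := orderOf_eq_prime (by decide)
    fun h => absurd (congrArg Subtype.val h) (by decide)
  refine H30.mulEquiv_perm_three hw (a := a) (by decide) ?_ (by decide) H10.card_SL2_two
  intro h
  have h1 := orderOf_dvd_of_mem_zpowers h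
  rw [hw, orderOf_eq_prime (p := 2) (x := a) (by decide)
    fun h => absurd (congrArg Subtype.val h) (by decide)] at h1
  omega

variable {X : Type*} [Group X] [Finite X]

omit [Finite X] in
theorem centralizer_normalClosure (Z : Subgroup X) :
    Subgroup.centralizer (Subgroup.normalClosure (Z : Set X) : Set X) =
      (Subgroup.centralizer (Z : Set X)).normalCore := by
  refine le_antisymm ?_ ?_
  · haveI : (Subgroup.centralizer (Subgroup.normalClosure (Z : Set X) : Set X)).Normal :=
      inferInstance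
    rw [Subgroup.normal_le_normalCore]
    exact Subgroup.centralizer_le (Subgroup.subset_normalClosure)
  · rw [Subgroup.le_centralizer_iff]
    haveI : (Subgroup.centralizer ((Subgroup.centralizer (Z : Set X)).normalCore : Set X)).Normal :=
      inferInstance
    refine Subgroup.normalClosure_le_normal fun z hz => Subgroup.mem_centralizer_iff.mpr fun c hc => ?_
    exact (Subgroup.mem_centralizer_iff.mp (Subgroup.normalCore_le _ hc) z hz).symm

omit [Finite X] in
/-- An odd element fixing the involutions of an abelian `2`-group fixes the group. -/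
theorem odd_fixes_of_omega {V : Subgroup X} (hV : ∀ x ∈ V, ∀ y ∈ V, x * y = y * x) {d : X}
    (hd : d ∈ Subgroup.normalizer (V : Set X)) (hodd : Odd (orderOf d))
    (hfix : ∀ w ∈ V, w ^ 2 = 1 → d * w * d⁻¹ = w) :
    ∀ k : ℕ, ∀ v ∈ V, v ^ (2 ^ k) = 1 → d * v * d⁻¹ = v := by
  intro k
  induction k with
  | zero => intro v _ h; rw [pow_zero, pow_one] at h; simp [h]
  | succ k ih =>
    intro v hv h
    set c := d * v * d⁻¹ * v⁻¹ with hc
    have hdv : d * v * d⁻¹ ∈ V := SFree.conj_mem hd hv
    have hcV : c ∈ V := mul_mem hdv (inv_mem hv)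
    have h2 : d * v ^ 2 * d⁻¹ = v ^ 2 :=
      ih _ (pow_mem hv 2) (by rw [← pow_mul, ← pow_succ']; exact h)
    have hc2 : c ^ 2 = 1 := by
      rw [hc, Commute.mul_pow (hV _ hdv _ (inv_mem hv)), conj_pow, h2, inv_pow, mul_inv_cancel]
    have hcfix := hfix c hcV hc2
    have hi : ∀ i : ℕ, d ^ i * v * (d ^ i)⁻¹ = c ^ i * v := by
      intro i
      induction i with
      | zero => simp
      | succ i ih2 =>
        calc d ^ (i + 1) * v * (d ^ (i + 1))⁻¹ = d * (d ^ i * v * (d ^ i)⁻¹) * d⁻¹ := by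
              rw [pow_succ', mul_inv_rev]; group
          _ = (d * c * d⁻¹) ^ i * (d * v * d⁻¹) := by rw [ih2, conj_pow]; group
          _ = c ^ i * (c * v) := by rw [hcfix, hc]; group
          _ = c ^ (i + 1) * v := by rw [← mul_assoc, ← pow_succ]
    have h3 := hi (orderOf d)
    rw [pow_orderOf_eq_one, one_mul, inv_one, mul_one, right_eq_mul] at h3
    have h4 : orderOf c ∣ Nat.gcd (orderOf d) 2 :=
      Nat.dvd_gcd (orderOf_dvd_of_pow_eq_one h3) (orderOf_dvd_of_pow_eq_one hc2)
    rw [(Nat.coprime_two_right.mpr hodd).gcd_eq_one, Nat.dvd_one, orderOf_eq_one_iff] at h4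
    exact mul_inv_eq_one.mp (hc ▸ h4)

theorem pCore_two_centralizer_omega (V : Subgroup X) [V.Normal]
    (hV : ∀ x ∈ V, ∀ y ∈ V, x * y = y * x) (hV2 : IsPGroup 2 V)
    (hO : pCore 2 (X ⧸ Subgroup.centralizer (V : Set X)) = ⊥) :
    Subgroup.centralizer ((omegaOne 2 V : Subgroup X) : Set X) =
      Subgroup.centralizer (V : Set X) := by
  haveI : Fact (Nat.Prime 2) := ⟨Nat.prime_two⟩
  haveI hWn : (omegaOne 2 V).Normal := by
    refine Subgroup.normalizer_eq_top_iff.mp (top_le_iff.mp fun g _ => ?_)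
    rw [Subgroup.mem_normalizer_iff_map_conj_eq]
    exact (H10.map_omegaOne (p := 2) (MulAut.conj g) V).trans (congrArg (omegaOne 2)
      (Subgroup.Normal.map_conj_eq (H := V) g))
  set C := Subgroup.centralizer (V : Set X)
  set D := Subgroup.centralizer ((omegaOne 2 V : Subgroup X) : Set X) with hD
  refine le_antisymm ?_ (Subgroup.centralizer_le (SetLike.coe_subset_coe.mpr (H10.omegaOne_le V)))
  haveI : D.Normal := inferInstance
  haveI : (D.map (QuotientGroup.mk' C)).Normal :=
    Subgroup.Normal.map inferInstance _ (QuotientGroup.mk'_surjective C)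
  have hp : IsPGroup 2 (D.map (QuotientGroup.mk' C)) := by
    rintro ⟨_, d, hd, rfl⟩
    obtain ⟨k, m, hm, he⟩ := Nat.exists_eq_two_pow_mul_odd (n := orderOf d) (orderOf_pos d).ne'
    refine ⟨k, Subtype.ext ?_⟩
    show (QuotientGroup.mk' C d) ^ 2 ^ k = 1
    rw [← map_pow, QuotientGroup.mk'_apply, QuotientGroup.eq_one_iff]
    rw [Subgroup.mem_centralizer_iff]
    intro v hv
    obtain ⟨l, hl⟩ := hV2 ⟨v, hv⟩
    refine (mul_inv_eq_iff_eq_mul.mp (odd_fixes_of_omega hV
      (Subgroup.normalizer_eq_top_iff.mpr (inferInstance : V.Normal) ▸ Subgroup.mem_top _)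
      ?_ (fun w hw hw2 => ?_) l v hv (congrArg Subtype.val hl))).symm
    · have h : orderOf (d ^ 2 ^ k) = m := by
        rw [orderOf_pow' _ (pow_ne_zero k two_ne_zero), he, Nat.gcd_mul_right_left]
        exact Nat.mul_div_cancel_left m (by positivity)
      rw [h]; exact hm
    · exact mul_inv_eq_iff_eq_mul.mpr
        (Subgroup.mem_centralizer_iff.mp (pow_mem hd _) w (Subgroup.subset_closure ⟨hw, hw2⟩)).symm
  intro d hd
  have h1 : QuotientGroup.mk' C d ∈ (⊥ : Subgroup (X ⧸ C)) :=
    hO ▸ H1.le_pCore hp ⟨d, hd, rfl⟩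
  rw [Subgroup.mem_bot, QuotientGroup.mk'_apply, QuotientGroup.eq_one_iff] at h1
  exact h1

theorem structure_thm [Group.IsSolvable X] (hF : fittingSubgroup X = pCore 2 X) (T : Sylow 2 X) :
    ((Subgroup.centralizer (((T : Subgroup X) ⊓ Subgroup.centralizer ((T : Subgroup X) : Set X) :
          Subgroup X) : Set X)).normalCore
        ⊔ Subgroup.normalClosure (thompsonSubgroupAOf (T : Subgroup X) : Set X)
        ⊔ Subgroup.normalizer (thompsonSubgroupAOf (T : Subgroup X) : Set X) = ⊤) ∧
    (Subgroup.normalClosure (thompsonSubgroupAOf (T : Subgroup X) : Set X)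
        ≤ (Subgroup.centralizer (((T : Subgroup X) ⊓ Subgroup.centralizer ((T : Subgroup X) : Set X) :
          Subgroup X) : Set X)).normalCore
      ∨ ∃ n : ℕ, 1 ≤ n ∧
        Nonempty (↥(Subgroup.normalClosure (thompsonSubgroupAOf (T : Subgroup X) : Set X)) ⧸
            ((Subgroup.centralizer (((T : Subgroup X) ⊓
              Subgroup.centralizer ((T : Subgroup X) : Set X) : Subgroup X) : Set X)).normalCore).subgroupOf
              (Subgroup.normalClosure (thompsonSubgroupAOf (T : Subgroup X) : Set X))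
          ≃* (Fin n → Equiv.Perm (Fin 3)))) := by
  classical
  haveI : Fact (Nat.Prime 2) := ⟨Nat.prime_two⟩
  set J := thompsonSubgroupAOf (T : Subgroup X) with hJdef
  set Z := (T : Subgroup X) ⊓ Subgroup.centralizer ((T : Subgroup X) : Set X) with hZdef
  set Y := Subgroup.normalClosure (J : Set X) with hYdef
  have hJT : J ≤ (T : Subgroup X) := Subgroup.map_subtype_le _
  have hJY : J ≤ Y := Subgroup.subset_normalClosure
  have hJfam : J = sSup (H11.maxFam (fun A : Subgroup X => IsMulCommutative A) (T : Subgroup X)) :=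
    H11.thompsonSubgroupAOf_eq (T : Subgroup X)
  set O := pCore 2 X with hOdef
  haveI : O.Normal := H1.pCore_normal' 2 X
  have hOC : Subgroup.centralizer (O : Set X) ≤ O := by
    have h := H1.centralizer_fitting_le_of_isSolvable (G := X) inferInstance
    rwa [hF] at h
  have hOT : ∀ S : Sylow 2 X, O ≤ (S : Subgroup X) := fun S => H1.pCore_le_sylow S
  have hZO : Z ≤ O ⊓ Subgroup.centralizer (O : Set X) := by
    have h1 : Z ≤ Subgroup.centralizer (O : Set X) :=
      inf_le_right.trans (Subgroup.centralizer_le (SetLike.coe_subset_coe.mpr (hOT T)))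
    exact le_inf (h1.trans hOC) h1
  set V := Subgroup.normalClosure (Z : Set X) with hVdef
  have hVO : V ≤ O ⊓ Subgroup.centralizer (O : Set X) := by
    haveI : (Subgroup.centralizer (O : Set X)).Normal := inferInstance
    exact Subgroup.normalClosure_le_normal hZO
  have hVab : ∀ x ∈ V, ∀ y ∈ V, x * y = y * x := fun x hx y hy =>
    (Subgroup.mem_centralizer_iff.mp (Subgroup.mem_inf.mp (hVO hy)).2 x
      (Subgroup.mem_inf.mp (hVO hx)).1)
  have hV2 : IsPGroup 2 V := (H1.isPGroup_pCore 2 X).to_le (hVO.trans inf_le_left)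
  have hCdef : Subgroup.centralizer (V : Set X) = (Subgroup.centralizer (Z : Set X)).normalCore :=
    centralizer_normalClosure Z
  have hOq : pCore 2 (X ⧸ Subgroup.centralizer (V : Set X)) = ⊥ := by
    refine H10.pCore_quotient_centralizer_eq_bot
      (fun S : Sylow 2 X => (S : Subgroup X) ⊓ Subgroup.centralizer ((S : Subgroup X) : Set X))
      (fun S => ?_) ?_ (fun S => ?_)
    · rw [Subgroup.le_centralizer_iff]; exact inf_le_right
    · refine (Subgroup.closure_le _).mpr fun x hx => ?_
      obtain ⟨z, hz, g, rfl⟩ : ∃ z ∈ Z, ∃ g, g * z * g⁻¹ = x := by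
        obtain ⟨z, hz, hc⟩ := Group.mem_conjugatesOfSet_iff.mp hx
        rw [isConj_iff] at hc
        exact ⟨z, hz, hc⟩
      have h1 : g * z * g⁻¹ ∈ ((g • T : Sylow 2 X) : Subgroup X) ⊓
          Subgroup.centralizer (((g • T : Sylow 2 X) : Subgroup X) : Set X) := by
        have e : ((g • T : Sylow 2 X) : Subgroup X) =
            (T : Subgroup X).map (MulAut.conj g).toMonoidHom := rfl
        rw [e, ← H10.map_conj_inf_centralizer]
        exact ⟨z, hz, rfl⟩
      exact le_iSup (fun S : Sylow 2 X =>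
        (S : Subgroup X) ⊓ Subgroup.centralizer ((S : Subgroup X) : Set X)) (g • T) h1
    · obtain ⟨g, rfl⟩ := MulAction.exists_smul_eq X T S
      have e : ((g • T : Sylow 2 X) : Subgroup X) =
          (T : Subgroup X).map (MulAut.conj g).toMonoidHom := rfl
      rw [e, ← H10.map_conj_inf_centralizer, Subgroup.map_le_iff_le_comap]
      intro z hz
      exact (inferInstance : V.Normal).conj_mem z (Subgroup.subset_normalClosure hz) g
  set W := omegaOne 2 V with hWdef
  haveI hWn : W.Normal := by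
    refine Subgroup.normalizer_eq_top_iff.mp (top_le_iff.mp fun g _ => ?_)
    rw [Subgroup.mem_normalizer_iff_map_conj_eq]
    exact (H10.map_omegaOne (p := 2) (MulAut.conj g) V).trans (congrArg (omegaOne 2)
      (Subgroup.Normal.map_conj_eq (H := V) g))
  have hWe : IsElementaryAbelian 2 W := H10.omegaOne_elementaryAbelian hVab
  have hWV : W ≤ V := H10.omegaOne_le V
  have hCW : Subgroup.centralizer (W : Set X) = Subgroup.centralizer (V : Set X) :=
    pCore_two_centralizer_omega V hVab hV2 hOq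
  have hOW : pCore 2 (X ⧸ Subgroup.centralizer (W : Set X)) = ⊥ := by
    rw [← H1.map_pCore_equiv 2 (QuotientGroup.quotientMulEquivOfEq hCW.symm), hOq, Subgroup.map_bot]
  set f := H10.toModel W with hfdef
  have hker : f.ker = Subgroup.centralizer (V : Set X) := by
    rw [← hCW]
    exact Subgroup.ext fun g => MonoidHom.mem_ker.trans H10.toModel_eq_one_iff
  haveI : Group.IsSolvable ↥Y := inferInstance
  have hff : H10.FFHyp 2 (H10.modelV W) (Y.map f) :=
    H10.ffHyp_model hWe (H10.isPSolvable_subgroup H10.isPSolvable_of_isSolvable Y) hOW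
  -- conjugates of the generators are offenders
  have key : ∀ A ∈ H11.maxFam (fun A : Subgroup X => IsMulCommutative A) (T : Subgroup X), ∀ g : X,
      IsBestOffenderOn 2 (H10.modelV W) ((A.map (MulAut.conj g).toMonoidHom).map f) ∧
        (A.map (MulAut.conj g).toMonoidHom).map f ≤ Y.map f := by
    intro A hA g
    set A' := A.map (MulAut.conj g).toMonoidHom with hA'def
    have hA'Y : A' ≤ Y := by
      rintro _ ⟨a, ha, rfl⟩
      exact (inferInstance : Y.Normal).conj_mem a (hJY (hJfam ▸ le_sSup hA ha)) g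
    have hA'c : IsMulCommutative A' := H11.isMulCommutative_map hA.2.1 _
    have hA'T : A' ≤ ((g • T : Sylow 2 X) : Subgroup X) := Subgroup.map_mono hA.1
    have hA'card : Nat.card A' = Nat.card A :=
      Subgroup.card_map_of_injective (MulAut.conj g).injective
    set C := Subgroup.centralizer (V : Set X) with hC
    have hcomb : IsMulCommutative ↥((A' ⊓ C) ⊔ V) :=
      H11.isMulCommutative_sup (H11.isMulCommutative_of_le hA'c inf_le_left)
        (H11.isMulCommutative_of_commute hVab)
        fun x hx y hy => (Subgroup.mem_centralizer_iff.mp hx.2 y hy).symm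
    have hcombT : (A' ⊓ C) ⊔ V ≤ ((g • T : Sylow 2 X) : Subgroup X) :=
      sup_le (inf_le_left.trans hA'T) ((hVO.trans inf_le_left).trans (hOT _))
    have hcard1 : Nat.card ↥((A' ⊓ C) ⊔ V) ≤ Nat.card A' := by
      have hpre : ((A' ⊓ C) ⊔ V).map (MulAut.conj g⁻¹).toMonoidHom ≤ (T : Subgroup X) := by
        rintro _ ⟨y, hy, rfl⟩
        obtain ⟨t, ht, rfl⟩ := hcombT hy
        show g⁻¹ * (g * t * g⁻¹) * g⁻¹⁻¹ ∈ (T : Subgroup X)
        rw [show g⁻¹ * (g * t * g⁻¹) * g⁻¹⁻¹ = t from by group]
        exact ht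
      have := hA.2.2 _ hpre (H11.isMulCommutative_map hcomb _)
      rw [Subgroup.card_map_of_injective (MulAut.conj g⁻¹).injective] at this
      rwa [hA'card]
    have hn : A' ⊓ C ≤ Subgroup.normalizer (V : Set X) := Subgroup.le_normalizer_of_normal
    have h2 := H10.card_mul_card_inf hn
    have h3 : Nat.card ↥((A' ⊓ C) ⊓ V) ≤ Nat.card ↥(V ⊓ Subgroup.centralizer (A' : Set X)) := by
      refine Subgroup.card_le_of_le (le_inf inf_le_right fun x hx => ?_)
      exact Subgroup.mem_centralizer_iff.mpr fun a ha =>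
        (H11.comm_of_mulCommutative hA'c ha (Subgroup.mem_inf.mp hx).1.1).eq
    have h4 : Nat.card ↥(A'.map f) * Nat.card ↥(A' ⊓ C) = Nat.card A' := by
      have h := H10.card_map_model (V := W) A'
      rwa [congrArg (fun U : Subgroup X => Nat.card ↥(A' ⊓ U)) hCW] at h
    have hVle : Nat.card V ≤
        Nat.card ↥(A'.map f) * Nat.card ↥(V ⊓ Subgroup.centralizer (A' : Set X)) := by
      refine Nat.le_of_mul_le_mul_left ?_ (Nat.card_pos (α := ↥(A' ⊓ C)))
      calc Nat.card ↥(A' ⊓ C) * Nat.card V = Nat.card ↥((A' ⊓ C) ⊔ V) * Nat.card ↥((A' ⊓ C) ⊓ V) :=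
            h2.symm
        _ ≤ Nat.card A' * Nat.card ↥(V ⊓ Subgroup.centralizer (A' : Set X)) :=
            Nat.mul_le_mul hcard1 h3
        _ = _ := by rw [← h4]; ring
    have hWle : Nat.card W ≤
        Nat.card ↥(A'.map f) * Nat.card ↥(W ⊓ Subgroup.centralizer (A' : Set X)) := by
      have e : ∀ U : Subgroup X, Nat.card ↥(U ⊓ Subgroup.centralizer (A' : Set X)) *
          (Subgroup.centralizer (A' : Set X)).relIndex U = Nat.card U := fun U => by
        rw [← Subgroup.inf_relIndex_left U, ← Subgroup.relIndex_bot_left,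
          Subgroup.relIndex_mul_relIndex _ _ _ bot_le inf_le_left, Subgroup.relIndex_bot_left]
      have hVi : (Subgroup.centralizer (A' : Set X)).relIndex V ≤ Nat.card ↥(A'.map f) := by
        refine Nat.le_of_mul_le_mul_left ?_
          (Nat.card_pos (α := ↥(V ⊓ Subgroup.centralizer (A' : Set X))))
        rw [e, mul_comm]; exact hVle
      have hWi : (Subgroup.centralizer (A' : Set X)).relIndex W ≤
          (Subgroup.centralizer (A' : Set X)).relIndex V :=
        Subgroup.relIndex_le_of_le_right hWV Subgroup.index_ne_zero_of_finite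
      rw [← e W, mul_comm]
      exact Nat.mul_le_mul_right _ (hWi.trans hVi)
    have hoff := AbelOff.abelian_offender hff (Subgroup.map_mono hA'Y)
      (H11.isMulCommutative_map hA'c _)
      ((((g • T : Sylow 2 X).isPGroup').to_le hA'T).map f)
      (by rw [H10.card_modelV, H10.card_fixed_model]; exact hWle)
    exact ⟨hff.best_of_isOff hoff, Subgroup.map_mono hA'Y⟩
  have hgen : Y.map f = ⨆ A : {A : Subgroup (H10.Model W) //
      A ≤ Y.map f ∧ IsBestOffenderOn 2 (H10.modelV W) A}, (A : Subgroup (H10.Model W)) := by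
    refine le_antisymm ?_ (iSup_le fun A => A.2.1)
    rw [Subgroup.map_le_iff_le_comap]
    refine (Subgroup.closure_le _).mpr fun x hx => ?_
    obtain ⟨j, hj, hc⟩ := Group.mem_conjugatesOfSet_iff.mp hx
    rw [isConj_iff] at hc
    obtain ⟨g, rfl⟩ := hc
    rw [SetLike.mem_coe, Subgroup.mem_comap]
    show f (MulAut.conj g j) ∈ _
    suffices J.map (f.comp (MulAut.conj g).toMonoidHom) ≤ ⨆ A : {A : Subgroup (H10.Model W) //
        A ≤ Y.map f ∧ IsBestOffenderOn 2 (H10.modelV W) A}, (A : Subgroup (H10.Model W)) from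
      this ⟨j, hj, rfl⟩
    rw [hJfam, Subgroup.map_le_iff_le_comap]
    refine sSup_le fun A hA => ?_
    rw [← Subgroup.map_le_iff_le_comap, ← Subgroup.map_map]
    exact le_iSup (fun A : {A : Subgroup (H10.Model W) //
      A ≤ Y.map f ∧ IsBestOffenderOn 2 (H10.modelV W) A} => (A : Subgroup (H10.Model W)))
        ⟨_, (key A hA g).2, (key A hA g).1⟩
  refine ⟨?_, ?_⟩
  · -- Frattini argument
    obtain ⟨P, hP⟩ : ∃ P : Sylow 2 Y, ((T : Subgroup X).subgroupOf Y) ≤ (P : Subgroup Y) :=
      IsPGroup.exists_le_sylow T.isPGroup'.comap_subtype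
    set P' := (P : Subgroup Y).map Y.subtype with hP'
    have hPT : (T : Subgroup X) ⊓ Y = P' := by
      have hle : (T : Subgroup X) ⊓ Y ≤ P' := fun x hx => ⟨⟨x, hx.2⟩, hP hx.1, rfl⟩
      refine Subgroup.eq_of_le_of_card_ge hle ?_
      obtain ⟨S, hS⟩ := IsPGroup.exists_le_sylow (P.isPGroup'.map Y.subtype)
      obtain ⟨x, rfl⟩ := MulAction.exists_smul_eq X T S
      refine le_trans (Subgroup.card_le_of_le (K := ((T : Subgroup X) ⊓ Y).map
        (MulAut.conj x).toMonoidHom) fun y hy => ?_)
        (Subgroup.card_map_of_injective (MulAut.conj x).injective).le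
      obtain ⟨t, ht, rfl⟩ := hS hy
      refine ⟨t, ⟨ht, ?_⟩, rfl⟩
      have hy' : x * t * x⁻¹ ∈ Y := Subgroup.map_subtype_le _ hy
      have := (inferInstance : Y.Normal).conj_mem _ hy' x⁻¹
      simpa [mul_assoc] using this
    have hNJ : Subgroup.normalizer (P' : Set X) ≤ Subgroup.normalizer (J : Set X) := by
      intro g hg
      refine Subgroup.mem_normalizer_fintype ?_
      intro j hj
      suffices J.map (MulAut.conj g).toMonoidHom ≤ J from this ⟨j, hj, rfl⟩
      rw [hJfam, Subgroup.map_le_iff_le_comap]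
      refine sSup_le fun A hA => ?_
      rw [← Subgroup.map_le_iff_le_comap]
      refine le_sSup ⟨?_, H11.isMulCommutative_map hA.2.1 _, fun B hB hBc =>
        (hA.2.2 B hB hBc).trans (Subgroup.card_map_of_injective (MulAut.conj g).injective).ge⟩
      have hAY : A ≤ (T : Subgroup X) ⊓ Y := le_inf hA.1 ((hJfam ▸ le_sSup hA : A ≤ J).trans hJY)
      rintro _ ⟨a, ha, rfl⟩
      exact (hPT ▸ SFree.conj_mem hg (hPT ▸ hAY ha) : g * a * g⁻¹ ∈ (T : Subgroup X) ⊓ Y).1
    rw [eq_top_iff, ← Sylow.normalizer_sup_eq_top P]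
    exact sup_le (hNJ.trans le_sup_right) (le_sup_right.trans le_sup_left)
  · by_cases hYC : Y ≤ Subgroup.centralizer (V : Set X)
    · exact Or.inl (hCdef ▸ hYC)
    refine Or.inr ?_
    have hH1 : Y.map f ≠ ⊥ := fun h => hYC (((Subgroup.map_eq_bot_iff Y).mp h).trans hker.le)
    obtain ⟨-, hE, hind, hsup, -, -⟩ := Cfsg.Agent.S0617.result (H10.modelV W) (Y.map f)
      hff.hV hff.hHV hff.hf hff.hS1 hgen hH1
    set ι := {E : Subgroup (H10.Model W) // ∃ A : Subgroup (H10.Model W), A ≤ Y.map f ∧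
      IsBestOffenderOn 2 (H10.modelV W) A ∧ ⁅H10.modelV W, A⁆ ≠ ⊥ ∧
      (∀ B : Subgroup (H10.Model W), B ≤ A → IsBestOffenderOn 2 (H10.modelV W) B →
        ⁅H10.modelV W, B⁆ ≠ ⊥ → B = A) ∧
      E = ⁅((pPrimeCore 2 ↥(Y.map f)).map (Y.map f).subtype), A⁆ ⊔ A}
    haveI : Fintype ι := Fintype.ofFinite ι
    have hEle : ∀ E : ι, (E : Subgroup (H10.Model W)) ≤ Y.map f := fun E =>
      (le_iSup (fun E : ι => (E : Subgroup (H10.Model W))) E).trans_eq hsup
    have hcomm : Pairwise fun i j : ι => ∀ x y : H10.Model W,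
        x ∈ (i : Subgroup (H10.Model W)) → y ∈ (j : Subgroup (H10.Model W)) → Commute x y := by
      intro i j hij x y hx hy
      have hd : Disjoint (i : Subgroup (H10.Model W)) (j : Subgroup (H10.Model W)) :=
        hind.pairwiseDisjoint hij
      have h1 : x * y * x⁻¹ * y⁻¹ ∈ (i : Subgroup (H10.Model W)) ⊓ (j : Subgroup (H10.Model W)) :=
        ⟨by have := Subgroup.mul_mem _ hx (SFree.conj_mem ((hE i).1 (hEle j hy)) (Subgroup.inv_mem _ hx))
            simpa [mul_assoc] using this,
         Subgroup.mul_mem _ (SFree.conj_mem ((hE j).1 (hEle i hx)) hy) (Subgroup.inv_mem _ hy)⟩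
      rw [hd.eq_bot, Subgroup.mem_bot] at h1
      exact mul_inv_eq_iff_eq_mul.mp (mul_inv_eq_one.mp h1)
    have hrange := Subgroup.noncommPiCoprod_range (hcomm := hcomm)
    have hinj := Subgroup.injective_noncommPiCoprod_of_iSupIndep (hcomm := hcomm) hind
    obtain ⟨e3⟩ := sl_two_equiv_perm
    let e1 : (∀ i : ι, ↥(i : Subgroup (H10.Model W))) ≃* ↥(Y.map f) :=
      (MonoidHom.ofInjective hinj).trans (MulEquiv.subgroupCongr (hrange.trans hsup))
    let e2 : (∀ i : ι, ↥(i : Subgroup (H10.Model W))) ≃* (ι → Equiv.Perm (Fin 3)) :=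
      MulEquiv.piCongrRight fun i => (Classical.choice (hE i).2.1).trans e3
    have hn1 : 1 ≤ Fintype.card ι := by
      rw [Nat.one_le_iff_ne_zero]
      intro h0
      haveI := Fintype.card_eq_zero_iff.mp h0
      exact hH1 (hsup.symm.trans (iSup_of_empty _))
    refine ⟨Fintype.card ι, hn1, ⟨?_⟩⟩
    have hk : (f.subgroupMap Y).ker =
        ((Subgroup.centralizer (Z : Set X)).normalCore).subgroupOf Y := by
      rw [← hCdef, ← hker]
      ext x
      rw [MonoidHom.mem_ker, Subgroup.mem_subgroupOf, MonoidHom.mem_ker]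
      exact ⟨fun h => congrArg Subtype.val h, fun h => Subtype.ext h⟩
    exact ((QuotientGroup.quotientMulEquivOfEq hk.symm).trans
      (QuotientGroup.quotientKerEquivOfSurjective _ (f.subgroupMap_surjective Y))).trans
      (e1.symm.trans (e2.trans (MulEquiv.arrowCongr (Fintype.equivFin ι) (MulEquiv.refl _))))

end Cfsg.Agent.H9.STS
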