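import Cfsg.Agent.CompLayer
import Cfsg.Agent.CompPComp
import Cfsg.Agent.H69.Standard
import Cfsg.Agent.H85.LBalanceTwo
import Cfsg.Agent.H16.OddOrder

/-!
# Standard subgroups in groups with trivial core
-/

set_option autoImplicit false
set_option linter.unusedSectionVars false

open Cfsg Subgroup
open scoped commutatorElement

namespace Cfsg.Agent.H9

universe u

variable {G : Type u} [Group G] [Finite G]

theorem even_card_of_qs {X : Type u} [Group X] [Finite X] (h : IsQuasisimple X) :
    Even (Nat.card X) := by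
  by_contra hc
  exact Comp.not_isSolvable_of_quasisimple h (H16.FT.oddOrder (Nat.not_even_iff_odd.1 hc))

theorem exists_involution_of_qs {X : Subgroup G} (h : IsQuasisimple X) :
    ∃ y ∈ X, orderOf y = 2 := by
  have : Fact (Nat.Prime 2) := ⟨Nat.prime_two⟩
  obtain ⟨y, hy⟩ := exists_prime_orderOf_dvd_card' (G := X) 2
    (even_iff_two_dvd.1 (even_card_of_qs h))
  exact ⟨y, y.2, by rwa [Subgroup.orderOf_coe]⟩

theorem oddCore_eq_pPrimeCore : oddCore G = pPrimeCore 2 G := rfl

theorem component_le_pLayer_two {L : Subgroup G} (hL : IsComponent L) : L ≤ pLayer 2 G := by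
  have : Fact (Nat.Prime 2) := ⟨Nat.prime_two⟩
  set π := QuotientGroup.mk' (pPrimeCore 2 G) with hπ
  have hne : L.map π ≠ ⊥ := by
    intro h
    rw [Subgroup.map_eq_bot_iff, hπ, QuotientGroup.ker_mk'] at h
    obtain ⟨y, hy, hy2⟩ := exists_involution_of_qs hL.2
    have h2 := Subgroup.orderOf_dvd_natCard _ (h hy)
    rw [hy2] at h2
    exact Comp.not_dvd_card_pPrimeCore 2 h2
  refine le_sSup ⟨hL.1, Comp.isComponent_map_of_ne_bot (QuotientGroup.mk'_surjective _) hL hne, ?_⟩
  intro H hH hHL heq
  rcases Comp.subnormal_eq_top_or_le_center hL.2 (hH.subgroupOf (K := L)) with h1 | h1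
  · exact le_antisymm hHL (Subgroup.subgroupOf_eq_top.1 h1)
  · exfalso
    apply hne
    have hc : IsMulCommutative H := ⟨⟨fun a b => Subtype.ext (congrArg Subtype.val
      (Subgroup.mem_center_iff.1 (h1 (show (⟨b, hHL b.2⟩ : L) ∈ H.subgroupOf L from b.2))
        ⟨a, hHL a.2⟩) :)⟩⟩
    have h2 : ⁅L.map π, L.map π⁆ = L.map π := by
      rw [← Subgroup.map_commutator, Comp.isComponent_perfect hL]
    rw [← h2, ← heq, ← Subgroup.map_commutator,
      Subgroup.commutator_eq_bot_iff_le_centralizer.2 (Subgroup.le_centralizer_iff_isMulCommutative.2 hc),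
      Subgroup.map_bot]

theorem pLayer_two_le_layer (hO : oddCore G = ⊥) : pLayer 2 G ≤ layer G := by
  have : Fact (Nat.Prime 2) := ⟨Nat.prime_two⟩
  rw [oddCore_eq_pPrimeCore] at hO
  refine sSup_le fun K hK => Comp.le_layer ⟨hK.1, ?_⟩
  have hinj : Function.Injective (QuotientGroup.mk' (pPrimeCore 2 G)) := by
    rw [← MonoidHom.ker_eq_bot_iff, QuotientGroup.ker_mk', hO]
  exact Comp.isQuasisimple_of_equiv
    (K.equivMapOfInjective _ hinj).symm hK.2.1.2

theorem standard_mem_centralizer {A : Subgroup G} (hA : IsStandardSubgroup A) {t : G}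
    (htA : t ∈ centralizer (A : Set G)) : A ≤ centralizer ({t} : Set G) := fun a ha =>
  mem_centralizer_singleton_iff.2 (mem_centralizer_iff.1 htA a ha)

/-- With trivial core a standard subgroup lies in the layer. -/
theorem standard_le_layer {A : Subgroup G} (hA : IsStandardSubgroup A) (hO : oddCore G = ⊥) {t : G}
    (ht : orderOf t = 2) (htA : t ∈ centralizer (A : Set G)) : A ≤ layer G := by
  have hAC := standard_mem_centralizer hA htA
  have hCN := H69.standard_centralizer_le hA ht htA
  have hcomp : IsComponent (A.subgroupOf (centralizer ({t} : Set G))) :=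
    ⟨(Subgroup.normal_subgroupOf_of_le_normalizer hCN).isSubnormal,
      Comp.isQuasisimple_of_equiv (Subgroup.subgroupOfEquivOfLe hAC).symm hA.1⟩
  have hT : IsPGroup 2 (zpowers t) := IsPGroup.of_card (n := 1) (by rw [Nat.card_zpowers, ht, pow_one])
  have hbal := H85.LBal.pLayer_centralizer_le (zpowers t) hT
  have hCeq : centralizer ((zpowers t : Subgroup G) : Set G) = centralizer ({t} : Set G) := by
    rw [zpowers_eq_closure, centralizer_closure]
  rw [hCeq] at hbal
  refine le_trans ?_ (hbal.trans (pLayer_two_le_layer hO))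
  have := Subgroup.map_mono (f := (centralizer ({t} : Set G)).subtype) (component_le_pLayer_two hcomp)
  rwa [Subgroup.map_subgroupOf_eq_of_le hAC] at this

/-- A standard subgroup that is a component is normal. -/
theorem standard_component_normal {A : Subgroup G} (hA : IsStandardSubgroup A)
    (hc : IsComponent A) : A.Normal := by
  refine ⟨fun a ha g => ?_⟩
  have he : A.map (MulAut.conj g).toMonoidHom = A := by
    by_contra hne
    refine hA.2.2.1 g hne ?_
    exact (Comp.component_eq_or_commute hc (Comp.isComponent_conj hc g)).resolve_left (Ne.symm hne)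
  have : g * a * g⁻¹ ∈ A.map (MulAut.conj g).toMonoidHom := ⟨a, ha, rfl⟩
  rwa [he] at this

/-- An involution centralising a standard subgroup cannot centralise a component not equal to it
but not centralised by it. -/
theorem not_component_le_centralizer {A X : Subgroup G} (hA : IsStandardSubgroup A)
    (hX : IsComponent X) (hne : A ≠ X) (hAX : A ≤ X) {y : G} (hy : orderOf y = 2)
    (hyA : y ∈ centralizer (A : Set G)) : ¬ X ≤ centralizer ({y} : Set G) := by
  intro hle
  have hn : (A.subgroupOf X).Normal :=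
    Subgroup.normal_subgroupOf_of_le_normalizer (hle.trans (H69.standard_centralizer_le hA hy hyA))
  rcases Comp.subnormal_eq_top_or_le_center hX.2 hn.isSubnormal with h | h
  · exact hne (le_antisymm hAX (Subgroup.subgroupOf_eq_top.1 h))
  · refine Comp.not_isMulCommutative_of_quasisimple hA.1 ⟨⟨fun a b => Subtype.ext ?_⟩⟩
    exact (congrArg Subtype.val
      (Subgroup.mem_center_iff.1 (h (show (⟨b, hAX b.2⟩ : X) ∈ A.subgroupOf X from b.2)) ⟨a, hAX a.2⟩) :)

/-- The commutator of elements fixed modulo central elements is fixed. -/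
theorem fixed_commutator {t x y : G} {M : Subgroup G}
    (hx : x ∈ M) (hy : y ∈ M) (htx : t * x * t⁻¹ ∈ M)
    (hzx : ∀ m ∈ M, Commute (x⁻¹ * (t * x * t⁻¹)) m)
    (hzy : ∀ m ∈ M, Commute (y⁻¹ * (t * y * t⁻¹)) m) :
    t * ⁅x, y⁆ * t⁻¹ = ⁅x, y⁆ := by
  set z := x⁻¹ * (t * x * t⁻¹) with hz
  set w := y⁻¹ * (t * y * t⁻¹) with hw
  have ex : t * x * t⁻¹ = x * z := by rw [hz, mul_inv_cancel_left]
  have ey : t * y * t⁻¹ = y * w := by rw [hw, mul_inv_cancel_left]
  have e0 : t * ⁅x, y⁆ * t⁻¹ = ⁅t * x * t⁻¹, t * y * t⁻¹⁆ := by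
    simp only [commutatorElement_def]; group
  rw [e0, ex, ey, commutatorElement_def, commutatorElement_def]
  have c1 : Commute z y := hzx y hy
  have c2 : Commute w x⁻¹ := hzy _ (inv_mem hx)
  calc x * z * (y * w) * (x * z)⁻¹ * (y * w)⁻¹
      = x * (z * y) * w * z⁻¹ * x⁻¹ * w⁻¹ * y⁻¹ := by group
    _ = x * y * (z * w * z⁻¹) * x⁻¹ * w⁻¹ * y⁻¹ := by rw [c1.eq]; group
    _ = x * y * w * x⁻¹ * w⁻¹ * y⁻¹ := by
      rw [show z * w * z⁻¹ = w by
        have hzM : z ∈ M := mul_mem (inv_mem hx) htx
        have : Commute z w := (hzy _ hzM).symm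
        rw [this.eq, mul_inv_cancel_right]]
    _ = x * y * (w * x⁻¹) * w⁻¹ * y⁻¹ := by group
    _ = x * y * x⁻¹ * y⁻¹ := by rw [c2.eq]; group

theorem layer_le_sup_centralizer {X : Subgroup G} (hX : IsComponent X) :
    layer G ≤ X ⊔ centralizer (X : Set G) :=
  Comp.layer_le_iff.2 fun Y hY => by
    rcases Comp.component_eq_or_commute hY hX with h | h
    · exact h ▸ le_sup_left
    · exact (commutator_eq_bot_iff_le_centralizer.1 h).trans le_sup_right

theorem mem_sup_centralizer {X : Subgroup G} {g : G} (hg : g ∈ X ⊔ centralizer (X : Set G)) :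
    ∃ x ∈ X, ∃ c ∈ centralizer (X : Set G), g = x * c := by
  have hn : centralizer (X : Set G) ≤ normalizer (X : Set G) := centralizer_le_normalizer _
  rw [← SetLike.mem_coe, coe_mul_of_right_le_normalizer_left X _ hn] at hg
  obtain ⟨x, hx, c, hc, rfl⟩ := hg
  exact ⟨x, hx, c, hc, rfl⟩

/-- The conjugate of `X` by `t`. -/
abbrev cjT (t : G) (X : Subgroup G) : Subgroup G := X.map (MulAut.conj t).toMonoidHom

theorem mem_cjT {t : G} {X : Subgroup G} {x : G} (hx : x ∈ X) : t * x * t⁻¹ ∈ cjT t X := ⟨x, hx, rfl⟩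

/-- The two factors of a commutator. -/
theorem commutator_mul_of_commute {x y c d : G} (hcy : Commute c y) (hxd : Commute x d)
    (hcx : Commute c x) (hdy : Commute d y) : ⁅x * c, y * d⁆ = ⁅x, y⁆ * ⁅c, d⁆ := by
  have hcxi : Commute c x⁻¹ := hcx.inv_right
  have hdxi : Commute d x⁻¹ := (hxd.symm).inv_right
  have hcyi : Commute c y⁻¹ := hcy.inv_right
  have hdyi : Commute d y⁻¹ := hdy.inv_right
  have h1 : Commute (c * d * c⁻¹) x⁻¹ := (hcxi.mul_left hdxi).mul_left hcxi.inv_left
  have h2 : Commute (c * d * c⁻¹) y⁻¹ := (hcyi.mul_left hdyi).mul_left hcyi.inv_left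
  rw [commutatorElement_def, commutatorElement_def, commutatorElement_def]
  calc x * c * (y * d) * (x * c)⁻¹ * (y * d)⁻¹
      = x * (c * y) * d * c⁻¹ * x⁻¹ * d⁻¹ * y⁻¹ := by group
    _ = x * y * ((c * d * c⁻¹) * x⁻¹) * d⁻¹ * y⁻¹ := by rw [hcy.eq]; group
    _ = x * y * x⁻¹ * (c * d * c⁻¹) * (d⁻¹ * y⁻¹) := by rw [h1.eq]; group
    _ = x * y * x⁻¹ * ((c * d * c⁻¹) * y⁻¹) * d⁻¹ := by rw [hdyi.inv_left.eq]; group
    _ = x * y * x⁻¹ * y⁻¹ * (c * d * c⁻¹ * d⁻¹) := by rw [h2.eq]; group

/-- Some orbit of components contains the standard subgroup. -/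
theorem exists_orbit {A : Subgroup G} (hA : IsStandardSubgroup A) {t : G} (ht : orderOf t = 2)
    (htA : t ∈ centralizer (A : Set G)) (hAE : A ≤ layer G) :
    ∃ X : Subgroup G, IsComponent X ∧ A ≤ X ⊔ cjT t X := by
  by_contra hcon
  push Not at hcon
  have hAt := standard_mem_centralizer hA htA
  have hCN := H69.standard_centralizer_le hA ht htA
  have hAp : ⁅A, A⁆ = A := H69.qs_perfect hA.1
  apply H69.qs_not_le_and_centralizes hA.1 hAE
  rw [le_centralizer_iff]
  refine Comp.layer_le_iff.2 fun X hX => ?_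
  rw [le_centralizer_iff]
  have hXt : IsComponent (cjT t X) := Comp.isComponent_conj hX t
  set O := X ⊔ cjT t X with hO
  set D := O ⊓ centralizer ({t} : Set G) with hD
  have hAO : A ≤ normalizer (O : Set G) :=
    Comp.sup_le_normalizer (hAE.trans (Comp.layer_le_normalizer_component hX))
      (hAE.trans (Comp.layer_le_normalizer_component hXt))
  -- `D` centralises `A`
  have hDA : A ≤ centralizer (D : Set G) := by
    have hn : (O.subgroupOf A).Normal := Subgroup.normal_subgroupOf_of_le_normalizer hAO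
    have hz : A ⊓ O ≤ centralizer (A : Set G) := by
      rcases Comp.normal_eq_top_or_le_center hA.1 hn with h | h
      · exact absurd (subgroupOf_eq_top.1 h) (hcon X hX)
      · exact fun x hx => mem_centralizer_iff.2 fun y hy => congrArg Subtype.val
          (mem_center_iff.1 (h (show (⟨x, hx.1⟩ : A) ∈ O.subgroupOf A from hx.2)) ⟨y, hy⟩)
    have h1 : ⁅A, D⁆ ≤ A ⊓ O :=
      le_inf (le_normalizer_iff_commutator_le_left.1 (inf_le_right.trans hCN))
        ((commutator_mono le_rfl (inf_le_left : D ≤ O)).trans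
          (le_normalizer_iff_commutator_le_right.1 hAO))
    exact commutator_eq_bot_iff_le_centralizer.1 (Comp.le_centralizer_of_perfect hAp (h1.trans hz))
  have hDc : ∀ d ∈ D, ∀ a ∈ A, Commute d a := fun d hd a ha =>
    mem_centralizer_iff.1 (hDA ha) d hd
  by_cases hXeq : cjT t X = X
  · -- `X` is invariant
    have hdec : ∀ a ∈ A, ∃ x ∈ X, ∃ c ∈ centralizer (X : Set G), a = x * c ∧
        ∀ m ∈ X, Commute (x⁻¹ * (t * x * t⁻¹)) m := by
      intro a ha
      obtain ⟨x, hx, c, hc, rfl⟩ := mem_sup_centralizer (layer_le_sup_centralizer hX (hAE ha))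
      refine ⟨x, hx, c, hc, rfl, fun m hm => ?_⟩
      have hfix : t * (x * c) * t⁻¹ = x * c := by
        rw [← mem_centralizer_singleton_iff.1 (hAt ha), mul_inv_cancel_right]
      have htc : t * c * t⁻¹ ∈ centralizer (X : Set G) := by
        rw [mem_centralizer_iff]
        intro m hm
        rw [SetLike.mem_coe, ← hXeq] at hm
        obtain ⟨m', hm', rfl⟩ := hm
        show t * m' * t⁻¹ * (t * c * t⁻¹) = t * c * t⁻¹ * (t * m' * t⁻¹)
        rw [show t * m' * t⁻¹ * (t * c * t⁻¹) = t * (m' * c) * t⁻¹ by group,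
          mem_centralizer_iff.1 hc m' hm']
        group
      have e : x⁻¹ * (t * x * t⁻¹) = c * (t * c * t⁻¹)⁻¹ := by
        calc x⁻¹ * (t * x * t⁻¹) = x⁻¹ * (t * (x * c) * t⁻¹) * (t * c * t⁻¹)⁻¹ := by group
          _ = c * (t * c * t⁻¹)⁻¹ := by rw [hfix, inv_mul_cancel_left]
      rw [e]
      exact (mem_centralizer_iff.1 (mul_mem hc (inv_mem htc)) m hm).symm
    let S : Subgroup G :=
      { carrier := {a | ∃ d ∈ D, ∃ c ∈ centralizer (X : Set G), a = d * c}
        one_mem' := ⟨1, one_mem _, 1, one_mem _, (one_mul 1).symm⟩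
        mul_mem' := by
          rintro _ _ ⟨d, hd, c, hc, rfl⟩ ⟨d', hd', c', hc', rfl⟩
          refine ⟨d * d', mul_mem hd hd', c * c', mul_mem hc hc', ?_⟩
          have hdX : d' ∈ X := by
            have := (mem_inf.1 hd').1
            rwa [hO, hXeq, sup_idem] at this
          have h2 : d' * c = c * d' := mem_centralizer_iff.1 hc d' hdX
          calc d * c * (d' * c') = d * (c * d') * c' := by group
            _ = d * d' * (c * c') := by rw [← h2]; group
        inv_mem' := by
          rintro _ ⟨d, hd, c, hc, rfl⟩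
          refine ⟨d⁻¹, inv_mem hd, c⁻¹, inv_mem hc, ?_⟩
          have hdX : d ∈ X := by
            have := (mem_inf.1 hd).1
            rwa [hO, hXeq, sup_idem] at this
          have h2 : d * c = c * d := mem_centralizer_iff.1 hc d hdX
          rw [h2, mul_inv_rev] }
    have hAS : A ≤ S := by
      rw [← hAp, commutator_le]
      intro a ha b hb
      obtain ⟨x, hx, c, hc, rfl, hzx⟩ := hdec a ha
      obtain ⟨y, hy, d, hd, rfl, hzy⟩ := hdec b hb
      refine ⟨⁅x, y⁆, ?_, ⁅c, d⁆,
        mul_mem (mul_mem (mul_mem hc hd) (inv_mem hc)) (inv_mem hd), ?_⟩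
      · have hxy : ⁅x, y⁆ ∈ X := mul_mem (mul_mem (mul_mem hx hy) (inv_mem hx)) (inv_mem hy)
        refine ⟨mem_sup_left hxy, mem_centralizer_singleton_iff.2 ?_⟩
        have hf := fixed_commutator (M := X) hx hy (hXeq ▸ mem_cjT hx) hzx hzy
        calc ⁅x, y⁆ * t = (t * ⁅x, y⁆ * t⁻¹) * t := by rw [hf]
          _ = t * ⁅x, y⁆ := inv_mul_cancel_right _ _
      · exact commutator_mul_of_commute (mem_centralizer_iff.1 hc y hy).symm
          (mem_centralizer_iff.1 hd x hx) (mem_centralizer_iff.1 hc x hx).symm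
          (mem_centralizer_iff.1 hd y hy).symm
    rw [← hAp, commutator_le]
    intro a ha b hb
    obtain ⟨d, hd, c, hc, hac⟩ := hAS ha
    obtain ⟨d', hd', c', hc', hbc⟩ := hAS hb
    have hdX : d ∈ X := by
      have := (mem_inf.1 hd).1
      rwa [hO, hXeq, sup_idem] at this
    have hdX' : d' ∈ X := by
      have := (mem_inf.1 hd').1
      rwa [hO, hXeq, sup_idem] at this
    have h1 : Commute d c' := mem_centralizer_iff.1 hc' d hdX
    have h2 : Commute d d' := by
      have h3 : Commute d (b * c'⁻¹) := (hDc d hd b hb).mul_right h1.inv_right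
      rwa [hbc, mul_inv_cancel_right] at h3
    rw [hac, hbc, commutator_mul_of_commute (mem_centralizer_iff.1 hc d' hdX').symm h1
      (mem_centralizer_iff.1 hc d hdX).symm (mem_centralizer_iff.1 hc' d' hdX').symm,
      commutatorElement_eq_one_iff_commute.2 h2, one_mul]
    exact mul_mem (mul_mem (mul_mem hc hc') (inv_mem hc)) (inv_mem hc')
  · -- `X` is moved
    have hcom : ⁅X, cjT t X⁆ = ⊥ :=
      (Comp.component_eq_or_commute hX hXt).resolve_left fun h => hXeq h.symm
    have hnA : A ≤ normalizer (X : Set G) := hAE.trans (Comp.layer_le_normalizer_component hX)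
    have hnA' : A ≤ normalizer (cjT t X : Set G) := hAE.trans (Comp.layer_le_normalizer_component hXt)
    have hti : t⁻¹ = t := inv_eq_of_mul_eq_one_right (by rw [← pow_two, ← ht, pow_orderOf_eq_one])
    have h1 : ⁅A, X⁆ ≤ centralizer (X : Set G) := by
      rw [commutator_le]
      intro a ha x hx
      set y := t * x * t⁻¹ with hy
      have hyX : y ∈ cjT t X := mem_cjT hx
      have hxy : x * y = y * x := Comp.commute_of_commutator_eq_bot hcom hx hyX
      have hdD : x * y ∈ D := by
        refine ⟨mul_mem (mem_sup_left hx) (mem_sup_right hyX), mem_centralizer_singleton_iff.2 ?_⟩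
        have e : t * (x * y) = y * x * t := by
          rw [hy]
          calc t * (x * (t * x * t⁻¹)) = t * x * t * x * t⁻¹ := by group
            _ = t * x * t⁻¹ * x * t := by rw [hti]
        rw [hxy] at e ⊢
        exact e.symm
      have hfix : a * (x * y) * a⁻¹ = x * y := by
        rw [← (hDc _ hdD a ha).eq, mul_inv_cancel_right]
      set xa := a * x * a⁻¹ with hxa
      set ya := a * y * a⁻¹ with hya
      have hxaX : xa ∈ X := (mem_normalizer_iff.1 (hnA ha) x).1 hx
      have hyaX : ya ∈ cjT t X := (mem_normalizer_iff.1 (hnA' ha) y).1 hyX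
      have hp : xa * ya = x * y := by rw [← hfix, hxa, hya]; group
      have e : x⁻¹ * xa = y * ya⁻¹ := by
        calc x⁻¹ * xa = x⁻¹ * (xa * ya) * ya⁻¹ := by group
          _ = y * ya⁻¹ := by rw [hp, inv_mul_cancel_left]
      have hc1 : x⁻¹ * xa ∈ centralizer (X : Set G) := by
        rw [e, mem_centralizer_iff]
        exact fun m hm => Comp.commute_of_commutator_eq_bot hcom hm (mul_mem hyX (inv_mem hyaX))
      have hc2 : ⁅a, x⁆ = x⁻¹ * xa := by
        have hm := mem_centralizer_iff.1 hc1 x hx
        rw [mul_inv_cancel_left] at hm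
        rw [commutatorElement_def, ← hxa]
        calc xa * x⁻¹ = (x⁻¹ * xa * x) * x⁻¹ := by rw [← hm]
          _ = x⁻¹ * xa := mul_inv_cancel_right _ _
      rw [hc2]; exact hc1
    have h2 : ⁅X, X⁆ = X := Comp.isComponent_perfect hX
    have h3 : ⁅X, A⁆ ≤ centralizer (X : Set G) := by rw [commutator_comm]; exact h1
    have h4 : X ≤ centralizer (A : Set G) :=
      commutator_eq_bot_iff_le_centralizer.1 (Comp.le_centralizer_of_perfect h2 h3)
    exact le_centralizer_iff.1 h4

theorem no_other_involution {A X : Subgroup G} (hA : IsStandardSubgroup A) {t : G}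
    (htA : t ∈ centralizer (A : Set G)) (hX : IsComponent X) (hXt : cjT t X ≠ X)
    (hAO : A ≤ X ⊔ cjT t X) {y : G} (hy : orderOf y = 2) (hyA : y ∈ centralizer (A : Set G))
    (hyX : y ∈ centralizer (X : Set G)) (hyXt : y ∈ centralizer (cjT t X : Set G)) : False := by
  have hX' : IsComponent (cjT t X) := Comp.isComponent_conj hX t
  have hXC : X ≤ centralizer ({y} : Set G) := fun x hx =>
    mem_centralizer_singleton_iff.2 (mem_centralizer_iff.1 hyX x hx)
  have hXN : X ≤ normalizer (A : Set G) := hXC.trans (H69.standard_centralizer_le hA hy hyA)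
  have hAX : A ≤ normalizer (X : Set G) :=
    hAO.trans (sup_le (Comp.component_normalizes_component hX hX)
      (Comp.component_normalizes_component hX' hX))
  have htfix : ∀ a ∈ A, t * a * t⁻¹ = a := fun a ha => by
    rw [← mem_centralizer_iff.1 htA a ha, mul_inv_cancel_right]
  have hn : (X.subgroupOf A).Normal := Subgroup.normal_subgroupOf_of_le_normalizer hAX
  rcases Comp.normal_eq_top_or_le_center hA.1 hn with h | h
  · -- `A ≤ X`
    have hle : A ≤ X := subgroupOf_eq_top.1 h
    have hle' : A ≤ cjT t X := fun a ha => htfix a ha ▸ mem_cjT (hle ha)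
    refine H69.qs_not_le_and_centralizes hA.1 hle (hle'.trans ?_)
    exact commutator_eq_bot_iff_le_centralizer.1
      ((Comp.component_eq_or_commute hX' hX).resolve_left hXt)
  · have hz : A ⊓ X ≤ centralizer (A : Set G) := fun x hx => mem_centralizer_iff.2 fun a ha =>
      congrArg Subtype.val (mem_center_iff.1 (h (show (⟨x, hx.1⟩ : A) ∈ X.subgroupOf A from hx.2)) ⟨a, ha⟩)
    have h1 : A ≤ centralizer (X : Set G) := commutator_eq_bot_iff_le_centralizer.1
      (Comp.le_centralizer_of_perfect (H69.qs_perfect hA.1)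
        ((le_inf (le_normalizer_iff_commutator_le_left.1 hXN)
          (le_normalizer_iff_commutator_le_right.1 hAX)).trans hz))
    have h2 : A ≤ centralizer (cjT t X : Set G) := by
      intro a ha
      rw [mem_centralizer_iff]
      rintro _ ⟨x, hx, rfl⟩
      show t * x * t⁻¹ * a = a * (t * x * t⁻¹)
      conv_lhs => rw [← htfix a ha, show t * x * t⁻¹ * (t * a * t⁻¹) = t * (x * a) * t⁻¹ by group,
        mem_centralizer_iff.1 (h1 ha) x hx, show t * (a * x) * t⁻¹ = (t * a * t⁻¹) * (t * x * t⁻¹) by group,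
        htfix a ha]
    refine H69.qs_not_le_and_centralizes hA.1 hAO ?_
    rw [le_centralizer_iff]
    exact sup_le (le_centralizer_iff.1 h1) (le_centralizer_iff.1 h2)

/-- The trichotomy. -/
theorem standard_trichotomy {A : Subgroup G} (hA : IsStandardSubgroup A) (hO : oddCore G = ⊥)
    {t : G} (ht : orderOf t = 2) (htA : t ∈ centralizer (A : Set G)) :
    A.Normal ∨ (∃ X : Subgroup G, IsSimpleGroup ↥X ∧ ¬ IsMulCommutative ↥X ∧ Nonempty (↥X ≃* ↥A) ∧
      (∀ a ∈ X, ∀ b ∈ X.map (MulAut.conj t).toMonoidHom, a * b = b * a) ∧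
      X ⊓ X.map (MulAut.conj t).toMonoidHom = ⊥ ∧ X ⊔ X.map (MulAut.conj t).toMonoidHom = layer G ∧
      centralizer (A : Set G) = zpowers t) ∨
    (A ≤ layer G ∧ IsSimpleGroup ↥(layer G) ∧ ¬ IsMulCommutative ↥(layer G)) := by
  by_cases hAc : IsComponent A
  · exact Or.inl (standard_component_normal hA hAc)
  right
  have hAE := standard_le_layer hA hO ht htA
  obtain ⟨X, hX, hAX⟩ := exists_orbit hA ht htA hAE
  have hXt' : IsComponent (cjT t X) := Comp.isComponent_conj hX t
  have hAt := standard_mem_centralizer hA htA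
  have hsimple : ∀ Y : Subgroup G, IsComponent Y → Subgroup.center Y = ⊥ →
      IsSimpleGroup Y ∧ ¬ IsMulCommutative Y := by
    intro Y hY hc
    have hs := hY.2.2
    refine ⟨?_, Comp.not_isMulCommutative_of_quasisimple hY.2⟩
    have := hs
    let e := (QuotientGroup.quotientMulEquivOfEq hc).trans (QuotientGroup.quotientBot (G := Y))
    have : Nontrivial Y := e.symm.toEquiv.nontrivial
    exact IsSimpleGroup.isSimpleGroup_of_surjective e.toMonoidHom e.surjective
  have hnormal_bot : ∀ N : Subgroup G, N.Normal → (∀ y ∈ N, orderOf y = 2 → False) → N = ⊥ := by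
    intro N hN hno
    have : Fact (Nat.Prime 2) := ⟨Nat.prime_two⟩
    rw [eq_bot_iff, ← hO, oddCore_eq_pPrimeCore]
    refine Comp.le_pPrimeCore hN ?_
    rw [Nat.coprime_comm, Nat.prime_two.coprime_iff_not_dvd]
    intro hd
    obtain ⟨y, hy⟩ := exists_prime_orderOf_dvd_card' (G := N) 2 hd
    exact hno y y.2 (by rwa [Subgroup.orderOf_coe])
  have hEn : (layer G).Normal := inferInstance
  by_cases hXeq : cjT t X = X
  · right
    rw [hXeq, sup_idem] at hAX
    have hne : A ≠ X := fun h => hAc (h ▸ hX)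
    have huniq : ∀ Y, IsComponent Y → Y = X := by
      intro Y hY
      by_contra hYX
      obtain ⟨y, hyY, hy⟩ := exists_involution_of_qs hY.2
      have hyX : y ∈ centralizer (X : Set G) := commutator_eq_bot_iff_le_centralizer.1
        ((Comp.component_eq_or_commute hY hX).resolve_left hYX) hyY
      exact not_component_le_centralizer hA hX hne hAX hy (centralizer_le hAX hyX)
        (fun x hx => mem_centralizer_singleton_iff.2 (mem_centralizer_iff.1 hyX x hx))
    have hE : layer G = X :=
      le_antisymm (Comp.layer_le_iff.2 fun Y hY => (huniq Y hY).le) (Comp.le_layer hX)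
    rw [hE]
    refine ⟨hAX, hsimple X hX ?_⟩
    have hn : ((Subgroup.center X).map X.subtype).Normal := by
      rw [hE] at hEn
      exact inferInstance
    have hb := hnormal_bot _ hn (by
      rintro y ⟨⟨y, hyX⟩, hyc, rfl⟩ hy
      refine not_component_le_centralizer hA hX hne hAX hy ?_ ?_
      · exact mem_centralizer_iff.2 fun a ha =>
          congrArg Subtype.val (mem_center_iff.1 hyc ⟨a, hAX ha⟩)
      · exact fun x hx => mem_centralizer_singleton_iff.2
          (congrArg Subtype.val (mem_center_iff.1 hyc ⟨x, hx⟩)))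
    rwa [Subgroup.map_eq_bot_iff_of_injective _ X.subtype_injective] at hb
  · left
    have hcom : ⁅X, cjT t X⁆ = ⊥ :=
      (Comp.component_eq_or_commute hX hXt').resolve_left fun h => hXeq h.symm
    have hcomm : ∀ a ∈ X, ∀ b ∈ cjT t X, a * b = b * a := fun a ha b hb =>
      Comp.commute_of_commutator_eq_bot hcom ha hb
    have hcA : centralizer ((X ⊔ cjT t X : Subgroup G) : Set G) ≤ centralizer (A : Set G) :=
      centralizer_le hAX
    have hkill : ∀ y, orderOf y = 2 → y ∈ centralizer (X : Set G) → y ∈ centralizer (cjT t X : Set G) →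
        False := fun y hy h1 h2 =>
      no_other_involution hA htA hX hXeq hAX hy
        (hcA (by
          have : zpowers y ≤ centralizer ((X ⊔ cjT t X : Subgroup G) : Set G) := by
            rw [le_centralizer_iff]
            exact sup_le (le_centralizer_iff.1 (zpowers_le.2 h1)) (le_centralizer_iff.1 (zpowers_le.2 h2))
          exact this (mem_zpowers y))) h1 h2
    have huniq : ∀ Y, IsComponent Y → Y = X ∨ Y = cjT t X := by
      intro Y hY
      by_contra hne
      push Not at hne
      obtain ⟨y, hyY, hy⟩ := exists_involution_of_qs hY.2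
      exact hkill y hy
        (commutator_eq_bot_iff_le_centralizer.1
          ((Comp.component_eq_or_commute hY hX).resolve_left hne.1) hyY)
        (commutator_eq_bot_iff_le_centralizer.1
          ((Comp.component_eq_or_commute hY hXt').resolve_left hne.2) hyY)
    have hE : X ⊔ cjT t X = layer G :=
      le_antisymm (sup_le (Comp.le_layer hX) (Comp.le_layer hXt'))
        (Comp.layer_le_iff.2 fun Y hY => by
          rcases huniq Y hY with rfl | rfl
          · exact le_sup_left
          · exact le_sup_right)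
    set C := centralizer (layer G : Set G) with hC
    have hCn : C.Normal := Subgroup.normal_centralizer
    have hC1 : C = ⊥ := hnormal_bot C hCn fun y hyC hy =>
      hkill y hy (centralizer_le (Comp.le_layer hX) hyC) (centralizer_le (Comp.le_layer hXt') hyC)
    have hZX : Subgroup.center X = ⊥ := by
      rw [← Subgroup.map_eq_bot_iff_of_injective _ X.subtype_injective, eq_bot_iff, ← hC1, hC, ← hE,
        le_centralizer_iff]
      refine sup_le ?_ ?_ <;> rw [le_centralizer_iff]
      · rintro _ ⟨z, hz, rfl⟩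
        exact mem_centralizer_iff.2 fun x hx => congrArg Subtype.val (mem_center_iff.1 hz ⟨x, hx⟩)
      · rintro _ ⟨z, hz, rfl⟩
        exact mem_centralizer_iff.2 fun b hb => (hcomm z z.2 b hb).symm
    have hint : X ⊓ cjT t X = ⊥ := by
      rw [eq_bot_iff]
      intro z hz
      have : (⟨z, hz.1⟩ : X) ∈ Subgroup.center X :=
        mem_center_iff.2 fun x => Subtype.ext (hcomm x x.2 z hz.2)
      rw [hZX, mem_bot] at this
      exact mem_bot.2 (congrArg Subtype.val this)
    have huq : ∀ a ∈ X, ∀ a' ∈ X, ∀ b ∈ cjT t X, ∀ b' ∈ cjT t X, a * b = a' * b' → a = a' ∧ b = b' := by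
      intro a ha a' ha' b hb b' hb' h
      have e : a'⁻¹ * a = b' * b⁻¹ := by
        calc a'⁻¹ * a = a'⁻¹ * (a * b) * b⁻¹ := by group
          _ = b' * b⁻¹ := by rw [h, inv_mul_cancel_left]
      have : a'⁻¹ * a ∈ X ⊓ cjT t X :=
        mem_inf.2 ⟨mul_mem (inv_mem ha') ha, by rw [e]; exact mul_mem hb' (inv_mem hb)⟩
      rw [hint, mem_bot, inv_mul_eq_one] at this
      refine ⟨this.symm, ?_⟩
      rw [this] at h
      exact mul_left_cancel h
    have ht2 : t * t = 1 := by rw [← pow_two, ← ht, pow_orderOf_eq_one]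
    have hti : t⁻¹ = t := inv_eq_of_mul_eq_one_right ht2
    have htt : ∀ x : G, t * (t * x * t⁻¹) * t⁻¹ = x := fun x => by
      calc t * (t * x * t⁻¹) * t⁻¹ = (t * t) * x * (t⁻¹ * t⁻¹) := by group
        _ = x := by rw [hti, ht2, one_mul, mul_one]
    let δ : X →* G := MonoidHom.mk' (fun x => (x : G) * (t * x * t⁻¹)) fun x y => by
      show ((x * y : X) : G) * (t * ((x * y : X) : G) * t⁻¹) = _
      push_cast
      calc (x : G) * y * (t * ((x : G) * y) * t⁻¹)
          = (x : G) * ((y : G) * (t * x * t⁻¹)) * (t * y * t⁻¹) := by group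
        _ = (x : G) * (t * x * t⁻¹) * ((y : G) * (t * y * t⁻¹)) := by
          rw [hcomm y y.2 _ (mem_cjT x.2)]; group
    have hδinj : Function.Injective δ := fun x y h =>
      Subtype.ext (huq x x.2 y y.2 _ (mem_cjT x.2) _ (mem_cjT y.2) h).1
    have hδfix : ∀ x, δ x ∈ centralizer ({t} : Set G) := fun x => by
      rw [mem_centralizer_singleton_iff]
      show (x : G) * (t * x * t⁻¹) * t = t * ((x : G) * (t * x * t⁻¹))
      rw [hcomm x x.2 _ (mem_cjT x.2)]
      calc t * (x : G) * t⁻¹ * x * t = t * (x * (t * x * t)) := by rw [hti]; group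
        _ = t * (x * (t * x * t⁻¹)) := by rw [hti]
        _ = t * (t * x * t⁻¹ * x) := by rw [hcomm x x.2 _ (mem_cjT x.2)]
    have hAδ : A ≤ δ.range := by
      intro a ha
      have hnX : cjT t X ≤ normalizer (X : Set G) := Comp.component_normalizes_component hXt' hX
      have ha' : a ∈ ((X ⊔ cjT t X : Subgroup G) : Set G) := hAX ha
      rw [coe_mul_of_right_le_normalizer_left X _ hnX] at ha'
      obtain ⟨x, hx, y, hy, rfl⟩ := ha'
      obtain ⟨x', hx', hyx⟩ := hy
      refine ⟨⟨x, hx⟩, ?_⟩
      have hfix : t * (x * y) * t⁻¹ = x * y := by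
        rw [← mem_centralizer_singleton_iff.1 (hAt ha), mul_inv_cancel_right]
      have hyx' : t * x' * t⁻¹ = y := hyx
      have e1 : t * y * t⁻¹ = x' := by rw [← hyx', htt]
      have e2 : t * (x * y) * t⁻¹ = x' * (t * x * t⁻¹) := by
        rw [show t * (x * y) * t⁻¹ = (t * x * t⁻¹) * (t * y * t⁻¹) by group, e1,
          hcomm x' hx' _ (mem_cjT hx)]
      rw [e2] at hfix
      have := (huq x' hx' x hx _ (mem_cjT hx) y (hyx' ▸ mem_cjT hx') hfix).2
      show x * (t * x * t⁻¹) = x * y
      rw [this]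
    have hδN : δ.range ≤ normalizer (A : Set G) := by
      rintro _ ⟨x, rfl⟩
      exact H69.standard_centralizer_le hA ht htA (hδfix x)
    have hsX := (hsimple X hX hZX)
    have hAeq : A = δ.range := by
      refine le_antisymm hAδ ?_
      have := hsX.1
      have hn : (A.comap δ).Normal := ⟨fun a ha x => by
        show δ (x * a * x⁻¹) ∈ A
        rw [map_mul, map_mul, map_inv]
        exact (mem_normalizer_iff.1 (hδN ⟨x, rfl⟩) (δ a)).1 ha⟩
      rcases hn.eq_bot_or_eq_top with h | h
      · exfalso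
        refine Comp.not_isMulCommutative_of_quasisimple hA.1 ⟨⟨fun a b => ?_⟩⟩
        obtain ⟨x, hx⟩ := hAδ a.2
        have : x ∈ A.comap δ := by show δ x ∈ A; rw [hx]; exact a.2
        rw [h, mem_bot] at this
        rw [this, map_one] at hx
        apply Subtype.ext
        show (a : G) * b = b * a
        rw [← hx, one_mul, mul_one]
      · rintro _ ⟨x, rfl⟩
        exact (h ▸ mem_top x : x ∈ A.comap δ)
    refine ⟨X, hsX.1, hsX.2, ⟨(MonoidHom.ofInjective hδinj).trans (MulEquiv.subgroupCongr hAeq.symm)⟩,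
      hcomm, hint, hE, ?_⟩
    refine le_antisymm (fun c hc => ?_) (zpowers_le.2 htA)
    -- an element fixing `X` and centralising `A` is trivial
    have hfixone : ∀ c ∈ centralizer (A : Set G), cjT c X = X → c = 1 := by
      intro c hc hcX
      have hcXt : cjT c (cjT t X) = cjT t X := by
        rcases huniq _ (Comp.isComponent_conj hXt' c) with h | h
        · exfalso
          apply hXeq
          exact Subgroup.map_injective (MulAut.conj c).injective (h.trans hcX.symm)
        · exact h
      have key : ∀ x ∈ X, c * x * c⁻¹ = x ∧ c * (t * x * t⁻¹) * c⁻¹ = t * x * t⁻¹ := by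
        intro x hx
        refine huq _ (hcX ▸ mem_cjT hx) x hx _ (hcXt ▸ mem_cjT (mem_cjT hx)) _ (mem_cjT hx) ?_
        have hmem : x * (t * x * t⁻¹) ∈ A := hAeq.symm ▸ ⟨⟨x, hx⟩, rfl⟩
        calc c * x * c⁻¹ * (c * (t * x * t⁻¹) * c⁻¹) = c * (x * (t * x * t⁻¹)) * c⁻¹ := by group
          _ = x * (t * x * t⁻¹) := by rw [← mem_centralizer_iff.1 hc _ hmem, mul_inv_cancel_right]
      have hcc : c ∈ C := by
        rw [hC, ← hE]
        have : zpowers c ≤ centralizer ((X ⊔ cjT t X : Subgroup G) : Set G) := by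
          rw [le_centralizer_iff]
          refine sup_le ?_ ?_ <;> rw [le_centralizer_iff, zpowers_le, mem_centralizer_iff]
          · exact fun x hx => (mul_inv_eq_iff_eq_mul.1 (key x hx).1).symm
          · rintro _ ⟨x, hx, rfl⟩
            exact (mul_inv_eq_iff_eq_mul.1 (key x hx).2).symm
        exact this (mem_zpowers c)
      rwa [hC1, mem_bot] at hcc
    rcases huniq _ (Comp.isComponent_conj hX c) with h | h
    · rw [hfixone c hc h]; exact one_mem _
    · have h2 : cjT (t * c) X = X := by
        have : cjT (t * c) X = cjT t (cjT c X) := by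
          rw [cjT, cjT, cjT, Subgroup.map_map]
          congr 1
          ext x
          simp [MulAut.conj_apply, mul_assoc]
        rw [this, show cjT c X = cjT t X from h]
        ext x
        constructor
        · rintro ⟨_, ⟨z, hz, rfl⟩, rfl⟩
          show t * (t * z * t⁻¹) * t⁻¹ ∈ X
          rwa [htt]
        · exact fun hx => ⟨_, mem_cjT hx, htt x⟩
      have h3 := hfixone (t * c) (mul_mem htA hc) h2
      rw [eq_inv_of_mul_eq_one_right h3]
      exact inv_mem (mem_zpowers t)

end Cfsg.Agent.H9
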