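import Cfsg.Agent.H85.BrauerSuzuki
import Cfsg.Agent.H10.Basic

/-!
A strongly closed 2-subgroup centralises the core-free subgroups it normalises and meets trivially.
-/

set_option autoImplicit false

namespace Cfsg.Agent.H9

open Subgroup

universe u

/-- The closure hypothesis in a product `A H`. -/
def ClosedIn {G : Type u} [Group G] (A : Subgroup G) : Prop :=
  ∀ P : Subgroup G, IsPGroup 2 P → A ≤ P → ∀ x ∈ A, ∀ g : G, g * x * g⁻¹ ∈ P → g * x * g⁻¹ ∈ A

theorem closed_le_centralizer_aux : ∀ (n : ℕ) (G : Type u) [Group G] [Finite G] (A H : Subgroup G),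
    Nat.card A = n → H.Normal → IsPGroup 2 A → A ⊓ H = ⊥ → Cfsg.oddCore H = ⊥ → A ⊔ H = ⊤ →
    ClosedIn A → A ≤ Subgroup.centralizer (H : Set G) := by
  intro n
  induction n using Nat.strong_induction_on with
  | _ n ih =>
  intro G _ _ A H hn hH hA hAH hO hsup hc
  haveI := hH
  haveI : Fact (Nat.Prime 2) := ⟨Nat.prime_two⟩
  by_cases hbot : A = ⊥
  · exact hbot ▸ bot_le
  haveI := (Subgroup.nontrivial_iff_ne_bot A).mpr hbot
  haveI := hA.center_nontrivial
  have h2 : 2 ∣ Nat.card (Subgroup.center A) := by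
    rcases (hA.to_subgroup (Subgroup.center A)).card_eq_or_dvd with h | h
    · exact absurd h (Finite.one_lt_card (α := Subgroup.center A)).ne'
    · exact h
  obtain ⟨a₀, ha₀⟩ := exists_prime_orderOf_dvd_card' 2 h2
  set a : G := ((a₀ : A) : G) with hadef
  have ha : orderOf a = 2 := by rw [hadef, Subgroup.orderOf_coe, Subgroup.orderOf_coe, ha₀]
  have haA : a ∈ A := (a₀ : A).2
  have hacomm : ∀ y ∈ A, y * a = a * y := fun y hy =>
    congrArg Subtype.val (Subgroup.mem_center_iff.mp a₀.2 ⟨y, hy⟩)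
  obtain ⟨P, hP⟩ := hA.exists_le_sylow
  have hiso : Cfsg.IsIsolatedInvolution a := by
    refine H85.isolated_of_sylow P ha (hP haA) fun g hg => ?_
    have hgA := hc P P.2 hP a haA g hg
    obtain ⟨a₁, ha₁, h, hh, rfl⟩ := Subgroup.mem_sup_of_normal_right.mp
      (hsup.ge (Subgroup.mem_top g))
    have hq : QuotientGroup.mk' H (a₁ * h * a * (a₁ * h)⁻¹) = QuotientGroup.mk' H a := by
      have e1 : QuotientGroup.mk' H h = 1 := (QuotientGroup.eq_one_iff h).mpr hh
      simp only [map_mul, map_inv, e1, mul_one]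
      rw [← map_mul, ← map_inv, ← map_mul, hacomm a₁ ha₁, mul_inv_cancel_right]
    have h1 : (a₁ * h * a * (a₁ * h)⁻¹)⁻¹ * a ∈ A ⊓ H :=
      ⟨A.mul_mem (A.inv_mem hgA) haA, (QuotientGroup.eq).mp hq⟩
    rw [hAH, Subgroup.mem_bot, inv_mul_eq_one] at h1
    exact h1
  have hOG : Cfsg.pPrimeCore 2 G = ⊥ := by
    haveI := H1.pPrimeCore_normal' 2 G
    set N := Cfsg.pPrimeCore 2 G with hN
    have hodd := H1.card_pPrimeCore_coprime 2 G
    have hNH : N ≤ H := by
      intro x hx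
      rw [← QuotientGroup.eq_one_iff]
      have hp : IsPGroup 2 (G ⧸ H) := by
        refine hA.of_surjective ((QuotientGroup.mk' H).comp A.subtype) fun q => ?_
        obtain ⟨g, rfl⟩ := QuotientGroup.mk'_surjective H q
        obtain ⟨a₁, ha₁, h, hh, rfl⟩ := Subgroup.mem_sup_of_normal_right.mp
          (hsup.ge (Subgroup.mem_top g))
        refine ⟨⟨a₁, ha₁⟩, ?_⟩
        rw [map_mul, show QuotientGroup.mk' H h = 1 from (QuotientGroup.eq_one_iff h).mpr hh, mul_one]
        rfl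
      obtain ⟨k, hk⟩ := IsPGroup.iff_orderOf.mp hp (QuotientGroup.mk' H x)
      have hxo : Odd (orderOf x) :=
        H85.odd_orderOf_of_mem_core (hN ▸ hx)
      have := orderOf_map_dvd (QuotientGroup.mk' H) x
      refine orderOf_eq_one_iff.mp ?_
      exact Nat.eq_one_of_dvd_coprimes (Nat.Coprime.pow_right k hxo.coprime_two_right)
        this (hk ▸ dvd_rfl)
    have h1 : N.subgroupOf H ≤ Cfsg.oddCore H := by
      refine H1.le_pPrimeCore ?_
      rwa [Nat.card_congr (Subgroup.subgroupOfEquivOfLe hNH).toEquiv]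
    rw [hO, le_bot_iff, Subgroup.subgroupOf_eq_bot] at h1
    exact h1.eq_bot_of_le hNH
  have hacen : a ∈ Subgroup.center G := by
    refine Subgroup.mem_center_iff.mpr fun g => ?_
    have h1 := H85.zStar hiso g
    rw [hOG, Subgroup.mem_bot] at h1
    exact (mul_inv_eq_iff_eq_mul.mp (mul_inv_eq_one.mp h1)).symm
  haveI := H85.exists_zpowers_normal hacen
  set Z := Subgroup.zpowers a
  have hZA : Z ≤ A := Subgroup.zpowers_le.mpr haA
  set f := QuotientGroup.mk' Z
  have hker : f.ker = Z := QuotientGroup.ker_mk' Z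
  have hfH : ∀ x ∈ H, f x = 1 → x = 1 := fun x hx h1 => by
    have : x ∈ A ⊓ H := ⟨hZA ((QuotientGroup.eq_one_iff x).mp h1), hx⟩
    rwa [hAH, Subgroup.mem_bot] at this
  have hlt : Nat.card (A.map f) < n := by
    rw [← hn]
    refine lt_of_le_of_ne (Nat.le_of_dvd Nat.card_pos (Subgroup.card_map_dvd A f)) fun he => ?_
    have hs : Function.Surjective (f.subgroupMap A) := f.subgroupMap_surjective A
    have hinj := (Nat.bijective_iff_surjective_and_card _).mpr ⟨hs, he.symm⟩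
    have h0 : f.subgroupMap A ⟨a, haA⟩ = f.subgroupMap A 1 :=
      Subtype.ext (((QuotientGroup.eq_one_iff a).mpr (Subgroup.mem_zpowers a)).trans (map_one f).symm)
    have h1 := congrArg Subtype.val (hinj.1 h0)
    simp only [Subgroup.coe_one] at h1
    rw [h1, orderOf_one] at ha
    exact absurd ha (by norm_num)
  have hH' : (H.map f).Normal := hH.map f (QuotientGroup.mk'_surjective Z)
  have hAH' : A.map f ⊓ H.map f = ⊥ := by
    rw [eq_bot_iff]
    rintro _ ⟨⟨a₁, ha₁, rfl⟩, h, hh, he⟩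
    have h1 : h⁻¹ * a₁ ∈ Z := QuotientGroup.eq.mp he
    have h2 : h ∈ A ⊓ H := ⟨by simpa using mul_mem ha₁ (inv_mem (hZA h1)), hh⟩
    rw [hAH, Subgroup.mem_bot] at h2
    rw [Subgroup.mem_bot, ← he, h2, map_one]
  let e : H ≃* H.map f := MulEquiv.ofBijective (f.subgroupMap H)
    ⟨(injective_iff_map_eq_one _).mpr fun x hx =>
      Subtype.ext (hfH x x.2 (congrArg Subtype.val hx)), f.subgroupMap_surjective H⟩
  have hO' : Cfsg.oddCore (H.map f) = ⊥ := by
    show Cfsg.pPrimeCore 2 _ = ⊥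
    rw [← H10.map_pPrimeCore_equiv e, show Cfsg.pPrimeCore 2 H = ⊥ from hO, Subgroup.map_bot]
  have hc' : ClosedIn (A.map f) := by
    intro P' hP' hAP' x' hx' g' hg'
    obtain ⟨x, hx, rfl⟩ := hx'
    obtain ⟨g, rfl⟩ := QuotientGroup.mk'_surjective Z g'
    have hkp : IsPGroup 2 f.ker := by rw [hker]; exact hA.to_le hZA
    rw [← map_inv, ← map_mul, ← map_mul] at hg' ⊢
    exact Subgroup.mem_map_of_mem f (hc (P'.comap f) (hP'.comap_of_ker_isPGroup f hkp)
      (Subgroup.map_le_iff_le_comap.mp hAP') x hx g hg')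
  have hres := ih _ hlt (G ⧸ Z) (A.map f) (H.map f) rfl hH' (hA.map f) hAH' hO'
    (by rw [← Subgroup.map_sup, hsup, Subgroup.map_top_of_surjective f (QuotientGroup.mk'_surjective Z)]) hc'
  intro a₁ ha₁
  refine Subgroup.mem_centralizer_iff.mpr fun h hh => ?_
  have h1 := Subgroup.mem_centralizer_iff.mp (hres ⟨a₁, ha₁, rfl⟩) (f h) ⟨h, hh, rfl⟩
  have h2 : a₁ * h * a₁⁻¹ * h⁻¹ = 1 :=
    hfH _ (mul_mem (hH.conj_mem h hh a₁) (inv_mem hh))
      (by rw [map_mul, map_mul, map_mul, map_inv, map_inv, ← h1, mul_inv_cancel_right, mul_inv_cancel])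
  exact (mul_inv_eq_iff_eq_mul.mp (mul_inv_eq_one.mp h2)).symm

/-- A strongly closed 2-subgroup centralises a core-free subgroup it normalises and meets
trivially. -/
theorem stronglyClosed_le_centralizer {G : Type u} [Group G] [Finite G] (S : Sylow 2 G)
    {A : Subgroup G} (hA : Cfsg.IsStronglyClosed A (S : Subgroup G)) {H : Subgroup G}
    (hAH : A ≤ Subgroup.normalizer (H : Set G)) (hO : Cfsg.oddCore ↥H = ⊥) (hd : A ⊓ H = ⊥) :
    A ≤ Subgroup.centralizer (H : Set G) := by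
  haveI : Fact (Nat.Prime 2) := ⟨Nat.prime_two⟩
  set K := A ⊔ H
  have hAK : A ≤ K := le_sup_left
  have hHK : H ≤ K := le_sup_right
  have hHn : (H.subgroupOf K).Normal :=
    (Subgroup.normal_subgroupOf_iff_le_normalizer hHK).mpr (sup_le hAH Subgroup.le_normalizer)
  have hA2 : IsPGroup 2 A := S.2.to_le hA.1
  have hdisj : A.subgroupOf K ⊓ H.subgroupOf K = ⊥ := by
    rw [eq_bot_iff]
    intro x hx
    have : (x : G) ∈ A ⊓ H := hx
    rw [hd, Subgroup.mem_bot] at this
    exact Subgroup.mem_bot.mpr (Subtype.ext this)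
  have hO' : Cfsg.oddCore (H.subgroupOf K) = ⊥ := by
    show Cfsg.pPrimeCore 2 _ = ⊥
    rw [← H10.map_pPrimeCore_equiv (Subgroup.subgroupOfEquivOfLe hHK).symm,
      show Cfsg.pPrimeCore 2 H = ⊥ from hO, Subgroup.map_bot]
  have hsup : A.subgroupOf K ⊔ H.subgroupOf K = ⊤ := by
    rw [← Subgroup.subgroupOf_sup hAK hHK, Subgroup.subgroupOf_self]
  have hc : ClosedIn (A.subgroupOf K) := by
    intro P hP hAP x hx g hg
    obtain ⟨Q, hQ⟩ := (hP.map K.subtype).exists_le_sylow
    obtain ⟨k, hk⟩ := MulAction.exists_smul_eq G Q S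
    have hmem : ∀ y ∈ (Q : Subgroup G), k * y * k⁻¹ ∈ (S : Subgroup G) := fun y hy => by
      rw [← hk, Sylow.coe_subgroup_smul]
      exact ⟨y, hy, rfl⟩
    have hkA : A.map (MulAut.conj k).toMonoidHom = A := by
      refine Subgroup.eq_of_le_of_card_ge ?_ (Subgroup.card_map_of_injective (MulAut.conj k).injective).ge
      rintro _ ⟨y, hy, rfl⟩
      exact hA.2 y hy k (hmem y (hQ ⟨⟨y, hAK hy⟩, hAP (Subgroup.mem_subgroupOf.mpr hy), rfl⟩))
    have h1 := hA.2 x (Subgroup.mem_subgroupOf.mp hx) (k * g) (by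
      have := hmem _ (hQ ⟨_, hg, rfl⟩)
      simpa [mul_assoc] using this)
    rw [← hkA] at h1
    obtain ⟨y, hy, hyx⟩ := h1
    have e : y = ((g * x * g⁻¹ : K) : G) := (MulAut.conj k).injective (hyx.trans (by
      simp [MulAut.conj_apply, mul_assoc]))
    exact Subgroup.mem_subgroupOf.mpr (e ▸ hy)
  have h := closed_le_centralizer_aux _ K (A.subgroupOf K) (H.subgroupOf K) rfl hHn
    hA2.comap_subtype hdisj hO' hsup hc
  intro a ha
  refine Subgroup.mem_centralizer_iff.mpr fun y hy => ?_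
  exact congrArg Subtype.val (Subgroup.mem_centralizer_iff.mp
    (h (x := (⟨a, hAK ha⟩ : K)) (Subgroup.mem_subgroupOf.mpr ha)) ⟨y, hHK hy⟩
    (Subgroup.mem_subgroupOf.mpr hy))

end Cfsg.Agent.H9
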