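import Mathlib
import Cfsg.Agent.H5.Burnside
import Cfsg.Agent.H6.Transfer

/-!
A Sylow `2`-subgroup `C₂ × D₈` forces a subgroup of index two.
-/

set_option autoImplicit false

namespace Cfsg.Agent.H9.CTwoD

open Subgroup

/-- The abstract group. -/
abbrev M16 := Multiplicative (ZMod 2) × DihedralGroup 4

/-- The central involution outside the commutator subgroup. -/
def cEl : M16 := (Multiplicative.ofAdd 1, DihedralGroup.r 0)

/-- The commutator involution. -/
def zEl : M16 := (1, DihedralGroup.r 2)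

/-- A linear character not vanishing on `cEl`, vanishing on `zEl`. -/
def charVal (a b : ZMod 2) : M16 → Multiplicative (ZMod 2)
  | (k, DihedralGroup.r i) => k * Multiplicative.ofAdd (a * (i.val : ZMod 2))
  | (k, DihedralGroup.sr i) => k * Multiplicative.ofAdd (a * (i.val : ZMod 2) + b)

/-- `charVal` as a homomorphism. -/
def charHom (a b : ZMod 2) : M16 →* Multiplicative (ZMod 2) :=
  MonoidHom.mk' (charVal a b) (by revert a b; decide)

theorem center_mem (x : M16) : x * cEl = cEl * x ∧ x * zEl = zEl * x := by revert x; decide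

theorem sq_eq (x : M16) : x * x = 1 ∨ x * x = zEl := by revert x; decide

theorem involution_cases (x : M16) (h : x * x = 1) :
    x = 1 ∨ x = cEl ∨ x = zEl ∨ x = cEl * zEl ∨
      ∃ (k : Multiplicative (ZMod 2)) (i : ZMod 4), x = (k, DihedralGroup.sr i) := by
  revert x; decide

theorem zEl_eq : zEl = ((1, DihedralGroup.r 1) : M16) * (1, DihedralGroup.r 1) := by decide

theorem zEl_ne_one : zEl ≠ 1 := by decide

theorem zEl_sq : zEl * zEl = 1 := by decide

theorem cz_mul_z : cEl * zEl * zEl = cEl := by decide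

theorem c_ne_z : cEl ≠ zEl := by decide

theorem c_ne_cz : cEl ≠ cEl * zEl := by decide

theorem z_ne_cz : zEl ≠ cEl * zEl := by decide

theorem two_elts (u v : Multiplicative (ZMod 2)) (h : u ≠ 1) : v = 1 ∨ v = u := by revert u v; decide

theorem conj_r (k : Multiplicative (ZMod 2)) (i : ZMod 4) :
    ((1, DihedralGroup.r 1) : M16) * (k, DihedralGroup.sr i) * (1, DihedralGroup.r 1)⁻¹ =
      (k, DihedralGroup.sr (i + 2)) := by revert k i; decide

theorem sr_mul_z : ((1, DihedralGroup.sr 0) : M16) * zEl = (1, DihedralGroup.sr (0 + 2)) := by decide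

theorem char_central (u v : ZMod 2) : charHom u v cEl ≠ 1 ∧ charHom u v (cEl * zEl) ≠ 1 := by
  revert u v; decide

theorem cz_sq : cEl * cEl = 1 ∧ (cEl * zEl) * (cEl * zEl) = 1 := by decide

theorem kernel_cases : ∀ (k : Multiplicative (ZMod 2)) (i : ZMod 4),
    (charHom 0 0 (k, DihedralGroup.sr i) = 1 → k = 1) ∧
    (charHom 0 1 (k, DihedralGroup.sr i) = 1 → k = Multiplicative.ofAdd 1) ∧
    (charHom 1 0 (k, DihedralGroup.sr i) = 1 →
      (k = 1 ∧ (i = 0 ∨ i = 2)) ∨ (k = Multiplicative.ofAdd 1 ∧ (i = 1 ∨ i = 3))) ∧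
    (charHom 1 1 (k, DihedralGroup.sr i) = 1 →
      (k = 1 ∧ (i = 1 ∨ i = 3)) ∨ (k = Multiplicative.ofAdd 1 ∧ (i = 0 ∨ i = 2))) := by decide

theorem covering {A0 A1 A2 A3 B0 B1 B2 B3 : Prop} (a1 : A0 ∨ A1) (a2 : A2 ∨ A3) (a3 : A0 ∨ A3)
    (a4 : A2 ∨ A1) (b1 : B0 ∨ B1) (b2 : B2 ∨ B3) (b3 : B0 ∨ B3) (b4 : B2 ∨ B1)
    (d0 : ¬ (A0 ∧ B0)) (d1 : ¬ (A1 ∧ B1)) (d2 : ¬ (A2 ∧ B2)) (d3 : ¬ (A3 ∧ B3)) :
    (A0 ∨ B0) ∧ (A1 ∨ B1) ∧ (A2 ∨ B2) ∧ (A3 ∨ B3) := by
  by_cases h0 : A0 <;> by_cases h1 : A1 <;> by_cases h2 : A2 <;> by_cases h3 : A3 <;> simp_all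

variable {G : Type*} [Group G] [Finite G] (ι : M16 →* G)

/-- Conjugacy in the ambient group. -/
def Rel (a b : M16) : Prop := ∃ g : G, g * ι a * g⁻¹ = ι b

variable {ι}

theorem Rel.symm {a b : M16} (h : Rel ι a b) : Rel ι b a := by
  obtain ⟨g, hg⟩ := h
  exact ⟨g⁻¹, by rw [← hg]; group⟩

theorem Rel.trans {a b c : M16} (h : Rel ι a b) (h' : Rel ι b c) : Rel ι a c := by
  obtain ⟨g, hg⟩ := h
  obtain ⟨k, hk⟩ := h'
  exact ⟨k * g, by rw [← hk, ← hg]; group⟩

theorem rel_conj (a x : M16) : Rel ι x (a * x * a⁻¹) := ⟨ι a, by simp⟩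

theorem exists_index_two (S : Sylow 2 G) (hι : Function.Injective ι)
    (hS : ι.range = (S : Subgroup G)) : ∃ H : Subgroup G, H.index = 2 := by
  by_contra hno
  haveI : Fact (Nat.Prime 2) := ⟨Nat.prime_two⟩
  have hmem : ∀ a, ι a ∈ (S : Subgroup G) := fun a => hS ▸ ⟨a, rfl⟩
  have hsurj : ∀ s ∈ (S : Subgroup G), ∃ a, ι a = s := fun s hs => by rwa [← hS] at hs
  -- fusion inside the centre
  have hburn : ∀ a b : M16, (a = cEl ∨ a = zEl ∨ a = cEl * zEl) →
      (b = cEl ∨ b = zEl ∨ b = cEl * zEl) → Rel ι a b → a = b := by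
    intro a b ha hb hab
    have hcen : ∀ d : M16, (d = cEl ∨ d = zEl ∨ d = cEl * zEl) → ∀ x : M16, x * d = d * x := by
      rintro d (rfl | rfl | rfl) x
      · exact (center_mem x).1
      · exact (center_mem x).2
      · rw [← mul_assoc, (center_mem x).1, mul_assoc, (center_mem x).2, mul_assoc]
    obtain ⟨g, hg⟩ := hab
    have hca : ∀ d : M16, (d = cEl ∨ d = zEl ∨ d = cEl * zEl) →
        ι d ∈ centralizer ((S : Subgroup G) : Set G) := fun d hd => mem_centralizer_iff.2 fun s hs => by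
      obtain ⟨y, rfl⟩ := hsurj s hs
      rw [← map_mul, ← map_mul, hcen d hd]
    obtain ⟨n, hn, hna⟩ : ∃ n ∈ normalizer ((S : Subgroup G) : Set G), n * ι a * n⁻¹ = ι b := by
      obtain ⟨n, hn, hna⟩ := Sylow.conj_eq_normalizer_conj_of_mem_centralizer S (ι a) g⁻¹ (hca a ha)
        (by rw [inv_inv, hg]; exact hca b hb)
      rw [inv_inv, hg] at hna
      exact ⟨n⁻¹, inv_mem hn, by rw [inv_inv]; exact hna.symm⟩
    have hz : ∀ m ∈ normalizer ((S : Subgroup G) : Set G), m * ι zEl * m⁻¹ = ι zEl := by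
      intro m hm
      let r : M16 := (1, DihedralGroup.r 1)
      obtain ⟨y, hy⟩ := hsurj _ ((mem_normalizer_iff.1 hm _).1 (hmem r))
      have h1 : m * ι zEl * m⁻¹ = ι (y * y) := by
        rw [map_mul, hy, show zEl = r * r from zEl_eq, map_mul]; group
      rcases sq_eq y with h | h
      · rw [h, map_one, conj_eq_one_iff, ← map_one ι] at h1
        exact absurd (hι h1) zEl_ne_one
      · rwa [h] at h1
    have hswap : ∀ m ∈ normalizer ((S : Subgroup G) : Set G),
        m * ι cEl * m⁻¹ ≠ ι (cEl * zEl) := by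
      intro m hm h1
      have h2 : m * ι (cEl * zEl) * m⁻¹ = ι cEl := by
        calc m * ι (cEl * zEl) * m⁻¹ = (m * ι cEl * m⁻¹) * (m * ι zEl * m⁻¹) := by
              rw [map_mul]; group
          _ = ι ((cEl * zEl) * zEl) := by rw [h1, hz m hm, map_mul ι (cEl * zEl) zEl]
          _ = ι cEl := by rw [cz_mul_z]
      obtain ⟨k, o, ho, hko⟩ := Nat.exists_eq_two_pow_mul_odd (orderOf_pos m).ne'
      have hp : ∀ j : ℕ, m ^ (2 * j) * ι cEl * (m ^ (2 * j))⁻¹ = ι cEl := by
        intro j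
        induction j with
        | zero => simp
        | succ j ih =>
          calc m ^ (2 * (j + 1)) * ι cEl * (m ^ (2 * (j + 1)))⁻¹
              = m * (m * (m ^ (2 * j) * ι cEl * (m ^ (2 * j))⁻¹) * m⁻¹) * m⁻¹ := by
                rw [show 2 * (j + 1) = 2 + 2 * j by ring, pow_add, pow_two]; group
            _ = ι cEl := by rw [ih, h1, h2]
      obtain ⟨j, rfl⟩ := ho
      have h3 : m ^ (2 * j + 1) ∈ (S : Subgroup G) := by
        have hw : IsPGroup 2 (zpowers (m ^ (2 * j + 1))) := by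
          refine IsPGroup.of_card (n := k) ?_
          rw [Nat.card_zpowers, orderOf_pow' m (by omega), hko,
            Nat.gcd_eq_right (dvd_mul_left _ _), Nat.mul_div_cancel _ (by omega)]
        have hle : zpowers (m ^ (2 * j + 1)) ≤ normalizer ((S : Subgroup G) : Set G) :=
          zpowers_le.2 (pow_mem hm _)
        have h4 := S.3 (hw.to_sup_of_normal_right' S.2 hle) le_sup_right
        exact h4 ▸ le_sup_left (b := (S : Subgroup G)) (mem_zpowers _)
      have h5 : m ^ (2 * j + 1) * ι cEl * (m ^ (2 * j + 1))⁻¹ = ι cEl := by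
        rw [mem_centralizer_iff.1 (hca cEl (Or.inl rfl)) _ h3]
        group
      rw [pow_succ', show m * m ^ (2 * j) * ι cEl * (m * m ^ (2 * j))⁻¹ =
        m * (m ^ (2 * j) * ι cEl * (m ^ (2 * j))⁻¹) * m⁻¹ by group, hp, h1] at h5
      exact absurd (hι h5) c_ne_cz.symm
    rcases ha with rfl | rfl | rfl <;> rcases hb with rfl | rfl | rfl
    · rfl
    · have := hz n⁻¹ (inv_mem hn)
      rw [← hna] at this
      exact hι (by
        rw [← hna]
        calc ι cEl = n⁻¹ * (n * ι cEl * n⁻¹) * n := by group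
          _ = n⁻¹ * (n * ι cEl * n⁻¹) * n⁻¹⁻¹ := by rw [inv_inv]
          _ = n * ι cEl * n⁻¹ := this)
    · exact absurd hna (hswap n hn)
    · exact hι ((hz n hn).symm.trans hna)
    · rfl
    · exact hι ((hz n hn).symm.trans hna)
    · refine absurd ?_ (hswap n⁻¹ (inv_mem hn))
      rw [← hna]; group
    · have := hz n⁻¹ (inv_mem hn)
      rw [← hna] at this
      exact hι (by
        rw [← hna]
        calc ι (cEl * zEl) = n⁻¹ * (n * ι (cEl * zEl) * n⁻¹) * n := by group
          _ = n⁻¹ * (n * ι (cEl * zEl) * n⁻¹) * n⁻¹⁻¹ := by rw [inv_inv]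
          _ = n * ι (cEl * zEl) * n⁻¹ := this)
    · rfl
  -- transfer
  have hthm : ∀ (χ : M16 →* Multiplicative (ZMod 2)) (x : M16), χ x ≠ 1 → x * x = 1 →
      ∃ y, y * y = 1 ∧ y ≠ 1 ∧ χ y = 1 ∧ Rel ι x y := by
    intro χ x hx hxx
    set Q := χ.ker.map ι with hQ
    have hQP : Q ≤ (S : Subgroup G) := hS ▸ map_le_range ι _
    have hrange : χ.range = ⊤ := by
      rw [eq_top_iff]; intro v _
      rcases two_elts (χ x) v hx with rfl | rfl
      · exact one_mem _
      · exact ⟨x, rfl⟩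
    have hQi : Q.relIndex (S : Subgroup G) = 2 := by
      rw [← hS, MonoidHom.range_eq_map, hQ, relIndex_map_map_of_injective _ _ hι, relIndex_top_right,
        index_ker, hrange, card_top, Nat.card_eq_fintype_card]
      rfl
    have hx1 : x ≠ 1 := fun h => hx (h ▸ map_one χ)
    have hord : orderOf (ι x) = 2 :=
      (orderOf_injective ι hι x).trans (orderOf_eq_prime (by rw [sq, hxx]) hx1)
    rcases H6.thompson_transfer S Q hQP hQi (ι x) hord with ⟨M, -, hM, -⟩ | ⟨g, hg⟩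
    · exact absurd ⟨M, hM⟩ hno
    · obtain ⟨y, hy, hgy⟩ := hg
      refine ⟨y, hι ?_, fun h => hx1 (hι ?_), hy, g, hgy.symm⟩
      · rw [map_mul, hgy, map_one]
        calc g * ι x * g⁻¹ * (g * ι x * g⁻¹) = g * ι (x * x) * g⁻¹ := by rw [map_mul]; group
          _ = 1 := by rw [hxx, map_one]; group
      · rw [h, map_one] at hgy
        rw [map_one]
        exact conj_eq_one_iff.1 hgy.symm
  -- classes of non-central involutions
  have hclass : ∀ (k : Multiplicative (ZMod 2)) (i : ZMod 4),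
      Rel ι (k, DihedralGroup.sr i) (k, DihedralGroup.sr (i + 2)) := by
    intro k i
    have h := rel_conj (ι := ι) ((1, DihedralGroup.r 1) : M16) (k, DihedralGroup.sr i)
    rwa [conj_r] at h
  let P : M16 → Multiplicative (ZMod 2) → ZMod 4 → Prop := fun a k i =>
    Rel ι a (k, DihedralGroup.sr i) ∨ Rel ι a (k, DihedralGroup.sr (i + 2))
  have hpair : ∀ a : M16, (a = cEl ∨ a = cEl * zEl) → ∀ u v : ZMod 2,
      ∃ (k : Multiplicative (ZMod 2)) (i : ZMod 4), charHom u v (k, DihedralGroup.sr i) = 1 ∧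
        Rel ι a (k, DihedralGroup.sr i) := by
    intro a ha u v
    obtain ⟨h3, h4⟩ := char_central u v
    have h1 : charHom u v a ≠ 1 := by rcases ha with rfl | rfl <;> assumption
    have h2 : a * a = 1 := by rcases ha with rfl | rfl; exacts [cz_sq.1, cz_sq.2]
    obtain ⟨y, hyy, hy1, hyχ, hay⟩ := hthm (charHom u v) a h1 h2
    rcases involution_cases y hyy with rfl | rfl | rfl | rfl | ⟨k, i, rfl⟩
    · exact absurd rfl hy1
    · exact absurd hyχ h3
    · exfalso
      rcases ha with rfl | rfl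
      · exact absurd (hburn _ _ (Or.inl rfl) (Or.inr (Or.inl rfl)) hay) c_ne_z
      · exact absurd (hburn _ _ (Or.inr (Or.inr rfl)) (Or.inr (Or.inl rfl)) hay) z_ne_cz.symm
    · exact absurd hyχ h4
    · exact ⟨k, i, hyχ, hay⟩
  have hnot : ∀ x : M16, ¬ (Rel ι cEl x ∧ Rel ι (cEl * zEl) x) := fun x h =>
    absurd (hburn _ _ (Or.inl rfl) (Or.inr (Or.inr rfl)) (h.1.trans h.2.symm)) c_ne_cz
  -- every non-central involution is fused into the centre
  have hcover : ∀ (k : Multiplicative (ZMod 2)) (i : ZMod 4),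
      Rel ι cEl (k, DihedralGroup.sr i) ∨ Rel ι (cEl * zEl) (k, DihedralGroup.sr i) := by
    have hP : ∀ a : M16, (a = cEl ∨ a = cEl * zEl) → ∀ k i, Rel ι a (k, DihedralGroup.sr i) →
        P a k i ∧ P a k (i + 2) := fun a _ k i h => ⟨Or.inl h, Or.inl (h.trans (hclass k i))⟩
    have hfour : ∀ a : M16, (a = cEl ∨ a = cEl * zEl) →
        (P a 1 0 ∨ P a 1 1) ∧ (P a (Multiplicative.ofAdd 1) 0 ∨ P a (Multiplicative.ofAdd 1) 1) ∧
        (P a 1 0 ∨ P a (Multiplicative.ofAdd 1) 1) ∧ (P a (Multiplicative.ofAdd 1) 0 ∨ P a 1 1) := by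
      intro a ha
      have hred : ∀ k i, Rel ι a (k, DihedralGroup.sr i) → P a k 0 ∨ P a k 1 := by
        intro k i h
        fin_cases i
        · exact Or.inl (Or.inl h)
        · exact Or.inr (Or.inl h)
        · exact Or.inl (Or.inr h)
        · exact Or.inr (Or.inr h)
      refine ⟨?_, ?_, ?_, ?_⟩
      · obtain ⟨k, i, h1, h2⟩ := hpair a ha 0 0
        obtain rfl := (kernel_cases k i).1 h1
        exact hred _ i h2
      · obtain ⟨k, i, h1, h2⟩ := hpair a ha 0 1
        obtain rfl := (kernel_cases k i).2.1 h1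
        exact hred _ i h2
      · obtain ⟨k, i, h1, h2⟩ := hpair a ha 1 0
        rcases (kernel_cases k i).2.2.1 h1 with ⟨rfl, rfl | rfl⟩ | ⟨rfl, rfl | rfl⟩
        · exact Or.inl (Or.inl h2)
        · exact Or.inl (Or.inr h2)
        · exact Or.inr (Or.inl h2)
        · exact Or.inr (Or.inr h2)
      · obtain ⟨k, i, h1, h2⟩ := hpair a ha 1 1
        rcases (kernel_cases k i).2.2.2 h1 with ⟨rfl, rfl | rfl⟩ | ⟨rfl, rfl | rfl⟩
        · exact Or.inr (Or.inl h2)
        · exact Or.inr (Or.inr h2)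
        · exact Or.inl (Or.inl h2)
        · exact Or.inl (Or.inr h2)
    have hfull : ∀ a k i, P a k i → Rel ι a (k, DihedralGroup.sr i) := by
      intro a k i h
      rcases h with h | h
      · exact h
      · exact h.trans (hclass k i).symm
    have hdisj : ∀ k i, ¬ (P cEl k i ∧ P (cEl * zEl) k i) := fun k i h =>
      hnot _ ⟨hfull _ _ _ h.1, hfull _ _ _ h.2⟩
    obtain ⟨a1, a2, a3, a4⟩ := hfour cEl (Or.inl rfl)
    obtain ⟨b1, b2, b3, b4⟩ := hfour (cEl * zEl) (Or.inr rfl)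
    obtain ⟨c1, c2, c3, c4⟩ := covering a1 a2 a3 a4 b1 b2 b3 b4 (hdisj 1 0) (hdisj 1 1)
      (hdisj (Multiplicative.ofAdd 1) 0) (hdisj (Multiplicative.ofAdd 1) 1)
    have hall : ∀ k i, (i = 0 ∨ i = 1) → P cEl k i ∨ P (cEl * zEl) k i := by
      intro k i hi
      have hk := two_elts (Multiplicative.ofAdd (1 : ZMod 2)) k (by simp)
      rcases hk with rfl | rfl <;> rcases hi with rfl | rfl <;> assumption
    intro k i
    fin_cases i
    · exact (hall k 0 (Or.inl rfl)).imp (hfull _ _ _) (hfull _ _ _)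
    · exact (hall k 1 (Or.inr rfl)).imp (hfull _ _ _) (hfull _ _ _)
    · exact (hall k 0 (Or.inl rfl)).imp (fun h => (hfull _ _ _ h).trans (hclass k 0))
        (fun h => (hfull _ _ _ h).trans (hclass k 0))
    · exact (hall k 1 (Or.inr rfl)).imp (fun h => (hfull _ _ _ h).trans (hclass k 1))
        (fun h => (hfull _ _ _ h).trans (hclass k 1))
  -- the final contradiction
  have hzonly : ∀ y : M16, y * y = 1 → Rel ι zEl y → y = zEl := by
    intro y hyy hy
    rcases involution_cases y hyy with rfl | rfl | rfl | rfl | ⟨k, i, rfl⟩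
    · obtain ⟨g, hg⟩ := hy
      rw [map_one, conj_eq_one_iff, ← map_one ι] at hg
      exact absurd (hι hg) zEl_ne_one
    · exact absurd (hburn _ _ (Or.inr (Or.inl rfl)) (Or.inl rfl) hy) c_ne_z.symm
    · rfl
    · exact absurd (hburn _ _ (Or.inr (Or.inl rfl)) (Or.inr (Or.inr rfl)) hy) z_ne_cz
    · rcases hcover k i with h | h
      · exact absurd (hburn _ _ (Or.inr (Or.inl rfl)) (Or.inl rfl) (hy.trans h.symm)) c_ne_z.symm
      · exact absurd (hburn _ _ (Or.inr (Or.inl rfl)) (Or.inr (Or.inr rfl)) (hy.trans h.symm))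
          z_ne_cz
  have key : ∀ (e : M16) (s : M16), (e = cEl ∨ e = cEl * zEl) → Rel ι e s →
      Rel ι (s * zEl) s → False := by
    intro e s he hes hzs
    obtain ⟨g, hg⟩ := hes.symm
    let C := centralizer ({ι e} : Set G)
    have hSC : (S : Subgroup G) ≤ C := fun u hu => by
      obtain ⟨y, rfl⟩ := hsurj u hu
      refine mem_centralizer_singleton_iff.2 ?_
      rw [← map_mul, ← map_mul]
      rcases he with rfl | rfl
      · rw [(center_mem y).1]
      · rw [← mul_assoc, (center_mem y).1, mul_assoc, (center_mem y).2, mul_assoc]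
    have hwC : g * ι zEl * g⁻¹ ∈ C := by
      refine mem_centralizer_singleton_iff.2 ?_
      rw [← hg]
      calc g * ι zEl * g⁻¹ * (g * ι s * g⁻¹) = g * ι (zEl * s) * g⁻¹ := by rw [map_mul]; group
        _ = g * ι (s * zEl) * g⁻¹ := by rw [(center_mem s).2]
        _ = g * ι s * g⁻¹ * (g * ι zEl * g⁻¹) := by rw [map_mul]; group
    have hw2 : IsPGroup 2 (zpowers (⟨_, hwC⟩ : C)) := by
      refine IsPGroup.of_card (n := 1) ?_
      rw [Nat.card_zpowers, pow_one, ← Subgroup.orderOf_coe]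
      show orderOf (MulAut.conj g (ι zEl)) = 2
      rw [MulEquiv.orderOf_eq, orderOf_injective ι hι]
      exact orderOf_eq_prime (by rw [sq, zEl_sq]) zEl_ne_one
    obtain ⟨T, hT⟩ := hw2.exists_le_sylow
    obtain ⟨h, hh⟩ := MulAction.exists_smul_eq C T (S.subtype hSC)
    have hwS : (h : G) * (g * ι zEl * g⁻¹) * (h : G)⁻¹ ∈ (S : Subgroup G) := by
      have h1 : h * (⟨_, hwC⟩ : C) * h⁻¹ ∈ ((h • T : Sylow 2 C) : Subgroup C) := by
        rw [Sylow.coe_subgroup_smul]
        exact ⟨⟨_, hwC⟩, hT (mem_zpowers _), by simp⟩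
      rw [hh] at h1
      exact h1
    obtain ⟨y, hy⟩ := hsurj _ hwS
    have hyy : y * y = 1 := hι (by
      rw [map_mul, hy, map_one]
      calc (h : G) * (g * ι zEl * g⁻¹) * (h : G)⁻¹ * ((h : G) * (g * ι zEl * g⁻¹) * (h : G)⁻¹)
          = (h : G) * g * ι (zEl * zEl) * g⁻¹ * (h : G)⁻¹ := by rw [map_mul]; group
        _ = 1 := by rw [zEl_sq, map_one]; group)
    have hyz := hzonly y hyy ⟨(h : G) * g, by rw [hy]; group⟩
    rw [hyz] at hy
    have hrel : Rel ι (s * zEl) (e * zEl) := ⟨(h : G) * g, by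
      rw [map_mul, map_mul]
      conv_rhs => rw [hy]
      have h2 := mem_centralizer_singleton_iff.1 h.2
      calc (h : G) * g * (ι s * ι zEl) * ((h : G) * g)⁻¹
          = ((h : G) * (g * ι s * g⁻¹) * (h : G)⁻¹) *
            ((h : G) * (g * ι zEl * g⁻¹) * (h : G)⁻¹) := by group
        _ = ι e * ((h : G) * (g * ι zEl * g⁻¹) * (h : G)⁻¹) := by
          rw [hg, h2, mul_inv_cancel_right]⟩
    have h3 : Rel ι e (e * zEl) := (hes.trans hzs.symm).trans hrel
    rcases he with rfl | rfl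
    · exact absurd (hburn _ _ (Or.inl rfl) (Or.inr (Or.inr rfl)) h3) c_ne_cz
    · rw [cz_mul_z] at h3
      exact absurd (hburn _ _ (Or.inr (Or.inr rfl)) (Or.inl rfl) h3) c_ne_cz.symm
  have hsz : Rel ι (((1, DihedralGroup.sr 0) : M16) * zEl) (1, DihedralGroup.sr 0) := by
    rw [sr_mul_z]
    exact (hclass 1 0).symm
  rcases hcover 1 0 with h | h
  · exact key _ _ (Or.inl rfl) h hsz
  · exact key _ _ (Or.inr rfl) h hsz

end Cfsg.Agent.H9.CTwoD
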