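import Cfsg.Agent.H9.Connect

set_option autoImplicit false

namespace Cfsg.Agent.H9

universe u

variable {P : Type u} [Group P]

private theorem cjHom_cjHom (g h : P) (A : Subgroup P) :
    (A.map (MulAut.conj h).toMonoidHom).map (MulAut.conj g).toMonoidHom =
      A.map (MulAut.conj (g * h)).toMonoidHom := by
  ext x
  simp [Subgroup.map_map, mul_assoc]

private theorem cj_eq_of_normalizes {g : P} {A : Subgroup P}
    (hg : g ∈ Subgroup.normalizer (A : Set P)) : A.map (MulAut.conj g).toMonoidHom = A := by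
  ext x
  constructor
  · rintro ⟨y, hy, rfl⟩
    exact (Subgroup.mem_normalizer_iff.1 hg y).1 hy
  · intro hx
    refine ⟨g⁻¹ * x * g, (Subgroup.mem_normalizer_iff''.1 hg x).1 hx, ?_⟩
    simp [mul_assoc]

private theorem normal_of_cj_le {A : Subgroup P}
    (h : ∀ g : P, A.map (MulAut.conj g).toMonoidHom ≤ A) : A.Normal :=
  ⟨fun x hx g => h g ⟨x, hx, rfl⟩⟩

/-- A normal subgroup of exponent three, class two and order at least 81 which contains an
elementary abelian subgroup of index at most three yields a normal elementary abelian one. -/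
private theorem normal81_of_small_class_two [Finite P] (hP : IsPGroup 3 P) (W D B1 B2 : Subgroup P)
    [W.Normal] [D.Normal] (hD1 : 3 ≤ Nat.card ↥D) (hDW : ∀ d ∈ D, ∀ w ∈ W, d * w = w * d)
    (hDle : D ≤ B1) (hcomm : ∀ x ∈ W, ∀ y ∈ W, x * y * x⁻¹ * y⁻¹ ∈ D)
    (hexp : ∀ x ∈ W, x ^ 3 = 1) (hB1 : Cfsg.IsElementaryAbelian 3 B1) (hB1W : B1 ≤ W)
    (hB2 : Cfsg.IsElementaryAbelian 3 B2) (hB2W : B2 ≤ W) (hB1c : 3 ^ 4 ≤ Nat.card ↥B1)
    (hB12 : B1 = B2 → B1.Normal) (hcardeq : Nat.card ↥B1 = Nat.card ↥B2) :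
    ∃ B : Subgroup P, B.Normal ∧ Cfsg.IsElementaryAbelian 3 B ∧ 3 ^ 4 ≤ Nat.card ↥B := by
  classical
  haveI : Fact (Nat.Prime 3) := ⟨Nat.prime_three⟩
  obtain ⟨B0, hB0n, hB0W, hB0c, hself⟩ := exists_self_centralizing hP W
  by_cases hbig : 3 ^ 4 ≤ Nat.card ↥B0
  · exact ⟨B0, hB0n, ⟨hB0c, fun a ha => hexp a (hB0W ha)⟩, hbig⟩
  have hDB0 : D ≤ B0 := fun d hd => by
    rw [← hself]
    exact ⟨hB1W (hDle hd),
      Subgroup.mem_centralizer_iff.2 fun b hb => (hDW d hd b (hB0W hb)).symm⟩
  -- `B0` is generated by `D` and two elements, and the map `w ↦ [w, -]` is injective modulo `B0`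
  have hkey : ∀ b ∈ B0, ∀ w ∈ W, w * b * w⁻¹ * b⁻¹ ∈ D := fun b hb w hw => hcomm w hw b (hB0W hb)
  have hWcard : Nat.card ↥W ≤ 3 ^ 5 := by
    have hB0small : Nat.card ↥B0 ≤ 3 ^ 3 := by
      obtain ⟨j, hj⟩ := (hP.to_subgroup B0).exists_card_eq
      rw [hj] at hbig ⊢
      exact Nat.pow_le_pow_right (by norm_num) (by
        by_contra h
        exact hbig (Nat.pow_le_pow_right (by norm_num) (by omega)))
    -- generators
    obtain ⟨S, hSB, hgen, hScard⟩ : ∃ S : Finset P, (∀ b ∈ S, b ∈ B0) ∧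
        B0 ≤ D ⊔ Subgroup.closure (S : Set P) ∧ Nat.card ↥B0 * Nat.card ↥D ^ S.card ≤ 3 ^ 5 := by
      by_cases h0 : B0 ≤ D
      · exact ⟨∅, by simp, h0.trans le_sup_left, by simp only [Finset.card_empty, pow_zero, mul_one]; omega⟩
      obtain ⟨b1, hb1, hb1D⟩ := SetLike.not_le_iff_exists.1 h0
      set D1 := D ⊔ Subgroup.zpowers b1
      have hlt1 : D < D1 := lt_of_le_not_ge le_sup_left fun h =>
        hb1D (h (le_sup_right (α := Subgroup P) (Subgroup.mem_zpowers _)))
      have hD1B : D1 ≤ B0 := sup_le hDB0 (Subgroup.zpowers_le.2 hb1)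
      have hc1 := lt_card_mul hP hlt1
      by_cases h1 : B0 ≤ D1
      · refine ⟨{b1}, by simpa using hb1, ?_, ?_⟩
        · refine h1.trans (le_of_eq ?_)
          rw [Finset.coe_singleton, ← Subgroup.zpowers_eq_closure]
        · rw [Finset.card_singleton, pow_one]
          have := Subgroup.card_le_of_le hD1B
          calc Nat.card ↥B0 * Nat.card ↥D ≤ 3 ^ 3 * 3 ^ 2 := Nat.mul_le_mul hB0small (by omega)
            _ = 3 ^ 5 := by norm_num
      obtain ⟨b2, hb2, hb2D⟩ := SetLike.not_le_iff_exists.1 h1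
      set D2 := D1 ⊔ Subgroup.zpowers b2
      have hlt2 : D1 < D2 := lt_of_le_not_ge le_sup_left fun h =>
        hb2D (h (le_sup_right (α := Subgroup P) (Subgroup.mem_zpowers _)))
      have hD2B : D2 ≤ B0 := sup_le hD1B (Subgroup.zpowers_le.2 hb2)
      have hc2 := lt_card_mul hP hlt2
      have hc3 := Subgroup.card_le_of_le hD2B
      have hD2eq : D2 = B0 := Subgroup.eq_of_le_of_card_ge hD2B (by omega)
      have hD3 : Nat.card ↥D = 3 := by omega
      refine ⟨{b1, b2}, by simp [hb1, hb2], ?_, ?_⟩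
      · rw [← hD2eq]
        refine sup_le (sup_le le_sup_left ?_) ?_ <;> rw [Subgroup.zpowers_le] <;>
          exact le_sup_right (α := Subgroup P) (Subgroup.subset_closure (by simp))
      · rw [hD3]
        calc Nat.card ↥B0 * 3 ^ ({b1, b2} : Finset P).card ≤ 3 ^ 3 * 3 ^ 2 :=
              Nat.mul_le_mul hB0small (Nat.pow_le_pow_right (by norm_num) Finset.card_le_two)
          _ = 3 ^ 5 := by norm_num
    let f : ↥W → ↥B0 × (↥S → ↥D) := fun w =>
      -- a coset representative and the commutators with the generators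
      let w0 : ↥W := Quotient.out (QuotientGroup.mk w : ↥W ⧸ B0.subgroupOf W)
      (⟨(w0 : P)⁻¹ * w, by
          have h := QuotientGroup.eq.1 (Quotient.out_eq (QuotientGroup.mk w : ↥W ⧸ B0.subgroupOf W))
          simpa [Subgroup.mem_subgroupOf] using h⟩,
        fun b => ⟨(w : P) * b * (w : P)⁻¹ * (b : P)⁻¹, hkey b (hSB b b.2) w w.2⟩)
    have hinj : Function.Injective f := by
      intro w v h
      obtain ⟨h1, h2⟩ := Prod.ext_iff.1 h
      -- `v⁻¹ w` centralizes `B0`
      have hc : ((v⁻¹ * w : ↥W) : P) ∈ B0 := by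
        rw [← hself]
        refine ⟨(v⁻¹ * w).2, ?_⟩
        have : B0 ≤ Subgroup.centralizer {((v⁻¹ * w : ↥W) : P)} := by
          refine hgen.trans (sup_le (fun d hd => ?_) ((Subgroup.closure_le _).2 fun b hb => ?_))
          · exact Subgroup.mem_centralizer_singleton_iff.2 (hDW d hd _ (v⁻¹ * w).2)
          · refine Subgroup.mem_centralizer_singleton_iff.2 ?_
            have h3 := congrArg Subtype.val (congrFun h2 ⟨b, hb⟩)
            simp only [f, mul_left_inj] at h3
            rw [Subgroup.coe_mul, Subgroup.coe_inv]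
            calc b * ((v : P)⁻¹ * w) = (v : P)⁻¹ * ((v : P) * b * (v : P)⁻¹) * w := by group
              _ = (v : P)⁻¹ * w * b := by rw [← h3]; group
        exact Subgroup.mem_centralizer_iff.2 fun b hb =>
          Subgroup.mem_centralizer_singleton_iff.1 (this hb)
      have hq : (QuotientGroup.mk v : ↥W ⧸ B0.subgroupOf W) = QuotientGroup.mk w :=
        QuotientGroup.eq.2 (by simpa [Subgroup.mem_subgroupOf] using hc)
      have h1' := congrArg Subtype.val h1
      simp only [f, ← hq] at h1'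
      exact Subtype.ext (mul_left_cancel h1')
    have := Nat.card_le_card_of_injective f hinj
    rw [Nat.card_prod, Nat.card_fun, Nat.card_eq_fintype_card (α := ↥S), Fintype.card_coe] at this
    exact this.trans hScard
  by_cases h12 : B1 = B2
  · exact ⟨B1, hB12 h12, hB1, hB1c⟩
  -- two distinct abelian subgroups of index three
  have hlt : B1 < B1 ⊔ B2 := lt_of_le_not_ge le_sup_left fun h =>
    h12 (Subgroup.eq_of_le_of_card_ge (le_sup_right.trans h) hcardeq.le).symm
  have hWeq : B1 ⊔ B2 = W := by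
    refine Subgroup.eq_of_le_of_card_ge (sup_le hB1W hB2W) (hWcard.trans ?_)
    calc 3 ^ 5 = 3 * 3 ^ 4 := by norm_num
      _ ≤ 3 * Nat.card ↥B1 := Nat.mul_le_mul_left _ hB1c
      _ ≤ _ := lt_card_mul hP hlt
  set Z := W ⊓ Subgroup.centralizer (W : Set P) with hZ
  haveI : (Subgroup.centralizer (W : Set P)).Normal := normal_of_cj_le fun g => by
    rintro _ ⟨a, ha, rfl⟩
    refine Subgroup.mem_centralizer_iff.2 fun b hb => ?_
    have hb' : g⁻¹ * b * g ∈ W := by simpa using (inferInstance : W.Normal).conj_mem b hb g⁻¹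
    show b * (g * a * g⁻¹) = g * a * g⁻¹ * b
    calc b * (g * a * g⁻¹) = g * ((g⁻¹ * b * g) * a) * g⁻¹ := by group
      _ = g * (a * (g⁻¹ * b * g)) * g⁻¹ := by rw [Subgroup.mem_centralizer_iff.1 ha _ hb']
      _ = _ := by group
  haveI : Z.Normal := Subgroup.normal_inf_normal _ _
  have hZge : B1 ⊓ B2 ≤ Z := by
    intro z hz
    refine ⟨hB1W hz.1, Subgroup.mem_centralizer_iff.2 fun w hw => ?_⟩
    have : B1 ⊔ B2 ≤ Subgroup.centralizer {z} := sup_le
      (fun b hb => Subgroup.mem_centralizer_singleton_iff.2 (comm_of hB1.1 b hb z hz.1))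
      (fun b hb => Subgroup.mem_centralizer_singleton_iff.2 (comm_of hB2.1 b hb z hz.2))
    exact Subgroup.mem_centralizer_singleton_iff.1 (this (hWeq.symm ▸ hw))
  have hZbig : 3 ^ 3 ≤ Nat.card ↥Z := by
    refine le_trans ?_ (Subgroup.card_le_of_le hZge)
    have h1 : Nat.card ↥(B1 ⊓ B2 : Subgroup P) * B1.relIndex B2 = Nat.card ↥B2 := by
      rw [Subgroup.relIndex, ← Subgroup.inf_subgroupOf_right,
        ← Nat.card_congr (Subgroup.subgroupOfEquivOfLe (inf_le_right : B1 ⊓ B2 ≤ B2)).toEquiv]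
      exact Subgroup.card_mul_index _
    have h2 : B1.relIndex B2 ≤ B1.relIndex W :=
      Subgroup.relIndex_le_of_le_right hB2W
        (by rw [Subgroup.relIndex]; exact Subgroup.index_ne_zero_of_finite)
    have h3 : Nat.card ↥B1 * B1.relIndex W = Nat.card ↥W := by
      rw [← Nat.card_congr (Subgroup.subgroupOfEquivOfLe hB1W).toEquiv]
      exact Subgroup.card_mul_index _
    have h4 : B1.relIndex W ≤ 3 := by
      have h := (Nat.mul_le_mul_right (B1.relIndex W) hB1c).trans (h3.le.trans hWcard)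
      omega
    have h5 : 3 ^ 4 ≤ Nat.card ↥(B1 ⊓ B2 : Subgroup P) * 3 := by
      rw [hcardeq] at hB1c
      exact hB1c.trans (h1.symm.le.trans (Nat.mul_le_mul_left _ (h2.trans h4)))
    omega
  have hZe : Cfsg.IsElementaryAbelian 3 Z := ⟨isMulCommutative_of fun a ha b hb =>
    Subgroup.mem_centralizer_iff.1 (Subgroup.mem_inf.1 hb).2 a (Subgroup.mem_inf.1 ha).1,
    fun a ha => hexp a (Subgroup.mem_inf.1 ha).1⟩
  by_cases hZ4 : 3 ^ 4 ≤ Nat.card ↥Z
  · exact ⟨Z, inferInstance, hZe, hZ4⟩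
  have hZlt : Z < W := lt_of_le_of_ne inf_le_left fun h =>
    hZ4 (hB1c.trans (Subgroup.card_le_of_le (h.symm ▸ hB1W)))
  obtain ⟨M, hM, hZM, hMW, hMc, x, hx, hxZ, hMx⟩ := exists_normal_succ hP Z W hZlt
  refine ⟨M, hM, ?_, ?_⟩
  · rw [hMx]
    refine elemAb_sup hZe (elemAb_zpowers (hexp x hx)) ?_
    rintro a ha _ ⟨i, rfl⟩
    exact Commute.zpow_right
      (show Commute a x from
        (Subgroup.mem_centralizer_iff.1 (Subgroup.mem_inf.1 ha).2 x hx).symm) i
  · rw [hMc]
    omega

/-- A 3-group with an elementary abelian subgroup of order 81 has a normal one. -/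
theorem exists_normal_elemAb_81 : ∀ (n : ℕ) (P : Type u) [Group P] [Finite P],
    Nat.card P = n → IsPGroup 3 P →
    (∃ A : Subgroup P, Cfsg.IsElementaryAbelian 3 A ∧ 3 ^ 4 ≤ Nat.card ↥A) →
    ∃ B : Subgroup P, B.Normal ∧ Cfsg.IsElementaryAbelian 3 B ∧ 3 ^ 4 ≤ Nat.card ↥B := by
  intro n
  induction n using Nat.strong_induction_on with
  | _ n ih =>
    intro P _ _ hn hP hA
    classical
    haveI : Fact (Nat.Prime 3) := ⟨Nat.prime_three⟩
    obtain ⟨A, hAe, hAc⟩ := hA
    by_cases hAtop : A = ⊤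
    · exact ⟨A, hAtop ▸ inferInstance, hAe, hAc⟩
    obtain ⟨N, ⟨hAN, hNtop⟩, hNmax⟩ :=
      (Set.toFinite {N : Subgroup P | A ≤ N ∧ N ≠ ⊤}).exists_maximal ⟨A, le_rfl, hAtop⟩
    have hNlt : N < ⊤ := lt_top_iff_ne_top.2 hNtop
    haveI : Group.IsNilpotent P := hP.isNilpotent
    have hNn : N.Normal := by
      rw [← Subgroup.normalizer_eq_top_iff]
      by_contra h
      have hlt := Group.normalizerCondition_of_isNilpotent N hNlt
      exact absurd (hNmax ⟨hAN.trans hlt.le, h⟩ hlt.le) (not_le_of_gt hlt)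
    have hNidx : N.index = 3 := by
      obtain ⟨M, hM, hNM, -, hMc, -⟩ := exists_normal_succ hP N ⊤ hNlt
      have hMtop : M = ⊤ := by
        by_contra h
        exact absurd (hNmax ⟨hAN.trans hNM.le, h⟩ hNM.le) (not_le_of_gt hNM)
      have h2 := N.card_mul_index
      rw [hMtop, Subgroup.card_top] at hMc
      rw [hMc, mul_comm 3] at h2
      exact Nat.eq_of_mul_eq_mul_left Nat.card_pos h2
    have hNlt' : Nat.card ↥N < n := by
      rw [← hn, ← N.card_mul_index, hNidx]
      exact lt_mul_right Nat.card_pos (by norm_num)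
    obtain ⟨B', hB'n, hB'e, hB'c⟩ := ih _ hNlt' ↥N rfl (hP.to_subgroup N)
      ⟨A.subgroupOf N, ⟨isMulCommutative_of fun a ha b hb => Subtype.ext (comm_of hAe.1 _ ha _ hb),
        fun a ha => Subtype.ext (by simpa using hAe.2 _ ha)⟩,
        by rwa [Nat.card_congr (Subgroup.subgroupOfEquivOfLe hAN).toEquiv]⟩
    -- a central element of order three inside `N`
    have hNne : N ≠ ⊥ := fun h => by
      have := hAc.trans (Subgroup.card_le_of_le (hAN.trans h.le))
      rw [Subgroup.card_bot] at this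
      norm_num at this
    obtain ⟨Z, hZn, hZgt, hZN, hZcard, z, hz, hz1, hZz⟩ :=
      exists_normal_succ hP ⊥ N (bot_lt_iff_ne_bot.2 hNne)
    rw [Subgroup.card_bot, mul_one] at hZcard
    have hZe : Cfsg.IsElementaryAbelian 3 Z := by
      have hZ' : Z = Subgroup.zpowers z := hZz.trans (bot_sup_eq _)
      rw [hZ'] at hZcard ⊢
      refine elemAb_zpowers (orderOf_dvd_iff_pow_eq_one.1 ?_)
      rw [← Nat.card_zpowers z, hZcard]
    have hZcen : ∀ x ∈ Z, ∀ g : P, g * x = x * g := by
      haveI := hZn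
      intro x hx g
      let Zc : Subgroup P := Z ⊓ Subgroup.center P
      obtain ⟨M', -, -, hM', hM'c, -⟩ := exists_normal_succ hP ⊥ Zc
        (bot_lt_iff_ne_bot.2 fun h => by
          haveI : Nontrivial ↥Z := Finite.one_lt_card_iff_nontrivial.1 (by rw [hZcard]; norm_num)
          obtain ⟨b, hb, hb1⟩ :=
            (hP.of_equiv ConjAct.toConjAct).exists_fixed_point_of_prime_dvd_card_of_fixed_point
              ↥Z (by rw [hZcard]) (a := (1 : ↥Z)) (fun g => smul_one g)
          apply hb1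
          have hbc : (b : P) ∈ Zc := by
            refine ⟨b.2, Subgroup.mem_center_iff.2 fun g => ?_⟩
            have := congrArg Subtype.val (hb (ConjAct.toConjAct g))
            rw [ConjAct.Subgroup.val_conj_smul, ConjAct.smul_def, ConjAct.ofConjAct_toConjAct] at this
            calc g * (b : P) = g * b * g⁻¹ * g := by group
              _ = b * g := by rw [this]
          rw [h, Subgroup.mem_bot] at hbc
          exact (Subtype.ext hbc).symm)
      have hM'Z : M' = Z := Subgroup.eq_of_le_of_card_ge (hM'.trans inf_le_left)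
        (by rw [hM'c, hZcard, Subgroup.card_bot])
      exact Subgroup.mem_center_iff.1 ((hM'.trans inf_le_right) (hM'Z.symm ▸ hx)) g
    set B1 := B'.map N.subtype ⊔ Z with hB1def
    have hB1N : B1 ≤ N := sup_le (Subgroup.map_subtype_le _) hZN
    have hB1e : Cfsg.IsElementaryAbelian 3 B1 :=
      elemAb_sup (elemAb_map _ hB'e) hZe (fun a _ b hb => hZcen b hb a)
    have hB1c : 3 ^ 4 ≤ Nat.card ↥B1 := by
      refine le_trans ?_ (Subgroup.card_le_of_le (le_sup_left : B'.map N.subtype ≤ B1))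
      rwa [Subgroup.card_map_of_injective N.subtype_injective]
    have hNB1 : N ≤ Subgroup.normalizer (B1 : Set P) := by
      intro g hg
      have hfix : ∀ h ∈ N, B1.map (MulAut.conj h).toMonoidHom ≤ B1 := by
        intro h hh
        rw [hB1def, Subgroup.map_sup, cj_eq_of_normalizes (A := Z)
          (by haveI := hZn; rw [Subgroup.normalizer_eq_top]; trivial)]
        refine sup_le_sup_right ?_ _
        rintro _ ⟨_, ⟨b, hb, rfl⟩, rfl⟩
        exact ⟨⟨h, hh⟩ * b * ⟨h, hh⟩⁻¹, hB'n.conj_mem b hb _, rfl⟩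
      rw [Subgroup.mem_normalizer_iff]
      refine fun x => ⟨fun hx => hfix g hg ⟨x, hx, rfl⟩, fun hx => ?_⟩
      have := hfix g⁻¹ (inv_mem hg) ⟨_, hx, rfl⟩
      simpa [mul_assoc] using this
    obtain ⟨g, hg⟩ : ∃ g : P, g ∉ N := by
      by_contra h
      push Not at h
      exact hNtop (eq_top_iff.2 fun x _ => h x)
    have hg3 : g ^ 3 ∈ N := by
      haveI := hNn
      have := N.pow_index_mem g
      rwa [hNidx] at this
    let cg : Subgroup P → Subgroup P := fun A => A.map (MulAut.conj g).toMonoidHom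
    set B2 := cg B1 with hB2def
    set B3 := cg B2 with hB3def
    have hB31 : cg B3 = B1 := by
      show (((B1.map _).map _).map _) = B1
      rw [cjHom_cjHom, cjHom_cjHom, show g * g * g = g ^ 3 by
        simp [pow_succ, mul_assoc]]
      exact cj_eq_of_normalizes (hNB1 hg3)
    have hcgN : ∀ {A : Subgroup P}, A ≤ N → cg A ≤ N := by
      rintro A hA _ ⟨a, ha, rfl⟩
      exact hNn.conj_mem a (hA ha) g
    have hcgnorm : ∀ {A : Subgroup P}, N ≤ Subgroup.normalizer (A : Set P) →
        N ≤ Subgroup.normalizer (cg A : Set P) := by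
      intro A hA h hh
      rw [Subgroup.mem_normalizer_iff]
      intro x
      have h' : g⁻¹ * h * g ∈ N := by simpa using hNn.conj_mem h hh g⁻¹
      have e : ∀ y, y ∈ cg A ↔ g⁻¹ * y * g ∈ A := fun y =>
        ⟨by rintro ⟨a, ha, rfl⟩; simpa [mul_assoc] using ha,
          fun hy => ⟨_, hy, by simp [mul_assoc]⟩⟩
      rw [e, e, Subgroup.mem_normalizer_iff.1 (hA h') (g⁻¹ * x * g)]
      simp [mul_assoc]
    have hB2N : B2 ≤ N := hcgN hB1N
    have hB3N : B3 ≤ N := hcgN hB2N
    have hNB2 : N ≤ Subgroup.normalizer (B2 : Set P) := hcgnorm hNB1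
    have hNB3 : N ≤ Subgroup.normalizer (B3 : Set P) := hcgnorm hNB2
    have hB2e : Cfsg.IsElementaryAbelian 3 B2 := elemAb_map _ hB1e
    have hB3e : Cfsg.IsElementaryAbelian 3 B3 := elemAb_map _ hB2e
    -- a subgroup normalized by `N` and by `g` is normal
    have hnorm : ∀ X : Subgroup P, N ≤ Subgroup.normalizer (X : Set P) → cg X = X → X.Normal := by
      intro X hX hgX
      rw [← Subgroup.normalizer_eq_top_iff]
      by_contra h
      have hle := hNmax ⟨hAN.trans hX, h⟩ hX
      apply hg (hle ?_)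
      rw [Subgroup.mem_normalizer_iff]
      intro x
      conv_rhs => rw [← hgX]
      exact (Subgroup.mem_map_iff_mem (MulAut.conj g).injective).symm
    have hsup_norm : ∀ {X Y : Subgroup P}, N ≤ Subgroup.normalizer (X : Set P) →
        N ≤ Subgroup.normalizer (Y : Set P) → N ≤ Subgroup.normalizer ((X ⊔ Y : Subgroup P) : Set P) := by
      intro X Y hX hY h hh
      rw [Subgroup.mem_normalizer_iff]
      intro x
      have e : (X ⊔ Y).map (MulAut.conj h).toMonoidHom = X ⊔ Y := by
        rw [Subgroup.map_sup, cj_eq_of_normalizes (hX hh), cj_eq_of_normalizes (hY hh)]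
      conv_rhs => rw [← e]
      exact (Subgroup.mem_map_iff_mem (MulAut.conj h).injective).symm
    have hinf_norm : ∀ {X Y : Subgroup P}, N ≤ Subgroup.normalizer (X : Set P) →
        N ≤ Subgroup.normalizer (Y : Set P) → N ≤ Subgroup.normalizer ((X ⊓ Y : Subgroup P) : Set P) := by
      intro X Y hX hY h hh
      rw [Subgroup.mem_normalizer_iff]
      intro x
      simp only [Subgroup.mem_inf]
      exact and_congr (Subgroup.mem_normalizer_iff.1 (hX hh) x)
        (Subgroup.mem_normalizer_iff.1 (hY hh) x)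
    have hcg_inf : ∀ X Y, cg (X ⊓ Y) = cg X ⊓ cg Y := fun X Y =>
      Subgroup.map_inf _ _ _ (MulAut.conj g).injective
    set D := B1 ⊓ B2 ⊓ B3 with hDdef
    have hcgD : cg D = D := by
      rw [hDdef, hcg_inf, hcg_inf, hB31, ← hB2def, ← hB3def, inf_comm, ← inf_assoc]
    haveI hDn : D.Normal := hnorm D (hinf_norm (hinf_norm hNB1 hNB2) hNB3) hcgD
    have hZB : ∀ {A : Subgroup P}, Z ≤ A → Z ≤ cg A := by
      intro A hA
      refine le_trans (le_of_eq ?_) (Subgroup.map_mono hA)
      haveI := hZn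
      exact (cj_eq_of_normalizes (by rw [Subgroup.normalizer_eq_top]; trivial)).symm
    have hDbig : 3 ≤ Nat.card ↥D := hZcard.symm.le.trans (Subgroup.card_le_of_le
      (le_inf (le_inf le_sup_right (hZB le_sup_right)) (hZB (hZB le_sup_right))))
    set K := (B1 ⊓ B2) ⊔ (B2 ⊓ B3) ⊔ (B3 ⊓ B1) with hKdef
    have hcgK : cg K = K := by
      show K.map _ = K
      rw [hKdef, Subgroup.map_sup, Subgroup.map_sup]
      show cg (B1 ⊓ B2) ⊔ cg (B2 ⊓ B3) ⊔ cg (B3 ⊓ B1) = _
      rw [hcg_inf, hcg_inf, hcg_inf, hB31, ← hB2def, ← hB3def, sup_comm, ← sup_assoc]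
    haveI hKn : K.Normal := hnorm K
      (hsup_norm (hsup_norm (hinf_norm hNB1 hNB2) (hinf_norm hNB2 hNB3)) (hinf_norm hNB3 hNB1)) hcgK
    have hKe : Cfsg.IsElementaryAbelian 3 K := by
      rw [hKdef, show (B1 ⊓ B2) ⊔ (B2 ⊓ B3) ⊔ (B3 ⊓ B1) =
        Subgroup.closure (((B1 ⊓ B2 : Subgroup P) : Set P) ∪ (B2 ⊓ B3 : Subgroup P) ∪ (B3 ⊓ B1 : Subgroup P))
          by rw [Subgroup.closure_union, Subgroup.closure_union, Subgroup.closure_eq,
            Subgroup.closure_eq, Subgroup.closure_eq]]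
      refine elemAb_closure ?_ ?_
      · rintro a ((⟨ha, ha'⟩ | ⟨ha, ha'⟩) | ⟨ha, ha'⟩) b ((⟨hb, hb'⟩ | ⟨hb, hb'⟩) | ⟨hb, hb'⟩)
        all_goals first
          | exact comm_of hB1e.1 a ha b hb
          | exact comm_of hB1e.1 a ha b hb'
          | exact comm_of hB1e.1 a ha' b hb
          | exact comm_of hB1e.1 a ha' b hb'
          | exact comm_of hB2e.1 a ha b hb
          | exact comm_of hB2e.1 a ha b hb'
          | exact comm_of hB2e.1 a ha' b hb
          | exact comm_of hB2e.1 a ha' b hb'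
          | exact comm_of hB3e.1 a ha b hb
          | exact comm_of hB3e.1 a ha b hb'
          | exact comm_of hB3e.1 a ha' b hb
          | exact comm_of hB3e.1 a ha' b hb'
      · rintro a ((⟨ha, -⟩ | ⟨ha, -⟩) | ⟨ha, -⟩)
        · exact hB1e.2 a ha
        · exact hB2e.2 a ha
        · exact hB3e.2 a ha
    by_cases hKbig : 3 ^ 4 ≤ Nat.card ↥K
    · exact ⟨K, hKn, hKe, hKbig⟩
    -- the pairwise intersections all equal `D`
    have hV : B1 ⊓ B2 ≤ D := by
      by_contra hV
      have hV31 : ¬ B3 ⊓ B1 ≤ B1 ⊓ B2 := by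
        intro h
        apply hV
        have h1 : B3 ⊓ B1 ≤ D :=
          le_inf (le_inf inf_le_right (h.trans inf_le_right)) inf_le_left
        calc B1 ⊓ B2 = cg (B3 ⊓ B1) := by rw [hcg_inf, hB31]
          _ ≤ cg D := Subgroup.map_mono h1
          _ = D := hcgD
      have h1 : D < B1 ⊓ B2 := lt_of_le_not_ge inf_le_left hV
      have h2 : B1 ⊓ B2 < (B1 ⊓ B2) ⊔ (B3 ⊓ B1) :=
        lt_of_le_not_ge le_sup_left fun h => hV31 (le_sup_right.trans h)
      have hle : (B1 ⊓ B2) ⊔ (B3 ⊓ B1) ≤ K :=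
        sup_le (le_sup_left.trans le_sup_left) le_sup_right
      have hK3 : Nat.card ↥K ≤ 3 ^ 3 := by
        obtain ⟨j, hj⟩ := (hP.to_subgroup K).exists_card_eq
        rw [hj] at hKbig ⊢
        exact Nat.pow_le_pow_right (by norm_num) (by
          by_contra h
          exact hKbig (Nat.pow_le_pow_right (by norm_num) (by omega)))
      have h3 := lt_card_mul hP h1
      have h4 := lt_card_mul hP h2
      have hKeq : (B1 ⊓ B2) ⊔ (B3 ⊓ B1) = K := Subgroup.eq_of_le_of_card_ge hle (by omega)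
      have hK1 : K ≤ B1 := hKeq ▸ sup_le inf_le_left inf_le_right
      have hK2 : K ≤ B2 := by rw [← hcgK]; exact Subgroup.map_mono hK1
      have hK3' : K ≤ B3 := by rw [← hcgK]; exact Subgroup.map_mono hK2
      exact hV ((le_sup_left.trans le_sup_left).trans (le_inf (le_inf hK1 hK2) hK3'))
    have hV23 : B2 ⊓ B3 ≤ D :=
      calc B2 ⊓ B3 = cg (B1 ⊓ B2) := by rw [hcg_inf, ← hB2def]
        _ ≤ cg D := Subgroup.map_mono hV
        _ = D := hcgD
    have hV31' : B3 ⊓ B1 ≤ D :=
      calc B3 ⊓ B1 = cg (B2 ⊓ B3) := by rw [hcg_inf, hB31, ← hB3def]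
        _ ≤ cg D := Subgroup.map_mono hV23
        _ = D := hcgD
    set W := B1 ⊔ B2 ⊔ B3 with hWdef
    have hcgW : cg W = W := by
      show W.map _ = W
      rw [hWdef, Subgroup.map_sup, Subgroup.map_sup]
      show cg B1 ⊔ cg B2 ⊔ cg B3 = _
      rw [hB31, ← hB2def, ← hB3def, sup_comm, ← sup_assoc]
    haveI hWn : W.Normal := hnorm W (hsup_norm (hsup_norm hNB1 hNB2) hNB3) hcgW
    have hDW : ∀ d ∈ D, ∀ w ∈ W, d * w = w * d := by
      intro d hd
      have : W ≤ Subgroup.centralizer {d} := sup_le (sup_le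
        (fun b hb => Subgroup.mem_centralizer_singleton_iff.2 (comm_of hB1e.1 b hb d hd.1.1))
        (fun b hb => Subgroup.mem_centralizer_singleton_iff.2 (comm_of hB2e.1 b hb d hd.1.2)))
        (fun b hb => Subgroup.mem_centralizer_singleton_iff.2 (comm_of hB3e.1 b hb d hd.2))
      exact fun w hw => (Subgroup.mem_centralizer_singleton_iff.1 (this hw)).symm
    -- commutators of the generators lie in `D`
    have hpair : ∀ {X Y : Subgroup P}, X ≤ N → Y ≤ N → N ≤ Subgroup.normalizer (X : Set P) →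
        N ≤ Subgroup.normalizer (Y : Set P) → X ⊓ Y ≤ D → ∀ a ∈ X, ∀ b ∈ Y,
        a * b * a⁻¹ * b⁻¹ ∈ D := by
      intro X Y hXN hYN hXn hYn hXY a ha b hb
      refine hXY (Subgroup.mem_inf.2 ⟨?_, ?_⟩)
      · have := (Subgroup.mem_normalizer_iff.1 (hXn (hYN hb)) a⁻¹).1 (inv_mem ha)
        have := mul_mem ha this
        simpa [mul_assoc] using this
      · have := (Subgroup.mem_normalizer_iff.1 (hYn (hXN ha)) b).1 hb
        exact mul_mem this (inv_mem hb)
    have hgens : ∀ a ∈ ((B1 : Set P) ∪ B2 ∪ B3), ∀ b ∈ ((B1 : Set P) ∪ B2 ∪ B3),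
        a * b * a⁻¹ * b⁻¹ ∈ D := by
      have hz : ∀ {X : Subgroup P}, Cfsg.IsElementaryAbelian 3 X → ∀ a ∈ X, ∀ b ∈ X,
          a * b * a⁻¹ * b⁻¹ ∈ D := fun hX a ha b hb => by
        rw [comm_of hX.1 a ha b hb]; simp
      have hswap : ∀ {a b : P}, a * b * a⁻¹ * b⁻¹ ∈ D → b * a * b⁻¹ * a⁻¹ ∈ D := fun h => by
        simpa [mul_assoc] using inv_mem h
      rintro a ((ha | ha) | ha) b ((hb | hb) | hb)
      · exact hz hB1e a ha b hb
      · exact hpair hB1N hB2N hNB1 hNB2 hV a ha b hb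
      · exact hswap (hpair hB3N hB1N hNB3 hNB1 hV31' b hb a ha)
      · exact hswap (hpair hB1N hB2N hNB1 hNB2 hV b hb a ha)
      · exact hz hB2e a ha b hb
      · exact hpair hB2N hB3N hNB2 hNB3 hV23 a ha b hb
      · exact hpair hB3N hB1N hNB3 hNB1 hV31' a ha b hb
      · exact hswap (hpair hB2N hB3N hNB2 hNB3 hV23 b hb a ha)
      · exact hz hB3e a ha b hb
    have hWcl : W = Subgroup.closure ((B1 : Set P) ∪ B2 ∪ B3) := by
      rw [Subgroup.closure_union, Subgroup.closure_union, Subgroup.closure_eq, Subgroup.closure_eq,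
        Subgroup.closure_eq]
    have hcommW : ∀ x ∈ W, ∀ y ∈ W, x * y * x⁻¹ * y⁻¹ ∈ D := by
      set q := QuotientGroup.mk' D
      have hq : ∀ x y : P, Commute (q x) (q y) → x * y * x⁻¹ * y⁻¹ ∈ D := fun x y h => by
        refine (QuotientGroup.eq_one_iff _).1 ?_
        show q (x * y * x⁻¹ * y⁻¹) = 1
        rw [map_mul, map_mul, map_mul, map_inv, map_inv, h.eq]
        simp
      have hc : IsMulCommutative ↥(W.map q) := by
        rw [hWcl, MonoidHom.map_closure]
        refine Subgroup.isMulCommutative_closure ?_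
        rintro _ ⟨a, ha, rfl⟩ _ ⟨b, hb, rfl⟩
        have h1 : q (a * b * a⁻¹ * b⁻¹) = 1 := (QuotientGroup.eq_one_iff _).2 (hgens a ha b hb)
        rw [map_mul, map_mul, map_mul, map_inv, map_inv, mul_inv_eq_one, mul_inv_eq_iff_eq_mul] at h1
        exact h1
      exact fun x hx y hy => hq x y (comm_of hc _ ⟨x, hx, rfl⟩ _ ⟨y, hy, rfl⟩)
    have hexpW : ∀ x ∈ W, x ^ 3 = 1 := by
      intro x hx
      rw [hWcl] at hx
      induction hx using Subgroup.closure_induction with
      | mem x hx =>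
        rcases hx with (hx | hx) | hx
        · exact hB1e.2 x hx
        · exact hB2e.2 x hx
        · exact hB3e.2 x hx
      | one => exact one_pow 3
      | mul x y hx hy ihx ihy =>
        rw [← hWcl] at hx hy
        set c := y * x * y⁻¹ * x⁻¹ with hc
        have hcD : c ∈ D := hcommW y hy x hx
        have hc3 : c * c * c = 1 := by
          have := hB1e.2 c hcD.1.1
          simpa [pow_succ, mul_assoc] using this
        have hyx : y * x = c * x * y := by rw [hc]; group
        have cx : Commute c x := hDW c hcD x hx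
        have cy : Commute c y := hDW c hcD y hy
        calc (x * y) ^ 3 = x * (y * x) * (y * x) * y := by simp [pow_succ, mul_assoc]
          _ = x * (c * x * y) * (c * x * y) * y := by rw [hyx]
          _ = c * c * (x * x * (y * x) * y * y) := by
            simp only [mul_assoc, cx.eq, cx.symm.left_comm, cy.symm.left_comm]
          _ = c * c * (x * x * (c * x * y) * y * y) := by rw [hyx]
          _ = (c * c * c) * (x ^ 3 * y ^ 3) := by
            simp only [mul_assoc, cx.symm.left_comm, pow_succ, pow_zero, one_mul]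
          _ = 1 := by rw [hc3, ihx, ihy]; simp
      | inv x hx ih => rw [inv_pow, ih, inv_one]
    refine normal81_of_small_class_two hP W D B1 B2 hDbig hDW (inf_le_left.trans inf_le_left) hcommW
      hexpW hB1e (le_sup_left.trans le_sup_left) hB2e (le_sup_right.trans le_sup_left) hB1c ?_ ?_
    · exact fun h => hnorm B1 hNB1 h.symm
    · exact (Subgroup.card_map_of_injective (MulAut.conj g).injective).symm

/-- In a 3-group of rank at least four every elementary abelian subgroup of order nine lies in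
one of order 27. -/
theorem exists_elemAb_27_centralizing [Finite P] (hP : IsPGroup 3 P) (B E : Subgroup P) [B.Normal]
    (hB : Cfsg.IsElementaryAbelian 3 B) (hBc : 3 ^ 4 ≤ Nat.card ↥B)
    (hE : Cfsg.IsElementaryAbelian 3 E) (hEc : 3 ^ 2 ≤ Nat.card ↥E) :
    ∃ A : Subgroup P, A ≤ Subgroup.centralizer (E : Set P) ∧ Cfsg.IsElementaryAbelian 3 A ∧
      3 ^ 2 < Nat.card ↥A := by
  classical
  haveI : Fact (Nat.Prime 3) := ⟨Nat.prime_three⟩
  rcases Nat.lt_or_ge (3 ^ 2) (Nat.card ↥E) with h | h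
  · exact ⟨E, fun a ha => Subgroup.mem_centralizer_iff.2 fun b hb => comm_of hE.1 b hb a ha, hE, h⟩
  have hEeq : Nat.card ↥E = 3 ^ 2 := le_antisymm h hEc
  by_cases hEB : E ≤ B
  · exact ⟨B, fun a ha => Subgroup.mem_centralizer_iff.2 fun b hb => comm_of hB.1 b (hEB hb) a ha,
      hB, lt_of_lt_of_le (by norm_num) hBc⟩
  -- it suffices to find a subgroup of `B` centralizing `E`, not inside `E`
  suffices hT : ∃ t ∈ B, t ∉ E ∧ ∀ e ∈ E, e * t = t * e by
    obtain ⟨t, htB, htE, htc⟩ := hT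
    have hsup := elemAb_sup hE (elemAb_zpowers (hB.2 t htB)) (by
      rintro a ha _ ⟨i, rfl⟩
      exact (show Commute a t from htc a ha).zpow_right i)
    refine ⟨E ⊔ Subgroup.zpowers t, fun a ha => Subgroup.mem_centralizer_iff.2 fun b hb =>
      comm_of hsup.1 b (le_sup_left (α := Subgroup P) hb) a ha, hsup, ?_⟩
    have hlt : E < E ⊔ Subgroup.zpowers t := lt_of_le_not_ge le_sup_left fun h =>
      htE (h (le_sup_right (α := Subgroup P) (Subgroup.mem_zpowers t)))
    have := lt_card_mul hP hlt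
    omega
  -- a central element of order three in `B`
  have hBne : B ≠ ⊥ := fun h => by
    rw [h, Subgroup.card_bot] at hBc; norm_num at hBc
  haveI : Nontrivial ↥B := (Subgroup.nontrivial_iff_ne_bot B).2 hBne
  obtain ⟨n, hn, hcard⟩ := (hP.to_subgroup B).nontrivial_iff_card.1 ‹_›
  obtain ⟨z, hz, hz1⟩ :=
    (hP.of_equiv ConjAct.toConjAct).exists_fixed_point_of_prime_dvd_card_of_fixed_point
      ↥B (hcard ▸ dvd_pow_self 3 (by omega)) (a := (1 : ↥B)) (fun g => smul_one g)
  have hzc : ∀ g : P, g * (z : P) = z * g := fun g => by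
    have := congrArg Subtype.val (hz (ConjAct.toConjAct g))
    rw [ConjAct.Subgroup.val_conj_smul, ConjAct.smul_def, ConjAct.ofConjAct_toConjAct] at this
    calc g * (z : P) = g * z * g⁻¹ * g := by group
      _ = z * g := by rw [this]
  by_cases hzE : (z : P) ∈ E
  swap
  · exact ⟨z, z.2, hzE, fun e _ => hzc e⟩
  obtain ⟨x, hxE, hxB⟩ := SetLike.not_le_iff_exists.1 hEB
  -- `E` is generated by `z` and `x`
  have hEgen : E ≤ Subgroup.zpowers (z : P) ⊔ Subgroup.zpowers x := by
    have h1 : Subgroup.zpowers (z : P) < Subgroup.zpowers (z : P) ⊔ Subgroup.zpowers x :=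
      lt_of_le_not_ge le_sup_left fun h => hxB (Subgroup.zpowers_le.2 z.2
        (h (le_sup_right (α := Subgroup P) (Subgroup.mem_zpowers x))))
    have h2 := lt_card_mul hP h1
    rw [Nat.card_zpowers, orderOf_eq_prime (hB.2 _ z.2)
      (fun h => hz1 (Subtype.ext h.symm))] at h2
    exact (Subgroup.eq_of_le_of_card_ge (sup_le (Subgroup.zpowers_le.2 hzE)
      (Subgroup.zpowers_le.2 hxE)) (by omega)).ge
  -- the fixed points of `x` on `B`
  have hBn : B.Normal := inferInstance
  let σ : P → P := fun b => x * b * x⁻¹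
  let φ : ↥B →* ↥B :=
    { toFun := fun b => ⟨x * b * x⁻¹ * (b : P)⁻¹, mul_mem (hBn.conj_mem b b.2 x) (inv_mem b.2)⟩
      map_one' := Subtype.ext (by simp)
      map_mul' := fun a b => Subtype.ext (by
        simp only [Subgroup.coe_mul]
        have hca : x * (b : P) * x⁻¹ * (b : P)⁻¹ * (a : P)⁻¹ = (a : P)⁻¹ * (x * b * x⁻¹ * (b : P)⁻¹) :=
          comm_of hB.1 _ (mul_mem (hBn.conj_mem b b.2 x) (inv_mem b.2)) _ (inv_mem a.2)
        calc x * ((a : P) * b) * x⁻¹ * ((a : P) * b)⁻¹
            = x * a * x⁻¹ * (x * b * x⁻¹ * (b : P)⁻¹ * (a : P)⁻¹) := by group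
          _ = _ := by rw [hca]; group) }
  have hkermem : ∀ b : ↥B, b ∈ φ.ker ↔ x * (b : P) = b * x := fun b => by
    rw [MonoidHom.mem_ker]
    constructor
    · intro h
      have h1 : x * (b : P) * x⁻¹ * (b : P)⁻¹ = 1 := congrArg Subtype.val h
      rw [mul_inv_eq_one, mul_inv_eq_iff_eq_mul] at h1
      exact h1
    · intro h
      exact Subtype.ext (show x * (b : P) * x⁻¹ * (b : P)⁻¹ = 1 by rw [h]; group)
  have hx3 : x ^ 3 = 1 := hE.2 x hxE
  have hφ3 : ∀ b : ↥B, φ (φ (φ b)) = 1 := by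
    intro b
    letI : CommGroup ↥B := { (inferInstance : Group ↥B) with
      mul_comm := fun a c => Subtype.ext (comm_of hB.1 a a.2 c c.2) }
    let s : ↥B →* ↥B := (MulAut.conjNormal (H := B) x).toMonoidHom
    have hs : ∀ c, φ c = s c * c⁻¹ := fun c => Subtype.ext rfl
    have hs3 : s (s (s b)) = b := Subtype.ext (by
      show x * (x * (x * b * x⁻¹) * x⁻¹) * x⁻¹ = b
      calc x * (x * (x * (b : P) * x⁻¹) * x⁻¹) * x⁻¹ = x ^ 3 * b * (x ^ 3)⁻¹ := by
            simp [pow_succ, mul_assoc]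
        _ = b := by rw [hx3]; simp)
    have h3 : ∀ c : ↥B, c ^ 3 = 1 := fun c => Subtype.ext (by simpa using hB.2 c c.2)
    rw [hs, hs, hs]
    simp only [map_mul, map_inv, hs3, mul_inv_rev, inv_inv]
    calc _ = (s b) ^ 3 * ((s (s b)) ^ 3)⁻¹ := by
          simp only [pow_succ, pow_zero, one_mul, mul_inv_rev]
          simp only [mul_comm, mul_left_comm, mul_assoc, inv_mul_cancel_left, mul_inv_cancel_left,
            inv_mul_cancel, mul_inv_cancel, mul_one, one_mul]
      _ = 1 := by rw [h3, h3]; simp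
  -- hence `|B| ≤ |ker φ| ^ 3`
  have hbound : Nat.card ↥B ≤ Nat.card ↥φ.ker ^ 3 := by
    have h1 : ∀ (f : ↥B →* ↥B), Nat.card ↥B = Nat.card ↥f.ker * Nat.card ↥f.range := fun f => by
      rw [← Subgroup.index_ker, Subgroup.card_mul_index]
    have h2 : ∀ (S : Subgroup ↥B), Nat.card ↥S ≤ Nat.card ↥φ.ker * Nat.card ↥(S.map φ) := by
      intro S
      have h4 := Subgroup.card_mul_index (φ.comp S.subtype).ker
      rw [Subgroup.index_ker, MonoidHom.range_comp, Subgroup.range_subtype] at h4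
      rw [← h4]
      refine Nat.mul_le_mul_right _ (Nat.card_le_card_of_injective
        (fun k => (⟨(k : ↥S), k.2⟩ : ↥φ.ker)) ?_)
      intro a c h
      exact Subtype.ext (Subtype.ext (congrArg (fun t : ↥φ.ker => (t : ↥B)) h))
    have h3 : (φ.range.map φ).map φ = ⊥ := by
      rw [eq_bot_iff]
      rintro _ ⟨_, ⟨_, ⟨b, rfl⟩, rfl⟩, rfl⟩
      exact hφ3 b
    calc Nat.card ↥B = Nat.card ↥φ.ker * Nat.card ↥φ.range := h1 φ
      _ ≤ Nat.card ↥φ.ker * (Nat.card ↥φ.ker * Nat.card ↥(φ.range.map φ)) :=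
          Nat.mul_le_mul_left _ (h2 _)
      _ ≤ Nat.card ↥φ.ker * (Nat.card ↥φ.ker * (Nat.card ↥φ.ker * Nat.card ↥((φ.range.map φ).map φ))) :=
          Nat.mul_le_mul_left _ (Nat.mul_le_mul_left _ (h2 _))
      _ = Nat.card ↥φ.ker ^ 3 := by
          rw [h3, Subgroup.card_bot, pow_succ, pow_two, mul_one, mul_assoc]
  by_contra hcon
  push Not at hcon
  -- otherwise the fixed points lie in the group generated by `z`
  have hker : Nat.card ↥φ.ker ≤ 3 := by
    have hle : (φ.ker.map B.subtype) ≤ Subgroup.zpowers (z : P) := by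
      rintro _ ⟨b, hb, rfl⟩
      show (b : P) ∈ _
      by_cases hbE : (b : P) ∈ E
      · -- `b ∈ E ∩ B`
        by_contra hbz
        have h1 : Subgroup.zpowers (z : P) < Subgroup.zpowers (z : P) ⊔ Subgroup.zpowers (b : P) :=
          lt_of_le_not_ge le_sup_left fun h =>
            hbz (h (le_sup_right (α := Subgroup P) (Subgroup.mem_zpowers _)))
        have h2 := lt_card_mul hP h1
        rw [Nat.card_zpowers, orderOf_eq_prime (hB.2 _ z.2)
          (fun h => hz1 (Subtype.ext h.symm))] at h2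
        have h3 : Subgroup.zpowers (z : P) ⊔ Subgroup.zpowers (b : P) = E :=
          Subgroup.eq_of_le_of_card_ge (sup_le (Subgroup.zpowers_le.2 hzE)
            (Subgroup.zpowers_le.2 hbE)) (by omega)
        apply hEB
        rw [← h3]
        exact sup_le (Subgroup.zpowers_le.2 z.2) (Subgroup.zpowers_le.2 b.2)
      · exfalso
        obtain ⟨e, he, hne⟩ := hcon b b.2 hbE
        apply hne
        have : Subgroup.zpowers (z : P) ⊔ Subgroup.zpowers x ≤ Subgroup.centralizer {(b : P)} := by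
          refine sup_le ?_ ?_ <;> rw [Subgroup.zpowers_le, Subgroup.mem_centralizer_singleton_iff]
          · exact (hzc _).symm
          · exact (hkermem b).1 hb
        exact Subgroup.mem_centralizer_singleton_iff.1 (this (hEgen he))
    have := Subgroup.card_le_of_le hle
    rwa [Subgroup.card_map_of_injective B.subtype_injective, Nat.card_zpowers,
      orderOf_eq_prime (hB.2 _ z.2) (fun h => hz1 (Subtype.ext h.symm))] at this
  have := hBc.trans (hbound.trans (Nat.pow_le_pow_left hker 3))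
  norm_num at this

end Cfsg.Agent.H9
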